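import Mathlib
import Cfsg.Agent.S1018
import Cfsg.Agent.S1019
import Cfsg.Agent.Lib.H5.ConjCount
import Cfsg.Agent.Lib.H5.SimpleTools
import Cfsg.Agent.Lib.H2.SimpleAct

set_option autoImplicit false

/-! # Fixed-point counting for the action on the cosets of the normalizer of a Sylow subgroup of
prime order -/

namespace Cfsg.Agent.Lib.H5.SylPrime

open Subgroup MulAction

variable {G : Type*} [Group G]

/-- If `x` and `y` commute, the fixed points of `y` on `Ω` are permuted by `x`; when `x` has prime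
order `p` and exactly one fixed point, the number of fixed points of `y` is `≡ 1 (mod p)`. -/
theorem card_fixedBy_modEq_one_of_commute {Ω : Type*} [MulAction G Ω] [Finite Ω] {p : ℕ}
    [Fact p.Prime] {x y : G} (hx : orderOf x = p) (hxy : Commute x y) {ω₀ : Ω}
    (hfix : fixedBy Ω x = {ω₀}) : Nat.card (fixedBy Ω y) ≡ 1 [MOD p] := by
  -- the subgroup generated by x acts on the fixed points of y
  let H : Subgroup G := zpowers x
  have hHy : ∀ h ∈ H, Commute h y := by
    intro h hh
    obtain ⟨k, rfl⟩ := mem_zpowers_iff.mp hh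
    exact hxy.zpow_left k
  let S : SubMulAction H Ω :=
    { carrier := fixedBy Ω y
      smul_mem' := by
        intro h ω hω
        have hω' : y • ω = ω := hω
        show y • ((h : G) • ω) = (h : G) • ω
        rw [← mul_smul, ← (hHy h h.2).eq, mul_smul, hω'] }
  have hpg : IsPGroup p H := by
    apply IsPGroup.of_card (n := 1)
    rw [pow_one, Nat.card_zpowers, hx]
  have key := hpg.card_modEq_card_fixedPoints S
  have hcard : Nat.card S = Nat.card (fixedBy Ω y) := rfl
  have hω₀y : y • ω₀ = ω₀ := by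
    have h1 : y • ω₀ ∈ fixedBy Ω x := by
      rw [mem_fixedBy, ← mul_smul, hxy.eq, mul_smul]
      congr 1
      have : ω₀ ∈ fixedBy Ω x := by rw [hfix]; exact Set.mem_singleton _
      exact this
    rw [hfix] at h1
    exact h1
  have hfp : Nat.card (fixedPoints H S) = 1 := by
    rw [Nat.card_eq_one_iff_unique]
    refine ⟨⟨?_⟩, ⟨⟨⟨ω₀, hω₀y⟩, ?_⟩⟩⟩
    · rintro ⟨⟨a, ha⟩, ha'⟩ ⟨⟨b, hb⟩, hb'⟩
      have h1 : a ∈ fixedBy Ω x := by
        rw [mem_fixedBy]
        have := ha' ⟨x, mem_zpowers x⟩
        exact congrArg Subtype.val this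
      have h2 : b ∈ fixedBy Ω x := by
        rw [mem_fixedBy]
        have := hb' ⟨x, mem_zpowers x⟩
        exact congrArg Subtype.val this
      rw [hfix, Set.mem_singleton_iff] at h1 h2
      subst h1 h2
      rfl
    · intro h
      apply Subtype.ext
      show (h : G) • ω₀ = ω₀
      obtain ⟨k, hk⟩ := mem_zpowers_iff.mp h.2
      rw [← hk]
      have : ω₀ ∈ fixedBy Ω x := by rw [hfix]; exact Set.mem_singleton _
      exact (MulAction.zpow_smul_eq_iff_period_dvd.mpr
        (by rw [MulAction.period_eq_one_iff.mpr this]; exact one_dvd _))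
  rw [hfp, hcard] at key
  exact key

/-- For a Sylow `p`-subgroup of order `p`, an element centralizing it fixes `≡ 1 (mod p)` cosets of
its normalizer. -/
theorem card_fixedBy_modEq_one [Finite G] (p : ℕ) [Fact p.Prime] (P : Sylow p G)
    (hP : Nat.card ↥(P : Subgroup G) = p) {y : G} (hy : y ∈ centralizer ((P : Subgroup G) : Set G)) :
    Nat.card (fixedBy (G ⧸ normalizer ((P : Subgroup G) : Set G)) y) ≡ 1 [MOD p] := by
  have hp : p.Prime := Fact.out
  obtain ⟨x, hxP, hx⟩ : ∃ x ∈ (P : Subgroup G), orderOf x = p := by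
    have : Fact p.Prime := ⟨hp⟩
    have hd : p ∣ Nat.card (P : Subgroup G) := by rw [hP]
    obtain ⟨x, hx⟩ := exists_prime_orderOf_dvd_card' (G := (P : Subgroup G)) p hd
    exact ⟨x, x.2, by rw [Subgroup.orderOf_coe]; exact hx⟩
  obtain ⟨g₀, hg₀⟩ := Cfsg.Agent.S1018.fixedBy_eq_singleton p P hP x hx
  have hxy : Commute x y := by
    rw [mem_centralizer_iff] at hy
    exact (hy x hxP)
  exact card_fixedBy_modEq_one_of_commute hx hxy hg₀

/-- An element of prime power order `r ^ k` fixes `≡ |Ω| (mod r)` points. -/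
theorem card_modEq_card_fixedBy {Ω : Type*} [MulAction G Ω] [Finite Ω] {r k : ℕ} [Fact r.Prime]
    {y : G} (hy : orderOf y = r ^ k) : Nat.card Ω ≡ Nat.card (fixedBy Ω y) [MOD r] := by
  have hpg : IsPGroup r (zpowers y) := by
    apply IsPGroup.of_card (n := k)
    rw [Nat.card_zpowers, hy]
  have key := hpg.card_modEq_card_fixedPoints Ω
  have : fixedPoints (zpowers y) Ω = fixedBy Ω y := by
    ext ω
    rw [mem_fixedPoints, mem_fixedBy]
    constructor
    · intro h
      exact h ⟨y, mem_zpowers y⟩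
    · rintro h ⟨z, hz⟩
      obtain ⟨j, rfl⟩ := mem_zpowers_iff.mp hz
      show y ^ j • ω = ω
      exact (MulAction.zpow_smul_eq_iff_period_dvd.mpr
        (by rw [MulAction.period_eq_one_iff.mpr h]; exact one_dvd _))
  rw [this] at key
  exact key

/-- The number of fixed cosets is at most the index. -/
theorem card_fixedBy_le_index [Finite G] (H : Subgroup G) (y : G) :
    Nat.card (fixedBy (G ⧸ H) y) ≤ H.index := by
  rw [Subgroup.index_eq_card]
  exact Nat.card_le_card_of_injective _ Subtype.val_injective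

/-- In a simple group, an element fixing all cosets of a proper subgroup is trivial. -/
theorem eq_one_of_card_fixedBy_eq [Finite G] [IsSimpleGroup G] (H : Subgroup G) (hH : H ≠ ⊤)
    {y : G} (hy : Nat.card (fixedBy (G ⧸ H) y) = H.index) : y = 1 := by
  have hall : ∀ q : G ⧸ H, y • q = q := by
    have huniv : fixedBy (G ⧸ H) y = Set.univ := by
      have h1 : (fixedBy (G ⧸ H) y).ncard = (Set.univ : Set (G ⧸ H)).ncard := by
        rw [← Nat.card_coe_set_eq, hy, Subgroup.index_eq_card, Set.ncard_univ]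
      exact Set.eq_of_subset_of_ncard_le (Set.subset_univ _) h1.ge Set.finite_univ
    intro q
    have : q ∈ fixedBy (G ⧸ H) y := by rw [huniv]; exact Set.mem_univ _
    exact this
  -- some element moves the trivial coset
  obtain ⟨g₀, hg₀⟩ : ∃ g₀ : G, g₀ ∉ H := by
    by_contra h
    push Not at h
    exact hH (eq_top_iff.mpr fun g _ => h g)
  have hne : g₀ • (QuotientGroup.mk 1 : G ⧸ H) ≠ QuotientGroup.mk 1 := by
    rw [MulAction.Quotient.smul_mk, Ne, QuotientGroup.eq]
    simpa using hg₀
  exact Cfsg.Agent.Lib.H2.SimpleAct.eq_one_of_forall_smul hne hall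

/-- An involution of a simple group of order `> 2` fixes `≡ index (mod 4)` cosets. -/
theorem four_dvd_index_sub_card_fixedBy [Finite G] [IsSimpleGroup G] (hG : 2 < Nat.card G)
    (H : Subgroup G) {t : G} (ht : orderOf t = 2) :
    4 ∣ H.index - Nat.card (fixedBy (G ⧸ H) t) := by
  have ht2 : t * t = 1 := by rw [← pow_two, ← ht, pow_orderOf_eq_one]
  have := Cfsg.Agent.Lib.H2.SimpleAct.four_dvd_moved (Ω := G ⧸ H) hG ht2
  rw [← Subgroup.index_eq_card] at this
  have e : ({a : G ⧸ H | t • a = a} : Set (G ⧸ H)).ncard = Nat.card (fixedBy (G ⧸ H) t) := by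
    rw [← Nat.card_coe_set_eq]
    rfl
  rwa [e] at this

/-- `fix(y) * |H| = |C_G(y)| * |y^G ∩ H|`. -/
theorem card_fixedBy_mul_card [Finite G] (H : Subgroup G) {y : G} (hy : y ∈ H) :
    Nat.card (fixedBy (G ⧸ H) y) * Nat.card H =
      Nat.card (centralizer ({y} : Set G)) * Nat.card {g : G // IsConj y g ∧ g ∈ H} := by
  have h1 := Cfsg.Agent.S1019.result H y hy
  have h2 := Cfsg.Agent.Lib.H5.card_conj_mul_card_centralizer y
  have h3 := H.card_mul_index
  have hpos : 0 < Nat.card {g : G // IsConj y g} := by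
    apply Nat.card_pos_iff.mpr
    exact ⟨⟨⟨y, IsConj.refl y⟩⟩, inferInstance⟩
  apply Nat.eq_of_mul_eq_mul_left hpos
  calc Nat.card {g : G // IsConj y g} * (Nat.card (fixedBy (G ⧸ H) y) * Nat.card H)
      = (Nat.card (fixedBy (G ⧸ H) y) * Nat.card {g : G // IsConj y g}) * Nat.card H := by ring
    _ = (H.index * Nat.card {g : G // IsConj y g ∧ g ∈ H}) * Nat.card H := by rw [h1]
    _ = (Nat.card H * H.index) * Nat.card {g : G // IsConj y g ∧ g ∈ H} := by ring
    _ = (Nat.card {g : G // IsConj y g} * Nat.card (centralizer ({y} : Set G))) *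
          Nat.card {g : G // IsConj y g ∧ g ∈ H} := by rw [h3, h2]
    _ = _ := by ring

end Cfsg.Agent.Lib.H5.SylPrime
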