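import Mathlib
import Cfsg.Agent.Lib.H5.Ord.SylPrime

set_option autoImplicit false

/-! # More tools: conjugation actions of `p`-subgroups on invariant sets, inverting elements,
commutativity of centralizers of small index -/

namespace Cfsg.Agent.Lib.H5.SylPrime

open Subgroup MulAction

variable {G : Type*} [Group G]

/-- A `p`-subgroup acting by conjugation without fixed points on a finite invariant set `S`:
`p ∣ |S|`. -/
theorem dvd_card_of_conj_free {p : ℕ} [Fact p.Prime] (Q : Subgroup G) (hQ : IsPGroup p Q)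
    (S : Set G) [Finite S] (hS : ∀ q ∈ Q, ∀ z ∈ S, q * z * q⁻¹ ∈ S)
    (hfree : ∀ z ∈ S, ∃ q ∈ Q, q * z * q⁻¹ ≠ z) : p ∣ Nat.card S := by
  letI : MulAction Q S :=
    { smul := fun q z => ⟨(q : G) * z * (q : G)⁻¹, hS q q.2 z z.2⟩
      one_smul := by
        intro z
        apply Subtype.ext
        show ((1 : Q) : G) * z * ((1 : Q) : G)⁻¹ = z
        simp
      mul_smul := by
        intro a b z
        apply Subtype.ext
        show ((a * b : Q) : G) * z * ((a * b : Q) : G)⁻¹ = (a : G) * ((b : G) * z * (b : G)⁻¹) * (a : G)⁻¹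
        simp only [Subgroup.coe_mul, mul_inv_rev]
        group }
  have key := hQ.card_modEq_card_fixedPoints S
  have hfp : Nat.card (fixedPoints Q S) = 0 := by
    have : IsEmpty (fixedPoints Q S) := by
      constructor
      rintro ⟨z, hz⟩
      obtain ⟨q, hq, hne⟩ := hfree z z.2
      apply hne
      have := hz ⟨q, hq⟩
      exact congrArg Subtype.val this
    exact Nat.card_eq_zero.mpr (Or.inl this)
  rw [hfp] at key
  exact (Nat.modEq_zero_iff_dvd).mp key

/-- Sylow counting inside a subgroup `L` containing `P`. -/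
theorem relIndex_normalizer_modEq_one' [Finite G] {p : ℕ} [Fact p.Prime]
    (P : Sylow p G) {L : Subgroup G} (hPL : (P : Subgroup G) ≤ L) :
    (normalizer ((P : Subgroup G) : Set G)).relIndex L ≡ 1 [MOD p] := by
  have h1 := card_sylow_modEq_one p ↥L
  have h2 := Sylow.card_eq_index_normalizer (P.subtype hPL)
  rw [h2] at h1
  have h3 : normalizer (((P.subtype hPL : Sylow p L) : Subgroup L) : Set L)
      = (normalizer ((P : Subgroup G) : Set G)).subgroupOf L := by
    rw [Sylow.coe_subtype, subgroupOf_normalizer_eq hPL]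
  change (normalizer (((P.subtype hPL : Sylow p L) : Subgroup L) : Set L)).index ≡ 1 [MOD p] at h1
  rw [h3] at h1
  exact h1

/-- A group which is the product of a central subgroup and an abelian subgroup of coprime order is
abelian. -/
theorem comm_of_central_coprime {C : Type*} [Group C] [Finite C] (Z Q : Subgroup C)
    (hZ : Z ≤ center C) (hQ : ∀ a ∈ Q, ∀ b ∈ Q, a * b = b * a)
    (hcard : Nat.card Z * Nat.card Q = Nat.card C) (hcop : (Nat.card Z).Coprime (Nat.card Q)) :
    ∀ a b : C, a * b = b * a := by
  have htop : Z ⊔ Q = ⊤ := by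
    apply (Subgroup.card_eq_iff_eq_top _).mp
    apply le_antisymm (Subgroup.card_le_card_group _)
    rw [← hcard]
    apply Nat.le_of_dvd Nat.card_pos
    exact hcop.mul_dvd_of_dvd_of_dvd (Subgroup.card_dvd_of_le le_sup_left)
      (Subgroup.card_dvd_of_le le_sup_right)
  have hQc : Q ≤ center C := by
    intro q hq
    rw [Subgroup.mem_center_iff]
    have hle : Z ⊔ Q ≤ centralizer ({q} : Set C) := by
      apply sup_le
      · intro z hz
        rw [mem_centralizer_singleton_iff]
        exact ((Subgroup.mem_center_iff.mp (hZ hz)) q).symm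
      · intro b hb
        rw [mem_centralizer_singleton_iff]
        exact hQ b hb q hq
    intro g
    have hg : g ∈ centralizer ({q} : Set C) := hle (htop ▸ mem_top g)
    rw [mem_centralizer_singleton_iff] at hg
    exact hg
  have hcen : center C = ⊤ := by
    apply top_le_iff.mp
    rw [← htop]
    exact sup_le hZ hQc
  intro a b
  have : a ∈ center C := hcen ▸ mem_top a
  exact ((Subgroup.mem_center_iff.mp this) b).symm

/-- An element normalizing but not centralizing a subgroup `P` of prime order, whose square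
centralizes `P`, inverts `P`. -/
theorem conj_eq_inv_of_not_mem_centralizer [Finite G] {p : ℕ} [Fact p.Prime] (P : Subgroup G)
    (hP : Nat.card P = p) {g : G} (hgN : g ∈ normalizer (P : Set G))
    (hg2 : g * g ∈ centralizer (P : Set G)) (hgC : g ∉ centralizer (P : Set G)) :
    ∀ x ∈ P, g * x * g⁻¹ = x⁻¹ := by
  have hp : p.Prime := Fact.out
  have hcomm : ∀ a ∈ P, ∀ b ∈ P, a * b = b * a := by
    intro a ha b hb
    have hcyc : IsCyclic P := isCyclic_of_prime_card hP
    have := (IsCyclic.commGroup (α := P)).mul_comm ⟨a, ha⟩ ⟨b, hb⟩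
    exact congrArg Subtype.val this
  have hconj : ∀ x ∈ P, g * x * g⁻¹ ∈ P := fun x hx => (mem_normalizer_iff.mp hgN x).mp hx
  -- D = P ⊓ C(g) is trivial
  have hD : P ⊓ centralizer ({g} : Set G) = ⊥ := by
    have hdvd : Nat.card (P ⊓ centralizer ({g} : Set G) : Subgroup G) ∣ p := by
      rw [← hP]; exact Subgroup.card_dvd_of_le inf_le_left
    rcases (Nat.dvd_prime hp).mp hdvd with h1 | h1
    · exact Subgroup.card_eq_one.mp h1
    · exfalso
      apply hgC
      have heq : P ⊓ centralizer ({g} : Set G) = P :=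
        Subgroup.eq_of_le_of_card_ge inf_le_left (by rw [h1, hP])
      rw [mem_centralizer_iff]
      intro x hx
      have hx' : x ∈ P ⊓ centralizer ({g} : Set G) := by rw [heq]; exact hx
      have hx2 : x ∈ centralizer ({g} : Set G) := (Subgroup.mem_inf.mp hx').2
      rw [mem_centralizer_singleton_iff] at hx2
      exact hx2
  intro x hx
  have hu : x * (g * x * g⁻¹) ∈ P ⊓ centralizer ({g} : Set G) := by
    refine Subgroup.mem_inf.mpr ⟨P.mul_mem hx (hconj x hx), ?_⟩
    rw [mem_centralizer_singleton_iff]
    -- g * (x * (g x g⁻¹)) = (x * (g x g⁻¹)) * g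
    have h2 : g * g * x = x * (g * g) := by
      rw [mem_centralizer_iff] at hg2
      exact (hg2 x hx).symm
    have h3 : (g * x * g⁻¹) * x = x * (g * x * g⁻¹) := hcomm _ (hconj x hx) _ hx
    symm
    calc g * (x * (g * x * g⁻¹)) = (g * x * g⁻¹) * (g * g * x) * g⁻¹ := by group
      _ = (g * x * g⁻¹) * (x * (g * g)) * g⁻¹ := by rw [h2]
      _ = ((g * x * g⁻¹) * x) * g := by group
      _ = x * (g * x * g⁻¹) * g := by rw [h3]
  rw [hD, Subgroup.mem_bot] at hu
  exact eq_inv_of_mul_eq_one_right hu

end Cfsg.Agent.Lib.H5.SylPrime
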