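import Mathlib
import Cfsg.Agent.Lib.H5.Ord.SylPrime2

set_option autoImplicit false

/-! # Semiregular action of an `r`-subgroup of `C(P)` on the cosets of `N(P)` -/

namespace Cfsg.Agent.Lib.H5.SylPrime

open Subgroup MulAction

variable {G : Type*} [Group G]

/-- Burnside's lemma for a subgroup `T` all of whose non-identity elements have exactly one fixed
point: `|T| ∣ |Ω| - 1`. -/
theorem card_dvd_card_sub_one_of_fixedBy {Ω : Type*} [MulAction G Ω] [Finite Ω] [Finite G]
    (T : Subgroup G) (hfix : ∀ t ∈ T, t ≠ 1 → Nat.card (fixedBy Ω t) = 1) (hΩ : 0 < Nat.card Ω) :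
    Nat.card T ∣ Nat.card Ω - 1 := by
  classical
  haveI : Fintype T := Fintype.ofFinite _
  haveI : Fintype Ω := Fintype.ofFinite _
  haveI : Fintype (Quotient (orbitRel T Ω)) := Fintype.ofFinite _
  have key := sum_card_fixedBy_eq_card_orbits_mul_card_group T Ω
  have h1 : ∀ t : T, t ≠ 1 → Fintype.card (fixedBy Ω t) = 1 := by
    intro t ht
    have h2 : fixedBy Ω t = fixedBy Ω (t : G) := rfl
    rw [← Nat.card_eq_fintype_card, h2]
    exact hfix t t.2 (fun h => ht (Subtype.ext h))
  have h0 : Fintype.card (fixedBy Ω (1 : T)) = Nat.card Ω := by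
    rw [← Nat.card_eq_fintype_card]
    have : fixedBy Ω (1 : T) = Set.univ := by
      ext ω
      simp
    rw [this, Nat.card_coe_set_eq, Set.ncard_univ]
  rw [← Finset.add_sum_erase Finset.univ _ (Finset.mem_univ (1 : T)), h0] at key
  have hs : ∑ t ∈ (Finset.univ : Finset T).erase 1, Fintype.card (fixedBy Ω t) =
      Fintype.card T - 1 := by
    rw [Finset.sum_congr rfl (fun t ht => h1 t (Finset.ne_of_mem_erase ht))]
    simp [Finset.card_erase_of_mem]
  rw [hs, ← Nat.card_eq_fintype_card (α := T)] at key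
  have hT1 : 1 ≤ Nat.card T := Nat.card_pos
  -- card Ω + (card T - 1) = k * card T
  have : Nat.card Ω - 1 + Nat.card T = Fintype.card (Quotient (orbitRel T Ω)) * Nat.card T := by
    omega
  have hd : Nat.card T ∣ Nat.card Ω - 1 + Nat.card T := ⟨_, by rw [this, mul_comm]⟩
  exact (Nat.dvd_add_left (dvd_refl _)).mp hd

/-- If `T ≤ C(P)` is an `r`-group, `|P| = p`, the number `n` of Sylow `p`-subgroups satisfies
`n ≡ 1 (mod r)` and `n ≤ 1 + p r`, then `|T|` divides `n - 1` (in a simple group). -/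
theorem card_dvd_index_sub_one [Finite G] [IsSimpleGroup G] {p r : ℕ} [Fact p.Prime] [Fact r.Prime]
    (hpr : p ≠ r) (P : Sylow p G) (hP : Nat.card ↥(P : Subgroup G) = p)
    (hN : normalizer ((P : Subgroup G) : Set G) ≠ ⊤) (T : Subgroup G)
    (hT : T ≤ centralizer ((P : Subgroup G) : Set G)) (hTr : IsPGroup r T)
    (hmod : (normalizer ((P : Subgroup G) : Set G)).index ≡ 1 [MOD r])
    (hle : (normalizer ((P : Subgroup G) : Set G)).index ≤ 1 + p * r) :
    Nat.card T ∣ (normalizer ((P : Subgroup G) : Set G)).index - 1 := by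
  have hp : p.Prime := Fact.out
  have hr : r.Prime := Fact.out
  set N := normalizer ((P : Subgroup G) : Set G) with hNdef
  have hidx : Nat.card (G ⧸ N) = N.index := (Subgroup.index_eq_card N).symm
  rw [← hidx]
  apply card_dvd_card_sub_one_of_fixedBy T _ (by rw [hidx]; exact Nat.pos_of_ne_zero Subgroup.index_ne_zero_of_finite)
  intro t htT ht1
  -- order of t is a power of r
  obtain ⟨j, hj⟩ := (IsPGroup.iff_orderOf.mp hTr) ⟨t, htT⟩
  rw [Subgroup.orderOf_mk] at hj
  have hj0 : j ≠ 0 := by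
    rintro rfl
    rw [pow_zero, orderOf_eq_one_iff] at hj
    exact ht1 hj
  obtain ⟨i, rfl⟩ := Nat.exists_eq_succ_of_ne_zero hj0
  -- t' = t ^ (r ^ i) has order r
  set t' := t ^ (r ^ i) with ht'
  have hord : orderOf t' = r := by
    rw [ht', orderOf_pow' t (pow_ne_zero i hr.ne_zero), hj, Nat.gcd_eq_right (pow_dvd_pow r (Nat.le_succ i)),
      pow_succ, Nat.mul_div_cancel_left _ (pow_pos hr.pos i)]
  have ht'C : t' ∈ centralizer ((P : Subgroup G) : Set G) := (centralizer _).pow_mem (hT htT) _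
  have m1 := card_fixedBy_modEq_one p P hP ht'C
  have m2 := card_modEq_card_fixedBy (Ω := G ⧸ N) (r := r) (k := 1) (y := t') (by rw [hord, pow_one])
  have hle' := card_fixedBy_le_index N t'
  have hne : Nat.card (fixedBy (G ⧸ N) t') ≠ N.index := by
    intro h
    have := eq_one_of_card_fixedBy_eq N hN h
    rw [this, orderOf_one] at hord
    exact hr.one_lt.ne hord
  have hcop : Nat.Coprime p r := (Nat.coprime_primes hp hr).mpr hpr
  have m3 : Nat.card (fixedBy (G ⧸ N) t') ≡ 1 [MOD p * r] := by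
    rw [← Nat.modEq_and_modEq_iff_modEq_mul hcop]
    refine ⟨m1, ?_⟩
    rw [hidx] at m2
    exact (m2.symm.trans hmod)
  have hf1 : Nat.card (fixedBy (G ⧸ N) t') = 1 := by
    set f := Nat.card (fixedBy (G ⧸ N) t') with hf
    have hlt : f < 1 + p * r := lt_of_le_of_ne (hle'.trans hle) (fun h => hne (le_antisymm hle' (h ▸ hle)))
    rcases Nat.eq_zero_or_pos f with h0 | hpos
    · exfalso
      rw [h0] at m3
      have := (Nat.modEq_zero_iff_dvd.mp m3.symm)
      have h2 : p * r ≤ 1 := Nat.le_of_dvd one_pos this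
      have := hp.two_le
      have := hr.two_le
      nlinarith
    · have h3 : p * r ∣ f - 1 := (Nat.modEq_iff_dvd' hpos).mp m3.symm
      rcases Nat.eq_zero_or_pos (f - 1) with h4 | h4
      · omega
      · have := Nat.le_of_dvd h4 h3
        omega
  -- fixed points of t are fixed points of t'
  have hsub : fixedBy (G ⧸ N) t ⊆ fixedBy (G ⧸ N) t' := by
    intro ω hω
    rw [mem_fixedBy] at hω ⊢
    rw [ht']
    exact MulAction.pow_smul_eq_iff_period_dvd.mpr
      (by rw [MulAction.period_eq_one_iff.mpr hω]; exact one_dvd _)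
  have hle1 : Nat.card (fixedBy (G ⧸ N) t) ≤ 1 := by
    rw [← hf1]
    exact Nat.card_mono (Set.toFinite _) hsub
  have m4 := card_fixedBy_modEq_one p P hP (hT htT)
  rcases Nat.eq_zero_or_pos (Nat.card (fixedBy (G ⧸ N) t)) with h0 | hpos
  · exfalso
    rw [h0] at m4
    have := (Nat.modEq_zero_iff_dvd.mp m4.symm)
    have h2 : p ≤ 1 := Nat.le_of_dvd one_pos this
    have := hp.two_le
    omega
  · omega

end Cfsg.Agent.Lib.H5.SylPrime
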