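import Mathlib
import Cfsg.Agent.Lib.H5.Ord.SylPrime3

set_option autoImplicit false

/-! # Simple groups of order 1440 do not exist: the case of 16 Sylow 5-subgroups -/

namespace Cfsg.Agent.Lib.H5.SylPrime

open Subgroup MulAction

variable {G : Type*} [Group G]

theorem card_mul_relIndex_of_le [Finite G] {C N : Subgroup G} (h : C ≤ N) :
    Nat.card C * C.relIndex N = Nat.card N := by
  have := (C.subgroupOf N).card_mul_index
  rwa [Nat.card_congr (Subgroup.subgroupOfEquivOfLe h).toEquiv] at this

/-- `P ≤ C(P)` for `P` of prime order. -/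
theorem le_centralizer_of_card_prime {p : ℕ} [Fact p.Prime] (P : Subgroup G) (hP : Nat.card P = p) :
    P ≤ centralizer (P : Set G) := by
  intro a ha
  rw [mem_centralizer_iff]
  intro b hb
  have hcyc : IsCyclic P := isCyclic_of_prime_card hP
  have := (IsCyclic.commGroup (α := P)).mul_comm ⟨b, hb⟩ ⟨a, ha⟩
  exact congrArg Subtype.val this

end Cfsg.Agent.Lib.H5.SylPrime

namespace Cfsg.Agent.Lib.H5.Ord1440

open Subgroup MulAction Cfsg.Agent.Lib.H5 Cfsg.Agent.Lib.H5.SylPrime

variable {G : Type*} [Group G] [Finite G] [IsSimpleGroup G]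

theorem not_sixteen (hG : Nat.card G = 1440) [Fact (Nat.Prime 5)] :
    Nat.card (Sylow 5 G) ≠ 16 := by
  intro hn
  haveI : Fact (Nat.Prime 3) := ⟨by norm_num⟩
  let P : Sylow 5 G := default
  obtain ⟨hPcard, hPidx⟩ := sylow_card_and_index P (k := 1) (m := 288) (by rw [hG]; norm_num) (by norm_num)
  rw [pow_one] at hPcard
  set N := normalizer ((P : Subgroup G) : Set G) with hN
  set C := centralizer ((P : Subgroup G) : Set G) with hC
  have hNidx : N.index = 16 := by rw [hN, index_normalizer_eq_card_sylow, hn]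
  have hNcard : Nat.card N = 90 := by
    have := card_normalizer_mul_card_sylow P
    rw [hn, hG, ← hN] at this
    omega
  have hNtop : N ≠ ⊤ := by
    intro h
    rw [h, Subgroup.index_top] at hNidx
    omega
  have hCN : C ≤ N := centralizer_le_normalizer _
  have h4 : C.relIndex N ∣ 4 := relIndex_centralizer_normalizer_dvd_of_card_prime (P : Subgroup G) hPcard
  have h90 := card_mul_relIndex_of_le hCN
  rw [hNcard] at h90
  have h9 : 3 ^ 2 ∣ Nat.card C := by
    have hle : C.relIndex N ≤ 4 := Nat.le_of_dvd (by norm_num) h4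
    have hpos : 0 < C.relIndex N := Nat.pos_of_ne_zero (fun h => by rw [h] at h90; omega)
    interval_cases hr : C.relIndex N
    · exact ⟨10, by omega⟩
    · exact ⟨5, by omega⟩
    · omega
    · omega
  obtain ⟨T₀, hT₀⟩ := Sylow.exists_subgroup_card_pow_prime 3 h9
  set T : Subgroup G := T₀.map C.subtype with hT
  have hTcard : Nat.card T = 9 := by
    rw [hT, Subgroup.card_map_of_injective C.subtype_injective, hT₀]
    norm_num
  have hTC : T ≤ C := by
    rw [hT]
    rintro _ ⟨c, -, rfl⟩
    exact c.2
  have hTr : IsPGroup 3 T := IsPGroup.of_card (n := 2) (by rw [hTcard]; norm_num)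
  have := card_dvd_index_sub_one (p := 5) (r := 3) (by norm_num) P hPcard hNtop T hTC hTr
    (by rw [hNidx]; decide) (by rw [hNidx])
  rw [hTcard, hNidx] at this
  omega

end Cfsg.Agent.Lib.H5.Ord1440
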