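import Mathlib
import Cfsg.Agent.S0493
import Cfsg.Agent.Lib.H5.SimpleTools
import Cfsg.Agent.Lib.H5.Ord.SylPrime
import Cfsg.Agent.Lib.H23.BurnsidePQ
import Cfsg.Agent.Lib.H5.Ord.Ord1440a

set_option autoImplicit false

/-! # Generic numerical tests for the non-existence of simple groups of a given order -/

namespace Cfsg.Agent.Lib.H5.GenTests

open Subgroup MulAction Cfsg.Agent.Lib.H5 Cfsg.Agent.Lib.H5.SylPrime

variable {G : Type*} [Group G] [Finite G] [IsSimpleGroup G]

/-- Basic Sylow data of a non-abelian simple group of order `n = p ^ k * m`. -/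
theorem sylow_data (hnc : ¬ IsMulCommutative G) {n p k m : ℕ} [Fact p.Prime]
    (hn : Nat.card G = n) (hnk : n = p ^ k * m) (hpm : ¬ p ∣ m) (hk : k ≠ 0) (hm : m ≠ 1)
    (P : Sylow p G) :
    Nat.card (Sylow p G) ∣ m ∧ Nat.card (Sylow p G) % p = 1 ∧ Nat.card (Sylow p G) ≠ 1 ∧
      2 * n ∣ (Nat.card (Sylow p G)).factorial ∧
      Nat.card (normalizer ((P : Subgroup G) : Set G)) * Nat.card (Sylow p G) = n ∧
      Nat.card (P : Subgroup G) = p ^ k ∧ normalizer ((P : Subgroup G) : Set G) ≠ ⊤ := by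
  have hp : p.Prime := Fact.out
  have hnp := Cfsg.Agent.S0493.not_isPGroup_of_card hn hnk hpm hm
  have hpd : p ∣ Nat.card G := by
    rw [hn, hnk]; exact (dvd_pow_self p hk).mul_right m
  have hm0 : m ≠ 0 := fun h => hpm (h ▸ dvd_zero p)
  obtain ⟨hc, hidx⟩ := sylow_card_and_index P (k := k) (m := m) (by rw [hn, hnk]) hpm
  have h1 := card_sylow_mem_filter_divisors P hm0 hidx
  rw [Finset.mem_filter, Nat.mem_divisors] at h1
  have h2 := card_sylow_ne_one_of_simple (G := G) (p := p) hpd hnp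
  have hidx' := index_normalizer_eq_card_sylow P
  have hne : normalizer ((P : Subgroup G) : Set G) ≠ ⊤ := by
    intro h
    rw [h, index_top] at hidx'
    exact h2 hidx'.symm
  refine ⟨h1.1.1, h1.2, h2, ?_, ?_, hc, hne⟩
  · have := two_mul_card_dvd_factorial_index hnc _ hne
    rwa [hidx', hn] at this
  · rw [card_normalizer_mul_card_sylow P, hn]

/-- Sylow test with a capped factorial. -/
theorem ne_of_check (hnc : ¬ IsMulCommutative G) (n p k m : ℕ) [Fact p.Prime]
    (hnk : n = p ^ k * m) (hpm : ¬ p ∣ m) (hk : k ≠ 0) (hm : m ≠ 1)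
    (hchk : ∀ j < m / p + 1, j ≠ 0 → (1 + p * j) ∣ m →
      (1 + p * j ≤ 12 ∧ ¬ (2 * n ∣ (1 + p * j).factorial))) : Nat.card G ≠ n := by
  intro hn
  have hp : p.Prime := Fact.out
  obtain ⟨h1, h2, h3, h4, -⟩ := sylow_data hnc hn hnk hpm hk hm (default : Sylow p G)
  set d := Nat.card (Sylow p G) with hd
  have hm0 : m ≠ 0 := fun h => hpm (h ▸ dvd_zero p)
  have hdm : d ≤ m := Nat.le_of_dvd (Nat.pos_of_ne_zero hm0) h1
  have hdj : d = 1 + p * (d / p) := by
    have := Nat.div_add_mod d p
    omega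
  have hj0 : d / p ≠ 0 := by
    intro h0
    rw [h0, mul_zero] at hdj
    exact h3 hdj
  have hjlt : d / p < m / p + 1 := by
    have : d / p ≤ m / p := Nat.div_le_div_right hdm
    omega
  have := hchk (d / p) hjlt hj0 (hdj ▸ h1)
  rw [← hdj] at this
  exact this.2 h4

/-- Burnside's `p^a q^b` theorem for simple groups. -/
theorem ne_paqb (hnc : ¬ IsMulCommutative G) (p q a b : ℕ) (hp : p.Prime) (hq : q.Prime) :
    Nat.card G ≠ p ^ a * q ^ b := by
  intro hn
  have hs : IsSolvable G :=
    Cfsg.Agent.Lib.H23.isSolvable_of_card_eq_prime_pow_mul_prime_pow p q a b hp hq hn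
  apply hnc
  have := (IsSimpleGroup.comm_iff_isSolvable (G := G)).mpr hs
  exact ⟨⟨fun a b => this a b⟩⟩

/-- Data for a prime `p` dividing the order exactly once (explicit form): `d = n_p`,
`r = |N : C|`, `c = |C|`, together with the fixed-point data of elements of prime order in
`C(P)`. -/
theorem prime_data_explicit (hnc : ¬ IsMulCommutative G) {n p m : ℕ} [Fact p.Prime]
    (hn : Nat.card G = n) (hnk : n = p * m) (hpm : ¬ p ∣ m) (hm : m ≠ 1) (P : Sylow p G) :
    Nat.card (Sylow p G) ∣ m ∧ Nat.card (Sylow p G) % p = 1 ∧ Nat.card (Sylow p G) ≠ 1 ∧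
      2 * n ∣ (Nat.card (Sylow p G)).factorial ∧
      (centralizer ((P : Subgroup G) : Set G)).relIndex (normalizer ((P : Subgroup G) : Set G)) ∣
        p - 1 ∧
      (centralizer ((P : Subgroup G) : Set G)).relIndex (normalizer ((P : Subgroup G) : Set G)) ≠
        1 ∧
      Nat.card (centralizer ((P : Subgroup G) : Set G)) *
        (centralizer ((P : Subgroup G) : Set G)).relIndex (normalizer ((P : Subgroup G) : Set G)) *
          Nat.card (Sylow p G) = n ∧
      p ∣ Nat.card (centralizer ((P : Subgroup G) : Set G)) ∧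
      Nat.card (P : Subgroup G) = p ∧
      Nat.card (normalizer ((P : Subgroup G) : Set G)) * Nat.card (Sylow p G) = n ∧
      normalizer ((P : Subgroup G) : Set G) ≠ ⊤ ∧
      (P : Subgroup G) ≤ centralizer ((P : Subgroup G) : Set G) ∧
      Nat.card (centralizer ((P : Subgroup G) : Set G)) *
        (centralizer ((P : Subgroup G) : Set G)).relIndex (normalizer ((P : Subgroup G) : Set G)) =
          Nat.card (normalizer ((P : Subgroup G) : Set G)) ∧
      ∀ q : ℕ, q.Prime → q ∣ Nat.card (centralizer ((P : Subgroup G) : Set G)) →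
        ∃ f : ℕ, f % p = 1 ∧ f % q = Nat.card (Sylow p G) % q ∧ f < Nat.card (Sylow p G) ∧
          (q = 2 → 4 ∣ Nat.card (Sylow p G) - f) := by
  have hp : p.Prime := Fact.out
  have hnk' : n = p ^ 1 * m := by rw [pow_one]; exact hnk
  obtain ⟨h1, h2, h3, h4, h5, h6, h7⟩ := sylow_data hnc hn hnk' hpm one_ne_zero hm P
  rw [pow_one] at h6
  have hnp := Cfsg.Agent.S0493.not_isPGroup_of_card hn hnk' hpm hm
  have hpd : p ∣ Nat.card G := by
    rw [hn, hnk]; exact Dvd.intro _ rfl
  set N := normalizer ((P : Subgroup G) : Set G) with hN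
  set C := centralizer ((P : Subgroup G) : Set G) with hC
  have hCN : C ≤ N := centralizer_le_normalizer _
  have hr := relIndex_centralizer_normalizer_dvd_of_card_prime (P : Subgroup G) h6
  have hr1 : C.relIndex N ≠ 1 := by
    intro h
    apply not_normalizer_le_centralizer_of_simple hpd hnp P
    exact relIndex_eq_one.mp h
  have hcr : Nat.card C * C.relIndex N = Nat.card N := card_mul_relIndex_of_le hCN
  have hPC : (P : Subgroup G) ≤ C := le_centralizer_of_card_prime (P : Subgroup G) h6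
  have hpc : p ∣ Nat.card C := by
    rw [← h6]; exact card_dvd_of_le hPC
  refine ⟨h1, h2, h3, h4, hr, hr1, ?_, hpc, h6, h5, h7, hPC, hcr, ?_⟩
  · rw [hcr]; exact h5
  · intro q hq hqc
    have : Fact q.Prime := ⟨hq⟩
    obtain ⟨y, hy⟩ := exists_prime_orderOf_dvd_card' (G := C) q hqc
    have hyC : (y : G) ∈ C := y.2
    have hyo : orderOf (y : G) = q := by rw [Subgroup.orderOf_coe]; exact hy
    have hidx : N.index = Nat.card (Sylow p G) := index_normalizer_eq_card_sylow P
    refine ⟨Nat.card (fixedBy (G ⧸ N) (y : G)), ?_, ?_, ?_, ?_⟩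
    · have := card_fixedBy_modEq_one p P h6 hyC
      rw [Nat.ModEq, Nat.mod_eq_of_lt hp.one_lt] at this
      exact this
    · have := card_modEq_card_fixedBy (Ω := G ⧸ N) (r := q) (k := 1) (y := (y : G))
        (by rw [pow_one]; exact hyo)
      rw [← hidx]
      have h' : Nat.card (G ⧸ N) = N.index := rfl
      rw [h'] at this
      exact this.symm
    · rw [← hidx]
      apply lt_of_le_of_ne (card_fixedBy_le_index N _)
      intro heq
      have := eq_one_of_card_fixedBy_eq N h7 heq
      rw [this, orderOf_one] at hyo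
      exact hq.one_lt.ne hyo
    · intro hq2
      rw [← hidx]
      apply four_dvd_index_sub_card_fixedBy _ N (by rw [← hq2]; exact hyo)
      rw [hn]
      by_contra hlt
      have hn2 : n ≤ 2 := by omega
      have hm2 : p * m ≤ 2 := hnk ▸ hn2
      have hp2 := hp.two_le
      have : m ≤ 1 := by nlinarith
      interval_cases m
      · exact hpm (dvd_zero p)
      · exact hm rfl

/-- Data for a prime `p` dividing the order exactly once: `d = n_p`, `r = |N : C|`, `c = |C|`,
together with the fixed-point data of elements of prime order in `C(P)`. -/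
theorem prime_data (hnc : ¬ IsMulCommutative G) {n p m : ℕ} [Fact p.Prime]
    (hn : Nat.card G = n) (hnk : n = p * m) (hpm : ¬ p ∣ m) (hm : m ≠ 1) :
    ∃ d r c : ℕ, d ∣ m ∧ d % p = 1 ∧ d ≠ 1 ∧ 2 * n ∣ d.factorial ∧ r ∣ p - 1 ∧ r ≠ 1 ∧
      c * r * d = n ∧ p ∣ c ∧
      ∀ q : ℕ, q.Prime → q ∣ c → ∃ f : ℕ, f % p = 1 ∧ f % q = d % q ∧ f < d ∧
        (q = 2 → 4 ∣ d - f) := by
  obtain ⟨h1, h2, h3, h4, h5, h6, h7, h8, -, -, -, -, -, h9⟩ :=
    prime_data_explicit hnc hn hnk hpm hm (default : Sylow p G)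
  exact ⟨_, _, _, h1, h2, h3, h4, h5, h6, h7, h8, h9⟩

end Cfsg.Agent.Lib.H5.GenTests
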