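import Mathlib
import Cfsg.Agent.Lib.H5.SimpleTools
import Cfsg.Agent.Lib.H5.ConjCount
import Cfsg.Agent.Lib.H5.Ord.SylPrime
import Cfsg.Agent.Lib.H5.Ord.Ord1440a
import Cfsg.Agent.Lib.H16.ThompsonTransfer

set_option autoImplicit false

/-! # A simple group cannot have `45` Sylow `11`-subgroups with normalizer of order `22 a`,
`a ∈ {1, 2, 4}` (Thompson transfer) -/

namespace Cfsg.Agent.Lib.H5.PG7920

open Subgroup MulAction Cfsg.Agent.Lib.H5 Cfsg.Agent.Lib.H5.SylPrime

variable {S : Type*} [Group S] [Finite S]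

/-- If `x` centralizes `P` then `|P|` divides `|C(x)|`. -/
theorem card_dvd_card_centralizer_singleton (P : Subgroup S) {x : S}
    (hx : x ∈ centralizer (P : Set S)) : Nat.card P ∣ Nat.card (centralizer ({x} : Set S)) := by
  apply Subgroup.card_dvd_of_le
  intro z hz
  rw [mem_centralizer_singleton_iff]
  rw [mem_centralizer_iff] at hx
  exact hx z hz

/-- If a nontrivial element of a subgroup `P` of prime order commutes with `x`, then `x`
centralizes `P`. -/
theorem mem_centralizer_of_commute_of_card_prime {p : ℕ} [Fact p.Prime] (P : Subgroup S)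
    (hP : Nat.card P = p) {w x : S} (hw : w ∈ P) (hw1 : w ≠ 1) (hwx : Commute w x) :
    x ∈ centralizer (P : Set S) := by
  rw [mem_centralizer_iff]
  intro u hu
  have htop := zpowers_eq_top_of_prime_card (G := P) hP (g := ⟨w, hw⟩)
    (fun h => hw1 (congrArg Subtype.val h))
  have hmem : (⟨u, hu⟩ : P) ∈ zpowers (⟨w, hw⟩ : P) := by rw [htop]; exact mem_top _
  obtain ⟨j, hj⟩ := mem_zpowers_iff.mp hmem
  have hu' : u = w ^ j := by
    have := congrArg Subtype.val hj
    simpa using this.symm
  rw [hu']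
  exact (hwx.zpow_left j).eq

theorem not_sylow11_45 [IsSimpleGroup S] [Fact (Nat.Prime 11)]
    (P : Sylow 11 S) (hPc : Nat.card (P : Subgroup S) = 11) (a : ℕ)
    (ha : a = 1 ∨ a = 2 ∨ a = 4)
    (hC : Nat.card (centralizer ((P : Subgroup S) : Set S)) = 11 * a)
    (hH : Nat.card (normalizer ((P : Subgroup S) : Set S)) = 22 * a)
    (hidx : (normalizer ((P : Subgroup S) : Set S)).index = 45) : False := by
  haveI : Fact (Nat.Prime 2) := ⟨by norm_num⟩
  set H := normalizer ((P : Subgroup S) : Set S) with hHdef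
  set C := centralizer ((P : Subgroup S) : Set S) with hCdef
  have hCH : C ≤ H := centralizer_le_normalizer _
  have hPH : (P : Subgroup S) ≤ H := le_normalizer
  have hn : Nat.card S = 990 * a := by
    have := H.card_mul_index
    rw [hH, hidx] at this
    omega
  obtain ⟨k, hk⟩ : ∃ k, 2 * a = 2 ^ k := by
    rcases ha with rfl | rfl | rfl
    exacts [⟨1, rfl⟩, ⟨2, rfl⟩, ⟨3, rfl⟩]
  have hHne : H ≠ ⊤ := by
    intro h
    rw [h, index_top] at hidx
    omega
  -- a Sylow 2-subgroup of S inside H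
  obtain ⟨K₀, hK₀⟩ := Sylow.exists_subgroup_card_pow_prime (G := H) 2 (n := k)
    (by rw [hH, ← hk]; exact ⟨11, by ring⟩)
  set T₀ : Subgroup S := K₀.map H.subtype with hT₀
  have hT₀c : Nat.card T₀ = 2 ^ k := by rw [hT₀, Subgroup.card_subtype, hK₀]
  have hT₀H : T₀ ≤ H := Subgroup.map_subtype_le K₀
  have hp : IsPGroup 2 T₀ := IsPGroup.of_card (n := k) hT₀c
  obtain ⟨T, hT⟩ := hp.exists_le_sylow
  have hTc : Nat.card (T : Subgroup S) = 2 ^ k :=
    (sylow_card_and_index T (k := k) (m := 495) (by rw [hn, ← hk]; ring) (by norm_num)).1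
  have hTeq : T₀ = (T : Subgroup S) := Subgroup.eq_of_le_of_card_ge hT (by rw [hTc, hT₀c])
  have hTH : (T : Subgroup S) ≤ H := hTeq ▸ hT₀H
  have hTc' : Nat.card (T : Subgroup S) = 2 * a := by rw [hTc, hk]
  set M : Subgroup S := (T : Subgroup S) ⊓ C with hM
  have hrelCH : C.relIndex H = 2 := by
    have := Cfsg.Agent.Lib.H5.SylPrime.card_mul_relIndex_of_le hCH
    rw [hH, hC] at this
    rcases ha with rfl | rfl | rfl <;> omega
  have hM2 : M.relIndex (T : Subgroup S) = 2 := by
    rw [hM, Subgroup.inf_relIndex_left]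
    have hle : C.relIndex (T : Subgroup S) ≤ C.relIndex H :=
      Subgroup.relIndex_le_of_le_right hTH (by rw [hrelCH]; norm_num)
    rw [hrelCH] at hle
    have hne0 : C.relIndex (T : Subgroup S) ≠ 0 := by
      rw [Subgroup.relIndex]
      exact Subgroup.index_ne_zero_of_finite
    have hne1 : C.relIndex (T : Subgroup S) ≠ 1 := by
      intro h1
      have hSC : (T : Subgroup S) ≤ C := Subgroup.relIndex_eq_one.mp h1
      have := Subgroup.card_dvd_of_le hSC
      rw [hTc', hC] at this
      rcases ha with rfl | rfl | rfl <;> omega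
    omega
  -- an element of `T \ M` of minimal order
  have hex : ∃ n, ∃ y, y ∈ (T : Subgroup S) ∧ y ∉ M ∧ orderOf y = n := by
    by_contra h
    push Not at h
    have hle : (T : Subgroup S) ≤ M := fun y hy => by
      by_contra hyM
      exact h _ y hy hyM rfl
    have : M.relIndex (T : Subgroup S) = 1 := relIndex_eq_one.mpr hle
    omega
  classical
  obtain ⟨x, hxT, hxM, hxo⟩ := Nat.find_spec hex
  have hxmin : ∀ y ∈ (T : Subgroup S), y ∉ M → orderOf x ≤ orderOf y := by
    intro y hy hyM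
    rw [hxo]
    exact Nat.find_min' hex ⟨y, hy, hyM, rfl⟩
  obtain ⟨n, hn2⟩ : ∃ n, orderOf x = 2 ^ n := by
    obtain ⟨j, hj⟩ := (IsPGroup.iff_orderOf.mp T.isPGroup') ⟨x, hxT⟩
    exact ⟨j, by rw [← hj, Subgroup.orderOf_mk]⟩
  have hx1 : x ≠ 1 := fun h => hxM (h ▸ M.one_mem)
  have hn1 : n ≠ 0 := by
    intro h
    rw [h, pow_zero] at hn2
    exact hx1 (orderOf_eq_one_iff.mp hn2)
  have hxH : x ∈ H := hTH hxT
  have hxC : x ∉ C := fun h => hxM ⟨hxT, h⟩
  have hG2 : 2 < Nat.card S := by rw [hn]; rcases ha with rfl | rfl | rfl <;> omega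
  have hcon : ∀ g : S, g * x * g⁻¹ ∉ M := by
    intro g hg
    set y := g * x * g⁻¹ with hy
    have hyC : y ∈ C := hg.2
    have hyH : y ∈ H := hCH hyC
    have hconj : IsConj x y := isConj_iff.mpr ⟨g, rfl⟩
    have hyo : orderOf y = 2 ^ n := by rw [← orderOf_eq_of_isConj hconj, hn2]
    -- the involution in ⟨y⟩
    have h2y : 2 ∣ orderOf y := by rw [hyo]; exact dvd_pow_self 2 hn1
    set z := y ^ (orderOf y / 2) with hz
    have hzo : orderOf z = 2 := orderOf_pow_orderOf_div (orderOf_pos y).ne' h2y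
    have hzC : z ∈ C := C.pow_mem hyC _
    have hfz1 : Nat.card (fixedBy (S ⧸ H) z) % 11 = 1 % 11 :=
      card_fixedBy_modEq_one 11 P hPc hzC
    have hfz2 := four_dvd_index_sub_card_fixedBy hG2 H hzo
    have hfz3 := card_fixedBy_le_index H z
    have hz1 : z ≠ 1 := by
      intro h
      rw [h, orderOf_one] at hzo
      omega
    have hfz4 : Nat.card (fixedBy (S ⧸ H) z) ≠ H.index := fun h =>
      hz1 (eq_one_of_card_fixedBy_eq H hHne h)
    rw [hidx] at hfz2 hfz3 hfz4
    have hfz : Nat.card (fixedBy (S ⧸ H) z) = 1 := by omega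
    have hfy1 : Nat.card (fixedBy (S ⧸ H) y) % 11 = 1 % 11 :=
      card_fixedBy_modEq_one 11 P hPc hyC
    have hfy2 : Nat.card (fixedBy (S ⧸ H) y) ≤ Nat.card (fixedBy (S ⧸ H) z) := by
      apply Nat.card_mono (Set.toFinite _)
      have := fixedBy_subset_fixedBy_zpow (S ⧸ H) y ((orderOf y / 2 : ℕ) : ℤ)
      rwa [zpow_natCast] at this
    have hfy : Nat.card (fixedBy (S ⧸ H) y) = 1 := by omega
    have hmul := card_fixedBy_mul_card H hyH
    rw [hfy, one_mul, hH] at hmul
    have h11 : 11 ∣ Nat.card (centralizer ({y} : Set S)) := by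
      have := card_dvd_card_centralizer_singleton (P : Subgroup S) hyC
      rwa [hPc] at this
    -- eleven conjugates of `y` in `H`
    have hge : 11 ≤ Nat.card {g : S // IsConj y g ∧ g ∈ H} := by
      let f : ↥(P : Subgroup S) → {g : S // IsConj y g ∧ g ∈ H} := fun u =>
        ⟨(u : S) * x * (u : S)⁻¹, hconj.symm.trans (isConj_iff.mpr ⟨u, rfl⟩),
          H.mul_mem (H.mul_mem (hPH u.2) hxH) (H.inv_mem (hPH u.2))⟩
      have hf : Function.Injective f := by
        intro u v huv
        have h1 : (u : S) * x * (u : S)⁻¹ = (v : S) * x * (v : S)⁻¹ := congrArg Subtype.val huv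
        by_contra hne
        set w : S := (v : S)⁻¹ * (u : S) with hw
        have hwP : w ∈ (P : Subgroup S) := (P : Subgroup S).mul_mem ((P : Subgroup S).inv_mem v.2) u.2
        have hw1 : w ≠ 1 := by
          intro h
          apply hne
          apply Subtype.ext
          have : (u : S) = (v : S) * w := by rw [hw]; group
          rw [this, h, mul_one]
        have hwx : Commute w x := by
          show w * x = x * w
          rw [hw]
          calc (v : S)⁻¹ * (u : S) * x = (v : S)⁻¹ * ((u : S) * x * (u : S)⁻¹) * (u : S) := by group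
            _ = (v : S)⁻¹ * ((v : S) * x * (v : S)⁻¹) * (u : S) := by rw [h1]
            _ = x * ((v : S)⁻¹ * (u : S)) := by group
        exact hxC (mem_centralizer_of_commute_of_card_prime (P : Subgroup S) hPc hwP hw1 hwx)
      have := Nat.card_le_card_of_injective f hf
      rwa [hPc] at this
    obtain ⟨t, ht⟩ := h11
    rw [ht] at hmul
    have hlow : 11 * t * 11 ≤ 11 * t * Nat.card {g : S // IsConj y g ∧ g ∈ H} :=
      Nat.mul_le_mul_left _ hge
    have ht0 : t ≠ 0 := by
      intro h
      rw [h] at hmul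
      rcases ha with rfl | rfl | rfl <;> omega
    have : 1 ≤ t := Nat.one_le_iff_ne_zero.mpr ht0
    rcases ha with rfl | rfl | rfl <;> omega
  obtain ⟨K, hKn, hKi, -⟩ := Cfsg.Agent.Lib.H16.exists_normal_index_two_not_mem T M hM2 n
    (by
      intro y hy hyM
      have h1 := hxmin y hy hyM
      rw [hn2] at h1
      have : 2 ^ (n - 1) < 2 ^ n := Nat.pow_lt_pow_right (by norm_num) (by omega)
      omega)
    x hn2 hcon
  rcases hKn.eq_bot_or_eq_top with hb | ht
  · rw [hb, Subgroup.index_bot, hn] at hKi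
    rcases ha with rfl | rfl | rfl <;> omega
  · rw [ht, Subgroup.index_top] at hKi
    omega

end Cfsg.Agent.Lib.H5.PG7920
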