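import Mathlib
import Cfsg.Agent.S1018
import Cfsg.Agent.Lib.H5.OrderCount
import Cfsg.Agent.Lib.H5.Ord.SylPrime

set_option autoImplicit false

/-! # Double counting fixed points of elements of a coset `g P` on the cosets of `N(P)` -/

namespace Cfsg.Agent.Lib.H5.SylPrime

open Subgroup MulAction

variable {G : Type*} [Group G] [Finite G]

/-- A non-identity element of a Sylow subgroup `P` of prime order fixes only the base coset of
`N(P)`. -/
theorem fixedBy_eq_base (p : ℕ) [Fact p.Prime] (P : Sylow p G)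
    (hP : Nat.card ↥(P : Subgroup G) = p) {x : G} (hx : x ∈ (P : Subgroup G)) (hx1 : x ≠ 1) :
    fixedBy (G ⧸ normalizer ((P : Subgroup G) : Set G)) x =
      {(QuotientGroup.mk 1 : G ⧸ normalizer ((P : Subgroup G) : Set G))} := by
  have hxo : orderOf x = p :=
    Cfsg.Agent.Lib.H5.orderOf_eq_of_mem_of_card_prime (P : Subgroup G) hP x hx hx1
  obtain ⟨g₀, hg₀⟩ := Cfsg.Agent.S1018.fixedBy_eq_singleton p P hP x hxo
  have hbase : (QuotientGroup.mk 1 : G ⧸ normalizer ((P : Subgroup G) : Set G)) ∈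
      fixedBy (G ⧸ normalizer ((P : Subgroup G) : Set G)) x := by
    rw [mem_fixedBy, Cfsg.Agent.S1018.smul_mk_eq_iff]
    simpa using le_normalizer hx
  rw [hg₀] at hbase ⊢
  rw [Set.mem_singleton_iff] at hbase
  rw [hbase]

/-- Double counting: for a finite set `S` of elements of a coset `g P` (`g ∈ N(P)`), the sets of
non-base fixed points are pairwise disjoint. -/
theorem sum_card_fixedBy_sub_one_le (p : ℕ) [Fact p.Prime] (P : Sylow p G)
    (hP : Nat.card ↥(P : Subgroup G) = p) (S : Finset G) (g : G)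
    (hg : g ∈ normalizer ((P : Subgroup G) : Set G))
    (hS : ∀ s ∈ S, g⁻¹ * s ∈ (P : Subgroup G)) :
    ∑ s ∈ S, (Nat.card (fixedBy (G ⧸ normalizer ((P : Subgroup G) : Set G)) s) - 1) ≤
      (normalizer ((P : Subgroup G) : Set G)).index - 1 := by
  classical
  set N := normalizer ((P : Subgroup G) : Set G) with hN
  letI : Fintype (G ⧸ N) := Fintype.ofFinite _
  let base : G ⧸ N := QuotientGroup.mk 1
  let F : G → Finset (G ⧸ N) := fun s => (Finset.univ.filter (fun ω => s • ω = ω)).erase base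
  have hsN : ∀ s ∈ S, s ∈ N := by
    intro s hs
    have h1 : g⁻¹ * s ∈ N := le_normalizer (hS s hs)
    have : s = g * (g⁻¹ * s) := by group
    rw [this]
    exact N.mul_mem hg h1
  have hbase : ∀ s ∈ S, base ∈ Finset.univ.filter (fun ω : G ⧸ N => s • ω = ω) := by
    intro s hs
    rw [Finset.mem_filter]
    refine ⟨Finset.mem_univ _, ?_⟩
    rw [Cfsg.Agent.S1018.smul_mk_eq_iff]
    simpa using hsN s hs
  have hcardF : ∀ s ∈ S, (F s).card = Nat.card (fixedBy (G ⧸ N) s) - 1 := by
    intro s hs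
    rw [Finset.card_erase_of_mem (hbase s hs)]
    congr 1
    rw [Nat.card_eq_fintype_card, Fintype.card_subtype]
    rfl
  have hdisj : (S : Set G).PairwiseDisjoint F := by
    intro s₁ hs₁ s₂ hs₂ hne
    rw [Function.onFun, Finset.disjoint_left]
    intro ω h1 h2
    rw [Finset.mem_erase, Finset.mem_filter] at h1 h2
    have hx : s₁⁻¹ * s₂ ∈ (P : Subgroup G) := by
      have : s₁⁻¹ * s₂ = (g⁻¹ * s₁)⁻¹ * (g⁻¹ * s₂) := by group
      rw [this]
      exact (P : Subgroup G).mul_mem ((P : Subgroup G).inv_mem (hS s₁ hs₁)) (hS s₂ hs₂)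
    have hx1 : s₁⁻¹ * s₂ ≠ 1 := by
      intro h
      apply hne
      have := inv_mul_eq_one.mp h
      exact this
    have hfix := fixedBy_eq_base p P hP hx hx1
    have hω : ω ∈ fixedBy (G ⧸ N) (s₁⁻¹ * s₂) := by
      rw [mem_fixedBy, mul_smul, h2.2.2]
      rw [inv_smul_eq_iff]
      exact h1.2.2.symm
    rw [hfix, Set.mem_singleton_iff] at hω
    exact h1.1 hω
  calc ∑ s ∈ S, (Nat.card (fixedBy (G ⧸ N) s) - 1)
      = ∑ s ∈ S, (F s).card := by
        apply Finset.sum_congr rfl
        intro s hs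
        exact (hcardF s hs).symm
    _ = (S.biUnion F).card := (Finset.card_biUnion hdisj).symm
    _ ≤ (Finset.univ.erase base).card := by
        apply Finset.card_le_card
        intro ω hω
        rw [Finset.mem_biUnion] at hω
        obtain ⟨s, -, hs⟩ := hω
        rw [Finset.mem_erase] at hs ⊢
        exact ⟨hs.1, Finset.mem_univ _⟩
    _ = N.index - 1 := by
        rw [Finset.card_erase_of_mem (Finset.mem_univ _), Finset.card_univ,
          ← Nat.card_eq_fintype_card]
        rfl

/-- Uniform version of the double count. -/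
theorem card_mul_fixedBy_sub_one_le (p : ℕ) [Fact p.Prime] (P : Sylow p G)
    (hP : Nat.card ↥(P : Subgroup G) = p) (S : Finset G) (g : G)
    (hg : g ∈ normalizer ((P : Subgroup G) : Set G))
    (hS : ∀ s ∈ S, g⁻¹ * s ∈ (P : Subgroup G)) (f : ℕ)
    (hf : ∀ s ∈ S, Nat.card (fixedBy (G ⧸ normalizer ((P : Subgroup G) : Set G)) s) = f) :
    S.card * (f - 1) ≤ (normalizer ((P : Subgroup G) : Set G)).index - 1 := by
  have := sum_card_fixedBy_sub_one_le p P hP S g hg hS
  rw [Finset.sum_congr rfl (fun s hs => by rw [hf s hs])] at this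
  simpa using this

end Cfsg.Agent.Lib.H5.SylPrime
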