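import Mathlib
import Cfsg.Agent.Lib.H5.Ord.DoubleCount
import Cfsg.Agent.Lib.H5.Ord.SylPrime2
import Cfsg.Agent.Lib.H5.Ord.Ord1440a

set_option autoImplicit false

/-! # Involutions in `N(P)` when `C(P) = P`, `|P| = p` odd -/

namespace Cfsg.Agent.Lib.H5.SylPrime

open Subgroup MulAction

variable {G : Type*} [Group G] [Finite G]

/-- An involution of `N(P)` is not in `C(P) = P` for `p` odd. -/
theorem inv_not_mem_of_odd {p : ℕ} [Fact p.Prime] (hp2 : p ≠ 2) (P : Subgroup G)
    (hP : Nat.card P = p) {t : G} (ht : orderOf t = 2) : t ∉ P := by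
  intro htP
  have h1 : orderOf (⟨t, htP⟩ : P) ∣ Nat.card P := orderOf_dvd_natCard _
  rw [Subgroup.orderOf_mk, ht, hP] at h1
  exact hp2 ((Nat.prime_dvd_prime_iff_eq Nat.prime_two Fact.out).mp h1).symm

/-- If `t` inverts `x` and `x ^ p = 1` with `p` odd, then `t * x` is conjugate to `t` by a power
of `x`. -/
theorem conj_pow_eq_mul {p : ℕ} (hodd : p % 2 = 1) {t x : G} (ht : t * t = 1)
    (hinv : t * x * t⁻¹ = x⁻¹) (hx : x ^ p = 1) :
    x ^ ((p - 1) / 2) * t * (x ^ ((p - 1) / 2))⁻¹ = t * x := by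
  set k := (p - 1) / 2 with hk
  have htinv : t⁻¹ = t := inv_eq_of_mul_eq_one_left ht
  -- t x^k t⁻¹ = x^{-k}
  have h1 : t * x ^ k * t⁻¹ = (x ^ k)⁻¹ := by
    have := map_pow (MulAut.conj t) x k
    simp only [MulAut.conj_apply] at this
    rw [this, hinv, inv_pow]
  -- x^k t = t x^{-k}
  have h2 : x ^ k * t = t * (x ^ k)⁻¹ := by
    have : t * (x ^ k)⁻¹ = t * (t * x ^ k * t⁻¹) := by rw [h1]
    rw [this, htinv]
    calc x ^ k * t = (t * t) * (x ^ k * t) := by rw [ht, one_mul]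
      _ = t * (t * x ^ k * t) := by group
  have h3 : (x ^ k)⁻¹ * (x ^ k)⁻¹ = x := by
    have h2k : 2 * k + 1 = p := by omega
    have : x ^ k * x ^ k * x = 1 := by
      rw [← pow_add, ← pow_succ]
      have : k + k + 1 = p := by omega
      rw [this, hx]
    calc (x ^ k)⁻¹ * (x ^ k)⁻¹ = (x ^ k)⁻¹ * (x ^ k)⁻¹ * (x ^ k * x ^ k * x) := by
          rw [this, mul_one]
      _ = x := by group
  calc x ^ k * t * (x ^ k)⁻¹ = t * (x ^ k)⁻¹ * (x ^ k)⁻¹ := by rw [h2]
    _ = t * ((x ^ k)⁻¹ * (x ^ k)⁻¹) := by group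
    _ = t * x := by rw [h3]

/-- Involution data in the self-centralizing case `C(P) = P`. -/
theorem inv_selfcentralizing [IsSimpleGroup G] (hG2 : 2 < Nat.card G) (p : ℕ) [Fact p.Prime]
    (hp2 : p ≠ 2) (P : Sylow p G) (hP : Nat.card ↥(P : Subgroup G) = p)
    (hC : centralizer ((P : Subgroup G) : Set G) = (P : Subgroup G)) {t : G}
    (htN : t ∈ normalizer ((P : Subgroup G) : Set G)) (ht : orderOf t = 2) :
    1 ≤ Nat.card (fixedBy (G ⧸ normalizer ((P : Subgroup G) : Set G)) t) ∧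
      p * (Nat.card (fixedBy (G ⧸ normalizer ((P : Subgroup G) : Set G)) t) - 1) ≤
        (normalizer ((P : Subgroup G) : Set G)).index - 1 ∧
      4 ∣ (normalizer ((P : Subgroup G) : Set G)).index -
        Nat.card (fixedBy (G ⧸ normalizer ((P : Subgroup G) : Set G)) t) ∧
      Nat.card (fixedBy (G ⧸ normalizer ((P : Subgroup G) : Set G)) t) *
        Nat.card (normalizer ((P : Subgroup G) : Set G)) =
          Nat.card (centralizer ({t} : Set G)) * p := by
  classical
  have hp : p.Prime := Fact.out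
  have hodd : p % 2 = 1 := by
    rcases hp.eq_two_or_odd with h | h
    · exact absurd h hp2
    · exact h
  set N := normalizer ((P : Subgroup G) : Set G) with hN
  have htt : t * t = 1 := by
    have := pow_orderOf_eq_one t
    rwa [ht, pow_two] at this
  have htinv : t⁻¹ = t := inv_eq_of_mul_eq_one_left htt
  have htC : t ∉ centralizer ((P : Subgroup G) : Set G) := by
    rw [hC]; exact inv_not_mem_of_odd hp2 (P : Subgroup G) hP ht
  have hinvP : ∀ x ∈ (P : Subgroup G), t * x * t⁻¹ = x⁻¹ :=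
    conj_eq_inv_of_not_mem_centralizer (P : Subgroup G) hP htN
      (by rw [htt]; exact one_mem _) htC
  -- the coset t P
  letI : Fintype G := Fintype.ofFinite _
  let S : Finset G := Finset.univ.filter (fun s : G => t⁻¹ * s ∈ (P : Subgroup G))
  have hSmem : ∀ s, s ∈ S ↔ t⁻¹ * s ∈ (P : Subgroup G) := by
    intro s
    simp only [S, Finset.mem_filter, Finset.mem_univ, true_and]
  have hScard : S.card = p := by
    rw [← hP, ← Nat.card_eq_finsetCard S]
    apply Nat.card_congr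
    refine (Equiv.mulLeft t⁻¹).subtypeEquiv ?_
    intro s
    rw [hSmem]
    rfl
  have hxp : ∀ x ∈ (P : Subgroup G), x ^ p = 1 := by
    intro x hx
    have h1 : orderOf (⟨x, hx⟩ : (P : Subgroup G)) ∣ Nat.card (P : Subgroup G) :=
      orderOf_dvd_natCard _
    rw [Subgroup.orderOf_mk, hP] at h1
    exact orderOf_dvd_iff_pow_eq_one.mp h1
  have hconj : ∀ s ∈ S, ∃ z ∈ (P : Subgroup G), z * t * z⁻¹ = s := by
    intro s hs
    have hx := (hSmem s).mp hs
    refine ⟨(t⁻¹ * s) ^ ((p - 1) / 2), (P : Subgroup G).pow_mem hx _, ?_⟩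
    rw [conj_pow_eq_mul hodd htt (hinvP _ hx) (hxp _ hx)]
    group
  have hfixS : ∀ s ∈ S, Nat.card (fixedBy (G ⧸ N) s) = Nat.card (fixedBy (G ⧸ N) t) := by
    intro s hs
    obtain ⟨z, -, rfl⟩ := hconj s hs
    exact Cfsg.Agent.S1019.card_fixedBy_conj N t z
  have hdc := card_mul_fixedBy_sub_one_le p P hP S t htN (fun s hs => (hSmem s).mp hs) _ hfixS
  rw [hScard] at hdc
  have hbase : (QuotientGroup.mk 1 : G ⧸ N) ∈ fixedBy (G ⧸ N) t := by
    rw [mem_fixedBy, Cfsg.Agent.S1018.smul_mk_eq_iff]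
    simpa using htN
  have hpos : 1 ≤ Nat.card (fixedBy (G ⧸ N) t) := by
    rw [Nat.one_le_iff_ne_zero]
    intro h0
    have : IsEmpty (fixedBy (G ⧸ N) t) := by
      rcases Finite.card_eq_zero_iff.mp h0 with h
      exact h
    exact this.false ⟨_, hbase⟩
  refine ⟨hpos, hdc, four_dvd_index_sub_card_fixedBy hG2 N ht, ?_⟩
  rw [card_fixedBy_mul_card N htN]
  congr 1
  -- the conjugates of t in N are exactly S
  rw [← hScard, ← Nat.card_eq_finsetCard S]
  apply Nat.card_congr
  refine Equiv.subtypeEquivRight ?_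
  intro g
  constructor
  · rintro ⟨hcj, hgN⟩
    have hgo : orderOf g = 2 := by
      obtain ⟨c, hc⟩ := isConj_iff.mp hcj
      rw [← hc]
      have := (MulAut.conj c).orderOf_eq t
      simp only [MulAut.conj_apply] at this
      rw [this, ht]
    have hgg : g * g = 1 := by
      have := pow_orderOf_eq_one g
      rwa [hgo, pow_two] at this
    have hgC : g ∉ centralizer ((P : Subgroup G) : Set G) := by
      rw [hC]; exact inv_not_mem_of_odd hp2 (P : Subgroup G) hP hgo
    have hinvg : ∀ x ∈ (P : Subgroup G), g * x * g⁻¹ = x⁻¹ :=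
      conj_eq_inv_of_not_mem_centralizer (P : Subgroup G) hP hgN
        (by rw [hgg]; exact one_mem _) hgC
    show g ∈ S
    rw [hSmem, ← hC, mem_centralizer_iff]
    intro x hx
    have hx' : x ∈ (P : Subgroup G) := hx
    have h1 := hinvP x hx'
    have h2 := hinvg x hx'
    have e1 : g * x = x⁻¹ * g := by
      calc g * x = (g * x * g⁻¹) * g := by group
        _ = x⁻¹ * g := by rw [h2]
    have e2 : t⁻¹ * x⁻¹ = x * t⁻¹ := by
      calc t⁻¹ * x⁻¹ = t⁻¹ * (t * x * t⁻¹) := by rw [h1]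
        _ = x * t⁻¹ := by group
    calc x * (t⁻¹ * g) = (x * t⁻¹) * g := by group
      _ = (t⁻¹ * x⁻¹) * g := by rw [e2]
      _ = t⁻¹ * (x⁻¹ * g) := by group
      _ = t⁻¹ * (g * x) := by rw [e1]
      _ = t⁻¹ * g * x := by group
  · intro hg
    have hg' : g ∈ S := hg
    obtain ⟨z, hz, rfl⟩ := hconj g hg'
    refine ⟨isConj_iff.mpr ⟨z, rfl⟩, ?_⟩
    exact N.mul_mem (N.mul_mem (le_normalizer hz) htN) (N.inv_mem (le_normalizer hz))

end Cfsg.Agent.Lib.H5.SylPrime

namespace Cfsg.Agent.Lib.H5.SylPrime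

open Subgroup MulAction

variable {G : Type*} [Group G] [Finite G]

/-- `C(P) = P` when `|C(P)| = |P| = p`. -/
theorem centralizer_eq_of_card {p : ℕ} [Fact p.Prime] (P : Subgroup G) (hP : Nat.card P = p)
    (hc : Nat.card (centralizer (P : Set G)) = p) : centralizer (P : Set G) = P := by
  symm
  apply Subgroup.eq_of_le_of_card_ge (le_centralizer_of_card_prime P hP)
  rw [hc, hP]

/-- Packaged involution data when `C(P) = P` and `|N(P)|` is even: `f` fixed points on the cosets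
of `N(P)` and `h = |C_G(t)|`. -/
theorem exists_inv_data_selfcent [IsSimpleGroup G] (hG2 : 2 < Nat.card G) (p : ℕ) [Fact p.Prime]
    (hp2 : p ≠ 2) (P : Sylow p G) (hP : Nat.card ↥(P : Subgroup G) = p)
    (hc : Nat.card (centralizer ((P : Subgroup G) : Set G)) = p)
    (heven : 2 ∣ Nat.card (normalizer ((P : Subgroup G) : Set G))) :
    ∃ (t : G) (f h : ℕ), orderOf t = 2 ∧ t ∈ normalizer ((P : Subgroup G) : Set G) ∧
      f = Nat.card (fixedBy (G ⧸ normalizer ((P : Subgroup G) : Set G)) t) ∧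
      h = Nat.card (centralizer ({t} : Set G)) ∧
      1 ≤ f ∧ p * (f - 1) ≤ Nat.card (Sylow p G) - 1 ∧ 4 ∣ Nat.card (Sylow p G) - f ∧
      f * Nat.card (normalizer ((P : Subgroup G) : Set G)) = h * p ∧ h ∣ Nat.card G ∧ 2 ∣ h := by
  have hC := centralizer_eq_of_card (P : Subgroup G) hP hc
  have : Fact (Nat.Prime 2) := ⟨Nat.prime_two⟩
  obtain ⟨t, ht⟩ := exists_prime_orderOf_dvd_card' (G := normalizer ((P : Subgroup G) : Set G)) 2
    heven
  have hto : orderOf (t : G) = 2 := by rw [Subgroup.orderOf_coe]; exact ht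
  obtain ⟨h1, h2, h3, h4⟩ := inv_selfcentralizing hG2 p hp2 P hP hC t.2 hto
  have hidx : (normalizer ((P : Subgroup G) : Set G)).index = Nat.card (Sylow p G) :=
    (Sylow.card_eq_index_normalizer P).symm
  rw [hidx] at h2 h3
  refine ⟨t, _, _, hto, t.2, rfl, rfl, h1, h2, h3, h4, Subgroup.card_subgroup_dvd_card _, ?_⟩
  have hmem : (t : G) ∈ centralizer ({(t : G)} : Set G) := by
    rw [mem_centralizer_iff]
    intro x hx
    rw [Set.mem_singleton_iff.mp hx]
  have := orderOf_dvd_natCard (⟨(t : G), hmem⟩ : centralizer ({(t : G)} : Set G))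
  rwa [Subgroup.orderOf_mk, hto] at this

end Cfsg.Agent.Lib.H5.SylPrime
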