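import Mathlib
import Cfsg.Agent.Lib.H5.Ord.InvSelf

set_option autoImplicit false

/-! # Double count for an element of `N(P)` inverting `P` -/

namespace Cfsg.Agent.Lib.H5.SylPrime

open Subgroup MulAction

variable {G : Type*} [Group G] [Finite G]

/-- If `t ∈ N(P)` with `t * t = 1` inverts `P` (`|P| = p` odd), then
`p * (fix t - 1) ≤ n_p - 1` on the cosets of `N(P)`. -/
theorem double_count_of_invert (p : ℕ) [Fact p.Prime] (hp2 : p ≠ 2) (P : Sylow p G)
    (hP : Nat.card ↥(P : Subgroup G) = p) {t : G}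
    (htN : t ∈ normalizer ((P : Subgroup G) : Set G)) (htt : t * t = 1)
    (hinvP : ∀ x ∈ (P : Subgroup G), t * x * t⁻¹ = x⁻¹) :
    p * (Nat.card (fixedBy (G ⧸ normalizer ((P : Subgroup G) : Set G)) t) - 1) ≤
      (normalizer ((P : Subgroup G) : Set G)).index - 1 := by
  classical
  have hp : p.Prime := Fact.out
  have hodd : p % 2 = 1 := by
    rcases hp.eq_two_or_odd with h | h
    · exact absurd h hp2
    · exact h
  set N := normalizer ((P : Subgroup G) : Set G) with hN
  letI : Fintype G := Fintype.ofFinite _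
  let S : Finset G := Finset.univ.filter (fun s : G => t⁻¹ * s ∈ (P : Subgroup G))
  have hSmem : ∀ s, s ∈ S ↔ t⁻¹ * s ∈ (P : Subgroup G) := by
    intro s
    simp only [S, Finset.mem_filter, Finset.mem_univ, true_and]
  have hScard : S.card = p := by
    rw [← hP, ← Nat.card_eq_finsetCard S]
    apply Nat.card_congr
    refine (Equiv.mulLeft t⁻¹).subtypeEquiv ?_
    intro s
    rw [hSmem]
    rfl
  have hxp : ∀ x ∈ (P : Subgroup G), x ^ p = 1 := by
    intro x hx
    have h1 : orderOf (⟨x, hx⟩ : (P : Subgroup G)) ∣ Nat.card (P : Subgroup G) :=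
      orderOf_dvd_natCard _
    rw [Subgroup.orderOf_mk, hP] at h1
    exact orderOf_dvd_iff_pow_eq_one.mp h1
  have hconj : ∀ s ∈ S, ∃ z ∈ (P : Subgroup G), z * t * z⁻¹ = s := by
    intro s hs
    have hx := (hSmem s).mp hs
    refine ⟨(t⁻¹ * s) ^ ((p - 1) / 2), (P : Subgroup G).pow_mem hx _, ?_⟩
    rw [conj_pow_eq_mul hodd htt (hinvP _ hx) (hxp _ hx)]
    group
  have hfixS : ∀ s ∈ S, Nat.card (fixedBy (G ⧸ N) s) = Nat.card (fixedBy (G ⧸ N) t) := by
    intro s hs
    obtain ⟨z, -, rfl⟩ := hconj s hs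
    exact Cfsg.Agent.S1019.card_fixedBy_conj N t z
  have hdc := card_mul_fixedBy_sub_one_le p P hP S t htN (fun s hs => (hSmem s).mp hs) _ hfixS
  rwa [hScard] at hdc

/-- Version for an element of `N(P) \ C(P)` whose square is `1`. -/
theorem double_count_of_not_mem_centralizer (p : ℕ) [Fact p.Prime] (hp2 : p ≠ 2) (P : Sylow p G)
    (hP : Nat.card ↥(P : Subgroup G) = p) {t : G}
    (htN : t ∈ normalizer ((P : Subgroup G) : Set G)) (htt : t * t = 1)
    (htC : t ∉ centralizer ((P : Subgroup G) : Set G)) :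
    p * (Nat.card (fixedBy (G ⧸ normalizer ((P : Subgroup G) : Set G)) t) - 1) ≤
      (normalizer ((P : Subgroup G) : Set G)).index - 1 :=
  double_count_of_invert p hp2 P hP htN htt
    (conj_eq_inv_of_not_mem_centralizer (P : Subgroup G) hP htN
      (by rw [htt]; exact one_mem _) htC)

end Cfsg.Agent.Lib.H5.SylPrime
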