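import Mathlib
import Cfsg.Agent.Lib.H5.Ord.Ord1440a

set_option autoImplicit false

/-! # Structure of `N(P) ⊇ C(P)` for `P` of prime order with abelian centralizer: involutions -/

namespace Cfsg.Agent.Lib.H5.SylPrime

open Subgroup MulAction

variable {G : Type*} [Group G]

/-- Two involutions of `N(P) \ C(P)` lie in the same coset of `C(P)` (`|P|` prime). -/
theorem inv_mul_mem_centralizer [Finite G] {p : ℕ} [Fact p.Prime] (P : Subgroup G)
    (hP : Nat.card P = p) {g z : G} (hgN : g ∈ normalizer (P : Set G))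
    (hzN : z ∈ normalizer (P : Set G)) (hg2 : g * g = 1) (hz2 : z * z = 1)
    (hgC : g ∉ centralizer (P : Set G)) (hzC : z ∉ centralizer (P : Set G)) :
    g⁻¹ * z ∈ centralizer (P : Set G) := by
  have h1 := conj_eq_inv_of_not_mem_centralizer P hP hgN (by rw [hg2]; exact one_mem _) hgC
  have h2 := conj_eq_inv_of_not_mem_centralizer P hP hzN (by rw [hz2]; exact one_mem _) hzC
  have hginv : g⁻¹ = g := inv_eq_of_mul_eq_one_left hg2
  rw [mem_centralizer_iff]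
  intro x hx
  -- (g⁻¹ z) x (g⁻¹ z)⁻¹ = x
  have e1 : z * x * z⁻¹ = x⁻¹ := h2 x hx
  have e2 : g * x⁻¹ * g⁻¹ = x := by
    have := h1 x⁻¹ (P.inv_mem hx)
    rwa [inv_inv] at this
  have : g⁻¹ * z * x * (g⁻¹ * z)⁻¹ = x := by
    calc g⁻¹ * z * x * (g⁻¹ * z)⁻¹ = g⁻¹ * (z * x * z⁻¹) * g := by group
      _ = g * x⁻¹ * g⁻¹ := by rw [e1, hginv]
      _ = x := e2
  calc x * (g⁻¹ * z) = (g⁻¹ * z * x * (g⁻¹ * z)⁻¹) * (g⁻¹ * z) := by rw [this]
    _ = g⁻¹ * z * x := by group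

/-- The subgroup of elements of order at most two of an abelian subgroup. -/
def invSub (C : Subgroup G) (hcomm : ∀ a ∈ C, ∀ b ∈ C, a * b = b * a) : Subgroup G where
  carrier := {c | c ∈ C ∧ c * c = 1}
  one_mem' := ⟨C.one_mem, by simp⟩
  mul_mem' := by
    rintro a b ⟨ha, ha2⟩ ⟨hb, hb2⟩
    refine ⟨C.mul_mem ha hb, ?_⟩
    calc a * b * (a * b) = a * (b * a) * b := by group
      _ = a * (a * b) * b := by rw [hcomm b hb a ha]
      _ = (a * a) * (b * b) := by group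
      _ = 1 := by rw [ha2, hb2, one_mul]
  inv_mem' := by
    rintro a ⟨ha, ha2⟩
    refine ⟨C.inv_mem ha, ?_⟩
    have : a⁻¹ = a := inv_eq_of_mul_eq_one_left ha2
    rw [this, ha2]

theorem mem_invSub {C : Subgroup G} {hcomm : ∀ a ∈ C, ∀ b ∈ C, a * b = b * a} {c : G} :
    c ∈ invSub C hcomm ↔ c ∈ C ∧ c * c = 1 := Iff.rfl

theorem invSub_le (C : Subgroup G) (hcomm : ∀ a ∈ C, ∀ b ∈ C, a * b = b * a) :
    invSub C hcomm ≤ C := fun _ h => h.1

theorem invSub_isPGroup (C : Subgroup G) (hcomm : ∀ a ∈ C, ∀ b ∈ C, a * b = b * a) :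
    IsPGroup 2 (invSub C hcomm) := by
  rintro ⟨c, hc⟩
  refine ⟨1, ?_⟩
  apply Subtype.ext
  simp only [pow_one, SubmonoidClass.mk_pow, OneMemClass.coe_one]
  rw [pow_two]
  exact hc.2

/-- the order of `invSub` is a power of two dividing `|C|` -/
theorem card_invSub [Finite G] (C : Subgroup G) (hcomm : ∀ a ∈ C, ∀ b ∈ C, a * b = b * a) :
    ∃ j : ℕ, Nat.card (invSub C hcomm) = 2 ^ j ∧ 2 ^ j ∣ Nat.card C := by
  obtain ⟨j, hj⟩ := IsPGroup.iff_card.mp (invSub_isPGroup C hcomm)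
  exact ⟨j, hj, hj ▸ Subgroup.card_dvd_of_le (invSub_le C hcomm)⟩

end Cfsg.Agent.Lib.H5.SylPrime
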