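import Mathlib
import Cfsg.Agent.Lib.H5.Ord.NCStruct

set_option autoImplicit false

/-! # Counting conjugates of an involution of `C(P)` inside `N(P)` -/

namespace Cfsg.Agent.Lib.H5.SylPrime

open Subgroup MulAction

variable {G : Type*} [Group G]

/-- conjugates of `y` inside `C` -/
def A1 (y : G) (C : Subgroup G) : Set G := {g | IsConj y g ∧ g ∈ C}

/-- conjugates of `y` inside `N \ C` -/
def A2 (y : G) (N C : Subgroup G) : Set G := {g | IsConj y g ∧ g ∈ N ∧ g ∉ C}

theorem card_conj_mem_eq [Finite G] (y : G) {N C : Subgroup G} (hCN : C ≤ N) :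
    Nat.card {g : G // IsConj y g ∧ g ∈ N} = (A1 y C).ncard + (A2 y N C).ncard := by
  have hdisj : Disjoint (A1 y C) (A2 y N C) := by
    rw [Set.disjoint_left]
    rintro g ⟨-, hgC⟩ ⟨-, -, hgnC⟩
    exact hgnC hgC
  rw [← Set.ncard_union_eq hdisj (Set.toFinite _) (Set.toFinite _)]
  have : {g : G | IsConj y g ∧ g ∈ N} = A1 y C ∪ A2 y N C := by
    ext g
    simp only [A1, A2, Set.mem_setOf_eq, Set.mem_union]
    constructor
    · rintro ⟨h1, h2⟩
      by_cases hg : g ∈ C
      · exact Or.inl ⟨h1, hg⟩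
      · exact Or.inr ⟨h1, h2, hg⟩
    · rintro (⟨h1, h2⟩ | ⟨h1, h2, -⟩)
      · exact ⟨h1, hCN h2⟩
      · exact ⟨h1, h2⟩
  rw [← this, ← Nat.card_coe_set_eq]
  rfl

theorem orderOf_eq_two_of_isConj {y g : G} (hy : orderOf y = 2) (h : IsConj y g) :
    g * g = 1 ∧ g ≠ 1 := by
  have ho : orderOf g = 2 := by rw [← Cfsg.Agent.Lib.H5.orderOf_eq_of_isConj h, hy]
  constructor
  · rw [← pow_two, ← ho, pow_orderOf_eq_one]
  · intro h1
    rw [h1, orderOf_one] at ho
    omega

theorem ncard_A1_add_one_le [Finite G] {y : G} (hy : orderOf y = 2) (C : Subgroup G)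
    (hcomm : ∀ a ∈ C, ∀ b ∈ C, a * b = b * a) :
    (A1 y C).ncard + 1 ≤ Nat.card (invSub C hcomm) := by
  have hsub : insert (1 : G) (A1 y C) ⊆ ((invSub C hcomm : Subgroup G) : Set G) := by
    intro g hg
    rcases hg with rfl | ⟨h1, h2⟩
    · exact one_mem _
    · exact ⟨h2, (orderOf_eq_two_of_isConj hy h1).1⟩
  have h1 : (1 : G) ∉ A1 y C := fun h => (orderOf_eq_two_of_isConj hy h.1).2 rfl
  have := Set.ncard_le_ncard hsub (Set.toFinite _)
  rw [Set.ncard_insert_of_notMem h1 (Set.toFinite _)] at this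
  rwa [← Nat.card_coe_set_eq]

theorem ncard_A2_add_card_le [Finite G] (y : G) {N C : Subgroup G} (hCN : C ≤ N) :
    (A2 y N C).ncard + Nat.card C ≤ Nat.card N := by
  have hdisj : Disjoint (A2 y N C) (C : Set G) := by
    rw [Set.disjoint_left]
    rintro g ⟨-, -, hgnC⟩ hgC
    exact hgnC hgC
  have hsub : A2 y N C ∪ (C : Set G) ⊆ (N : Set G) := by
    rintro g (⟨-, h, -⟩ | h)
    · exact h
    · exact hCN h
  have := Set.ncard_le_ncard hsub (Set.toFinite _)
  rw [Set.ncard_union_eq hdisj (Set.toFinite _) (Set.toFinite _)] at this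
  have e1 : ((C : Set G)).ncard = Nat.card C := by rw [← Nat.card_coe_set_eq]; rfl
  have e2 : ((N : Set G)).ncard = Nat.card N := by rw [← Nat.card_coe_set_eq]; rfl
  rwa [e1, e2] at this

/-- `P` acts freely by conjugation on the conjugates of `y` in `N(P) \ C(P)`. -/
theorem dvd_ncard_A2 [Finite G] {p : ℕ} [Fact p.Prime] (P : Subgroup G) (hP : Nat.card P = p)
    (y : G) : p ∣ (A2 y (normalizer (P : Set G)) (centralizer (P : Set G))).ncard := by
  have hPC : P ≤ centralizer (P : Set G) := le_centralizer_of_card_prime P hP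
  have hCN : centralizer (P : Set G) ≤ normalizer (P : Set G) := centralizer_le_normalizer _
  have hpg : IsPGroup p P := IsPGroup.of_card (n := 1) (by rw [hP, pow_one])
  rw [← Nat.card_coe_set_eq]
  apply dvd_card_of_conj_free P hpg
  · rintro q hq z ⟨h1, h2, h3⟩
    refine ⟨?_, ?_, ?_⟩
    · exact h1.trans (isConj_iff.mpr ⟨q, rfl⟩)
    · exact (normalizer _).mul_mem ((normalizer _).mul_mem (hCN (hPC hq)) h2)
        ((normalizer _).inv_mem (hCN (hPC hq)))
    · intro h
      apply h3
      have := (centralizer (P : Set G)).mul_mem ((centralizer (P : Set G)).mul_mem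
        ((centralizer (P : Set G)).inv_mem (hPC hq)) h) (hPC hq)
      convert this using 1
      group
  · rintro z ⟨-, -, h3⟩
    by_contra hall
    push Not at hall
    apply h3
    rw [mem_centralizer_iff]
    intro q hq
    have := hall q hq
    calc q * z = (q * z * q⁻¹) * q := by group
      _ = z * q := by rw [this]

/-- The conjugates of an involution `y` in `N(P) \ C(P)` all lie in a single coset of `C(P)`. -/
theorem ncard_A2_le_card [Finite G] {p : ℕ} [Fact p.Prime] (P : Subgroup G) (hP : Nat.card P = p)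
    {y : G} (hy : orderOf y = 2) :
    (A2 y (normalizer (P : Set G)) (centralizer (P : Set G))).ncard ≤
      Nat.card (centralizer (P : Set G)) := by
  rcases Set.eq_empty_or_nonempty (A2 y (normalizer (P : Set G)) (centralizer (P : Set G))) with h | ⟨g, hg⟩
  · rw [h, Set.ncard_empty]; exact Nat.zero_le _
  · have hg2 := (orderOf_eq_two_of_isConj hy hg.1).1
    rw [← Nat.card_coe_set_eq]
    let f : A2 y (normalizer (P : Set G)) (centralizer (P : Set G)) → centralizer (P : Set G) :=
      fun z => ⟨g⁻¹ * z, inv_mul_mem_centralizer P hP hg.2.1 z.2.2.1 hg2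
        (orderOf_eq_two_of_isConj hy z.2.1).1 hg.2.2 z.2.2.2⟩
    apply Nat.card_le_card_of_injective f
    intro a b hab
    have := congrArg Subtype.val hab
    simp only [f] at this
    exact Subtype.ext (mul_left_cancel this)

end Cfsg.Agent.Lib.H5.SylPrime
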