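import Mathlib
import Cfsg.Agent.Lib.H5.Ord.NCClass

set_option autoImplicit false

/-! # More structure of `C(P) ≤ N(P)` for `P` of prime order -/

namespace Cfsg.Agent.Lib.H5.SylPrime

open Subgroup MulAction

variable {G : Type*} [Group G]

/-- `N(P)` normalizes `C(P)`. -/
theorem conj_mem_centralizer_of_mem_normalizer (P : Subgroup G) {g c : G}
    (hg : g ∈ normalizer (P : Set G)) (hc : c ∈ centralizer (P : Set G)) :
    g * c * g⁻¹ ∈ centralizer (P : Set G) := by
  rw [mem_centralizer_iff]
  intro x hx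
  have hx' : g⁻¹ * x * g ∈ P := by
    have := (mem_normalizer_iff.mp ((normalizer (P : Set G)).inv_mem hg) x).mp hx
    rwa [inv_inv] at this
  have := (mem_centralizer_iff.mp hc) _ hx'
  calc x * (g * c * g⁻¹) = g * ((g⁻¹ * x * g) * c) * g⁻¹ := by group
    _ = g * (c * (g⁻¹ * x * g)) * g⁻¹ := by rw [this]
    _ = g * c * g⁻¹ * x := by group

theorem le_centralizer_singleton_of_comm {C : Subgroup G}
    (hcomm : ∀ a ∈ C, ∀ b ∈ C, a * b = b * a) {y : G} (hy : y ∈ C) :
    C ≤ centralizer ({y} : Set G) := by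
  intro c hc
  rw [mem_centralizer_iff]
  intro m hm
  rw [Set.mem_singleton_iff] at hm
  subst hm
  exact hcomm m hy c hc

/-- `C(P)` is abelian when `|C(P)| = p q^j` with `j ≤ 2`. -/
theorem centralizer_comm_of_card [Finite G] {p q j : ℕ} [Fact p.Prime] [Fact q.Prime]
    (P : Subgroup G) (hP : Nat.card P = p) (hpq : p ≠ q) (hj : j ≤ 2)
    (hC : Nat.card (centralizer (P : Set G)) = p * q ^ j) :
    ∀ a ∈ centralizer (P : Set G), ∀ b ∈ centralizer (P : Set G), a * b = b * a := by
  have hp : p.Prime := Fact.out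
  have hq : q.Prime := Fact.out
  set C := centralizer (P : Set G) with hCdef
  have hPC : P ≤ C := le_centralizer_of_card_prime P hP
  have hqd : q ^ j ∣ Nat.card C := by rw [hC]; exact Dvd.intro_left _ rfl
  obtain ⟨Q, hQ⟩ := Sylow.exists_subgroup_card_pow_prime q hqd
  have hQcomm : ∀ a ∈ Q, ∀ b ∈ Q, a * b = b * a := by
    intro a ha b hb
    have hj' : j = 0 ∨ j = 1 ∨ j = 2 := by omega
    rcases hj' with rfl | rfl | rfl
    · rw [pow_zero] at hQ
      have := (Nat.card_eq_one_iff_unique.mp hQ).1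
      have e : (⟨a, ha⟩ : Q) = ⟨b, hb⟩ := Subsingleton.elim _ _
      have : a = b := congrArg Subtype.val e
      rw [this]
    · rw [pow_one] at hQ
      have hcyc : IsCyclic Q := isCyclic_of_prime_card hQ
      have := (IsCyclic.commGroup (α := Q)).mul_comm ⟨a, ha⟩ ⟨b, hb⟩
      exact congrArg Subtype.val this
    · have := IsPGroup.commutative_of_card_eq_prime_sq hQ ⟨a, ha⟩ ⟨b, hb⟩
      exact congrArg Subtype.val this
  have hZ : P.subgroupOf C ≤ center C := by
    intro z hz
    rw [mem_center_iff]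
    intro c
    apply Subtype.ext
    have := (mem_centralizer_iff.mp c.2) z hz
    simp only [Subgroup.coe_mul]
    exact this.symm
  have hZcard : Nat.card (P.subgroupOf C) = p := by
    rw [Nat.card_congr (Subgroup.subgroupOfEquivOfLe hPC).toEquiv, hP]
  have hcop : (Nat.card (P.subgroupOf C)).Coprime (Nat.card Q) := by
    rw [hZcard, hQ]
    exact Nat.Coprime.pow_right _ ((Nat.coprime_primes hp hq).mpr hpq)
  have key := comm_of_central_coprime (P.subgroupOf C) Q hZ hQcomm (by rw [hZcard, hQ, hC]) hcop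
  intro a ha b hb
  exact congrArg Subtype.val (key ⟨a, ha⟩ ⟨b, hb⟩)

/-- If more than half of a coset of the abelian `C(P)` consists of conjugates of the involution
`y`, then each such conjugate inverts `C(P)`. -/
theorem invert_of_mem_A2 [Finite G] {p : ℕ} [Fact p.Prime] (P : Subgroup G) (hP : Nat.card P = p)
    (hcomm : ∀ a ∈ centralizer (P : Set G), ∀ b ∈ centralizer (P : Set G), a * b = b * a)
    {y : G} (hy : orderOf y = 2)
    (hbig : Nat.card (centralizer (P : Set G)) <
      2 * (A2 y (normalizer (P : Set G)) (centralizer (P : Set G))).ncard) :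
    ∀ g ∈ A2 y (normalizer (P : Set G)) (centralizer (P : Set G)),
      ∀ c ∈ centralizer (P : Set G), g * c * g⁻¹ = c⁻¹ := by
  intro g hg
  set C := centralizer (P : Set G) with hCdef
  set N := normalizer (P : Set G) with hNdef
  have hg2 := (orderOf_eq_two_of_isConj hy hg.1).1
  have hginv : g⁻¹ = g := inv_eq_of_mul_eq_one_left hg2
  let I : Subgroup G :=
    { carrier := {c | c ∈ C ∧ g * c * g⁻¹ = c⁻¹}
      one_mem' := ⟨C.one_mem, by simp⟩
      mul_mem' := by
        rintro a b ⟨ha, ha2⟩ ⟨hb, hb2⟩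
        refine ⟨C.mul_mem ha hb, ?_⟩
        calc g * (a * b) * g⁻¹ = (g * a * g⁻¹) * (g * b * g⁻¹) := by group
          _ = a⁻¹ * b⁻¹ := by rw [ha2, hb2]
          _ = b⁻¹ * a⁻¹ := hcomm _ (C.inv_mem ha) _ (C.inv_mem hb)
          _ = (a * b)⁻¹ := by group
      inv_mem' := by
        rintro a ⟨ha, ha2⟩
        refine ⟨C.inv_mem ha, ?_⟩
        calc g * a⁻¹ * g⁻¹ = (g * a * g⁻¹)⁻¹ := by group
          _ = a⁻¹⁻¹ := by rw [ha2] }
  have hIC : I ≤ C := fun c hc => hc.1
  have hle : (A2 y N C).ncard ≤ Nat.card I := by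
    rw [← Nat.card_coe_set_eq]
    let f : A2 y N C → I := fun z => ⟨g⁻¹ * z, by
      have hz2 := (orderOf_eq_two_of_isConj hy z.2.1).1
      have hzinv : (z : G)⁻¹ = z := inv_eq_of_mul_eq_one_left hz2
      refine ⟨inv_mul_mem_centralizer P hP hg.2.1 z.2.2.1 hg2 hz2 hg.2.2 z.2.2.2, ?_⟩
      calc g * (g⁻¹ * (z : G)) * g⁻¹ = (z : G) * g⁻¹ := by group
        _ = (z : G)⁻¹ * g⁻¹⁻¹ := by rw [hzinv, hginv, hginv]
        _ = (g⁻¹ * (z : G))⁻¹ := by group⟩
    apply Nat.card_le_card_of_injective f
    intro a b hab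
    have := congrArg Subtype.val hab
    simp only [f] at this
    exact Subtype.ext (mul_left_cancel this)
  have hmul := card_mul_relIndex_of_le hIC
  have hrel : I.relIndex C = 1 := by
    have hpos : 0 < I.relIndex C := Nat.pos_of_ne_zero (fun h => by
      rw [h, mul_zero] at hmul
      have : 0 < Nat.card C := Nat.card_pos
      omega)
    by_contra hne
    have h2 : 2 ≤ I.relIndex C := by omega
    have : 2 * Nat.card I ≤ Nat.card C := by
      calc 2 * Nat.card I = Nat.card I * 2 := by ring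
        _ ≤ Nat.card I * I.relIndex C := Nat.mul_le_mul_left _ h2
        _ = Nat.card C := hmul
    omega
  have hCI : C ≤ I := relIndex_eq_one.mp hrel
  intro c hc
  exact (hCI hc).2

/-- If every conjugate of `y` in `N(P) \ C(P)` inverts `C(P)` and some `2`-subgroup of `C(P)`
contains an element which is not of order at most two, then the number of these conjugates is
even. -/
theorem two_dvd_ncard_A2_of_invert [Finite G] (P : Subgroup G) {y : G}
    (hinv : ∀ g ∈ A2 y (normalizer (P : Set G)) (centralizer (P : Set G)),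
      ∀ c ∈ centralizer (P : Set G), g * c * g⁻¹ = c⁻¹)
    (Q : Subgroup G) (hQ : IsPGroup 2 Q) (hQC : Q ≤ centralizer (P : Set G))
    {q : G} (hq : q ∈ Q) (hq2 : q * q ≠ 1) :
    2 ∣ (A2 y (normalizer (P : Set G)) (centralizer (P : Set G))).ncard := by
  haveI : Fact (Nat.Prime 2) := ⟨Nat.prime_two⟩
  have hCN : centralizer (P : Set G) ≤ normalizer (P : Set G) := centralizer_le_normalizer _
  rw [← Nat.card_coe_set_eq]
  apply dvd_card_of_conj_free Q hQ
  · rintro c hc z ⟨h1, h2, h3⟩
    have hcC := hQC hc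
    refine ⟨?_, ?_, ?_⟩
    · exact h1.trans (isConj_iff.mpr ⟨c, rfl⟩)
    · exact (normalizer _).mul_mem ((normalizer _).mul_mem (hCN hcC) h2)
        ((normalizer _).inv_mem (hCN hcC))
    · intro h
      apply h3
      have := (centralizer (P : Set G)).mul_mem ((centralizer (P : Set G)).mul_mem
        ((centralizer (P : Set G)).inv_mem hcC) h) hcC
      convert this using 1
      group
  · intro z hz
    refine ⟨q, hq, ?_⟩
    intro h
    apply hq2
    have h1 := hinv z hz q (hQC hq)
    have h0 : q * z = z * q := mul_inv_eq_iff_eq_mul.mp h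
    have h2 : z * q * z⁻¹ = q := by
      rw [← h0]; group
    rw [h2] at h1
    calc q * q = q * q⁻¹ := by rw [← h1]
      _ = 1 := mul_inv_cancel q

end Cfsg.Agent.Lib.H5.SylPrime
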