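import Mathlib
import Cfsg.Agent.Lib.H5.Ord.GenTests

set_option autoImplicit false

/-! # Decidable N/C and fixed-point tests -/

namespace Cfsg.Agent.Lib.H5.GenTests

open Subgroup MulAction Cfsg.Agent.Lib.H5 Cfsg.Agent.Lib.H5.SylPrime

variable {G : Type*} [Group G] [Finite G] [IsSimpleGroup G]

theorem ne_ppow (hnc : ¬ IsMulCommutative G) (p k : ℕ) (hp : p.Prime) : Nat.card G ≠ p ^ k := by
  apply Cfsg.Agent.S0493.ne_ppow _ p k hp
  intro hcyc
  apply hnc
  exact ⟨⟨fun a b => (IsCyclic.commGroup (α := G)).mul_comm a b⟩⟩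

/-- Combined `N/C` and fixed-point test at a prime `p` dividing the order exactly once. -/
theorem ne_of_ncfp (hnc : ¬ IsMulCommutative G) (n p m : ℕ) [Fact p.Prime] (hnk : n = p * m)
    (hpm : ¬ p ∣ m) (hm : m ≠ 1)
    (hchk : ∀ j < m / p + 1, j ≠ 0 → (1 + p * j) ∣ m →
      ¬ (1 + p * j ≤ 12 ∧ ¬ 2 * n ∣ (1 + p * j).factorial) →
      ∀ r < p, r ≠ 1 → r ∣ p - 1 → p * r * (1 + p * j) ∣ n →
        ∃ q ∈ ([2, 3, 5] : List ℕ), q ∣ n / (r * (1 + p * j)) ∧
          ∀ f < 1 + p * j, f % p = 1 → f % q = (1 + p * j) % q →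
            (q = 2 → 4 ∣ (1 + p * j) - f) → False) :
    Nat.card G ≠ n := by
  intro hn
  have hp : p.Prime := Fact.out
  obtain ⟨d, r, c, h1, h2, h3, h4, h5, h6, h7, h8, hfp⟩ := prime_data hnc hn hnk hpm hm
  have hm0 : m ≠ 0 := fun h => hpm (h ▸ dvd_zero p)
  have hdm : d ≤ m := Nat.le_of_dvd (Nat.pos_of_ne_zero hm0) h1
  have hdj : d = 1 + p * (d / p) := by
    have := Nat.div_add_mod d p
    omega
  have hj0 : d / p ≠ 0 := by
    intro h0
    rw [h0, mul_zero] at hdj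
    exact h3 hdj
  have hjlt : d / p < m / p + 1 := by
    have : d / p ≤ m / p := Nat.div_le_div_right hdm
    omega
  have hrp : r < p := by
    have hp1 : 0 < p - 1 := by have := hp.two_le; omega
    have := Nat.le_of_dvd hp1 h5
    omega
  have hdvd : p * r * d ∣ n := by
    obtain ⟨c', rfl⟩ := h8
    exact ⟨c', by rw [← h7]; ring⟩
  have hn0 : n ≠ 0 := by
    rw [hnk]; exact Nat.mul_ne_zero hp.ne_zero hm0
  have hrd0 : r * d ≠ 0 := by
    intro h0
    rw [mul_assoc, h0, mul_zero] at h7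
    exact hn0 h7.symm
  have hc : n / (r * d) = c := by
    rw [← h7, mul_assoc]
    exact Nat.mul_div_cancel c (Nat.pos_of_ne_zero hrd0)
  obtain ⟨q, hq, hqc, hall⟩ := hchk (d / p) hjlt hj0 (hdj ▸ h1)
    (by rw [← hdj]; exact fun h => h.2 h4) r hrp h6 h5 (hdj ▸ hdvd)
  rw [← hdj, hc] at hqc
  rw [← hdj] at hall
  have hqp : q.Prime := by
    simp only [List.mem_cons, List.mem_nil_iff, or_false] at hq
    rcases hq with rfl | rfl | rfl <;> norm_num
  obtain ⟨f, hf1, hf2, hf3, hf4⟩ := hfp q hqp hqc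
  exact hall f hf3 hf1 hf2 hf4

end Cfsg.Agent.Lib.H5.GenTests
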