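import Mathlib
import Cfsg.Agent.Lib.H5.Ord.GenTests2

set_option autoImplicit false

/-! # Boolean checkers for the generic tests -/

namespace Cfsg.Agent.Lib.H5.GenTests

variable {G : Type*} [Group G] [Finite G] [IsSimpleGroup G]

/-- `d` is excluded as an index: `d ≤ 12` and `2 n ∤ d!`. -/
def idxBad (n d : ℕ) : Bool := decide (d ≤ 12) && !((d.factorial) % (2 * n) == 0)

theorem idxBad_iff (n d : ℕ) : idxBad n d = true ↔ (d ≤ 12 ∧ ¬ 2 * n ∣ d.factorial) := by
  simp [idxBad, Nat.dvd_iff_mod_eq_zero]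

/-- Boolean Sylow test. -/
def sylCheck (n p m : ℕ) : Bool :=
  (List.range (m / p + 1)).all fun j =>
    j == 0 || !(m % (1 + p * j) == 0) || idxBad n (1 + p * j)

theorem ne_of_sylCheck (hnc : ¬ IsMulCommutative G) (n p k m : ℕ) [Fact p.Prime]
    (hnk : n = p ^ k * m) (hpm : ¬ p ∣ m) (hk : k ≠ 0) (hm : m ≠ 1)
    (hchk : sylCheck n p m = true) : Nat.card G ≠ n := by
  apply ne_of_check hnc n p k m hnk hpm hk hm
  intro j hj hj0 hdvd
  rw [sylCheck, List.all_eq_true] at hchk
  have := hchk j (List.mem_range.mpr hj)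
  rw [Bool.or_eq_true, Bool.or_eq_true] at this
  rcases this with (h | h) | h
  · exact absurd (by simpa using h) hj0
  · exfalso
    simp only [Bool.not_eq_true', beq_eq_false_iff_ne, ne_eq] at h
    exact h (Nat.dvd_iff_mod_eq_zero.mp hdvd)
  · exact (idxBad_iff _ _).mp h

/-- No admissible number of fixed points. -/
def fpBad (p d q : ℕ) : Bool :=
  (List.range d).all fun f =>
    !(f % p == 1) || !(f % q == d % q) || (q == 2 && !((d - f) % 4 == 0))

theorem fpBad_spec (p d q : ℕ) (h : fpBad p d q = true) (f : ℕ) (hf : f < d) (h1 : f % p = 1)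
    (h2 : f % q = d % q) (h3 : q = 2 → 4 ∣ d - f) : False := by
  rw [fpBad, List.all_eq_true] at h
  have := h f (List.mem_range.mpr hf)
  rw [Bool.or_eq_true, Bool.or_eq_true] at this
  rcases this with (h | h) | h
  · simp [h1] at h
  · simp [h2] at h
  · rw [Bool.and_eq_true] at h
    obtain ⟨hq, h4⟩ := h
    have hq2 : q = 2 := by simpa using hq
    have := h3 hq2
    simp only [Bool.not_eq_true', beq_eq_false_iff_ne, ne_eq] at h4
    exact h4 (Nat.dvd_iff_mod_eq_zero.mp this)

/-- Boolean `N/C` + fixed-point test. -/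
def ncfpCheck (n p m : ℕ) : Bool :=
  (List.range (m / p + 1)).all fun j =>
    j == 0 || !(m % (1 + p * j) == 0) || idxBad n (1 + p * j) ||
    (List.range p).all fun r =>
      r == 1 || !((p - 1) % r == 0) || !(n % (p * r * (1 + p * j)) == 0) ||
      ([2, 3, 5] : List ℕ).any fun q =>
        (n / (r * (1 + p * j))) % q == 0 && fpBad p (1 + p * j) q

theorem ne_of_ncfpCheck (hnc : ¬ IsMulCommutative G) (n p m : ℕ) [Fact p.Prime]
    (hnk : n = p * m) (hpm : ¬ p ∣ m) (hm : m ≠ 1) (hchk : ncfpCheck n p m = true) :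
    Nat.card G ≠ n := by
  apply ne_of_ncfp hnc n p m hnk hpm hm
  intro j hj hj0 hdvd hidx r hr hr1 hrp hprd
  rw [ncfpCheck, List.all_eq_true] at hchk
  have h1 := hchk j (List.mem_range.mpr hj)
  rw [Bool.or_eq_true, Bool.or_eq_true, Bool.or_eq_true] at h1
  rcases h1 with ((h | h) | h) | h
  · exact absurd (by simpa using h) hj0
  · exfalso
    simp only [Bool.not_eq_true', beq_eq_false_iff_ne, ne_eq] at h
    exact h (Nat.dvd_iff_mod_eq_zero.mp hdvd)
  · exact absurd ((idxBad_iff _ _).mp h) hidx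
  · rw [List.all_eq_true] at h
    have h2 := h r (List.mem_range.mpr hr)
    rw [Bool.or_eq_true, Bool.or_eq_true, Bool.or_eq_true] at h2
    rcases h2 with ((h' | h') | h') | h'
    · exact absurd (by simpa using h') hr1
    · exfalso
      simp only [Bool.not_eq_true', beq_eq_false_iff_ne, ne_eq] at h'
      exact h' (Nat.dvd_iff_mod_eq_zero.mp hrp)
    · exfalso
      simp only [Bool.not_eq_true', beq_eq_false_iff_ne, ne_eq] at h'
      exact h' (Nat.dvd_iff_mod_eq_zero.mp hprd)
    · rw [List.any_eq_true] at h'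
      obtain ⟨q, hq, hq2⟩ := h'
      rw [Bool.and_eq_true] at hq2
      refine ⟨q, hq, ?_, ?_⟩
      · have : (n / (r * (1 + p * j))) % q = 0 := by simpa using hq2.1
        exact Nat.dvd_iff_mod_eq_zero.mpr this
      · intro f hf hf1 hf2 hf3
        exact fpBad_spec p _ q hq2.2 f hf hf1 hf2 hf3

end Cfsg.Agent.Lib.H5.GenTests
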