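import Mathlib
import Cfsg.Agent.S0985
import Cfsg.Agent.Lib.H5.Ord.GenTests

set_option autoImplicit false

/-! # Failure of `n_p ≡ 1 (mod p²)`: two Sylow subgroups with a large intersection, and the
normalizer of that intersection -/

namespace Cfsg.Agent.Lib.H5.BigNorm

open Subgroup Cfsg.Agent.Lib.H5 Cfsg.Agent.Lib.H5.SylPrime Cfsg.Agent.Lib.H5.GenTests

variable {G : Type*} [Group G] [Finite G]

/-- If `|P : P ∩ R| = p` for Sylow `p`-subgroups `P`, `R`, then `P` normalizes `P ∩ R`. -/
theorem le_normalizer_inf_of_relIndex {p : ℕ} [Fact p.Prime] (P R : Sylow p G)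
    (hidx : (R : Subgroup G).relIndex (P : Subgroup G) = p) :
    (P : Subgroup G) ≤ normalizer (((P : Subgroup G) ⊓ (R : Subgroup G) : Subgroup G) : Set G) := by
  have hp : p.Prime := Fact.out
  have hPne : Nat.card (P : Subgroup G) ≠ 1 := by
    intro h1
    have : (R : Subgroup G).relIndex (P : Subgroup G) ∣ Nat.card (P : Subgroup G) :=
      Subgroup.index_dvd_card _
    rw [hidx, h1] at this
    exact hp.one_lt.ne' (Nat.dvd_one.mp this)
  have hminfac : (Nat.card (P : Subgroup G)).minFac = p := by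
    obtain ⟨k, hk⟩ := IsPGroup.iff_card.mp P.2
    rw [hk]
    apply Nat.Prime.pow_minFac hp
    intro h0
    rw [h0, pow_zero] at hk
    exact hPne hk
  have hnormal : ((R : Subgroup G).subgroupOf (P : Subgroup G)).Normal := by
    apply normal_of_index_eq_minFac_card
    rw [hminfac]
    exact hidx
  have hconj : ∀ x ∈ (P : Subgroup G), ∀ y ∈ (P : Subgroup G) ⊓ (R : Subgroup G),
      x * y * x⁻¹ ∈ (P : Subgroup G) ⊓ (R : Subgroup G) := by
    intro x hx y hy
    refine ⟨(P : Subgroup G).mul_mem ((P : Subgroup G).mul_mem hx hy.1)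
      ((P : Subgroup G).inv_mem hx), ?_⟩
    have h1 : (⟨y, hy.1⟩ : (P : Subgroup G)) ∈ (R : Subgroup G).subgroupOf (P : Subgroup G) :=
      mem_subgroupOf.mpr hy.2
    have h2 := hnormal.conj_mem _ h1 ⟨x, hx⟩
    exact mem_subgroupOf.mp h2
  intro x hx
  rw [mem_normalizer_iff]
  intro y
  constructor
  · intro hy
    exact hconj x hx y hy
  · intro hy
    have := hconj x⁻¹ ((P : Subgroup G).inv_mem hx) _ hy
    simpa [mul_assoc] using this

/-- Numerical consequence of `n_p ≢ 1 (mod p²)` in a non-abelian simple group of order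
`n = p ^ k * m`, `k ≥ 2`: a subgroup of order `p ^ k * j` and index `m / j` with `d' > 1`
Sylow `p`-subgroups. -/
theorem exists_numeric_of_not_modEq [IsSimpleGroup G] (hnc : ¬ IsMulCommutative G)
    {n p k m : ℕ} [Fact p.Prime] (hn : Nat.card G = n) (hnk : n = p ^ k * m) (hpm : ¬ p ∣ m)
    (hk : 2 ≤ k) (hmod : ¬ Nat.card (Sylow p G) ≡ 1 [MOD p ^ 2]) :
    ∃ j d' : ℕ, j ∣ m ∧ d' ∣ j ∧ d' % p = 1 ∧ d' ≠ 1 ∧ j ≠ m ∧ 2 * n ∣ (m / j).factorial := by
  have hp : p.Prime := Fact.out
  have hm0 : m ≠ 0 := fun h => hpm (h ▸ dvd_zero p)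
  obtain ⟨P, R, hPR, hle⟩ := Cfsg.Agent.S0985.result p 2 hmod
  have hle' : (R : Subgroup G).relIndex (P : Subgroup G) ≤ p := by
    rw [Subgroup.relIndex]
    simpa using hle
  obtain ⟨hPc, hPi⟩ := sylow_card_and_index P (k := k) (m := m) (by rw [hn, hnk]) hpm
  obtain ⟨hRc, -⟩ := sylow_card_and_index R (k := k) (m := m) (by rw [hn, hnk]) hpm
  set D := (P : Subgroup G) ⊓ (R : Subgroup G) with hD
  have hDP : D ≤ (P : Subgroup G) := inf_le_left
  have hDR : D ≤ (R : Subgroup G) := inf_le_right
  have e1 : D.relIndex (P : Subgroup G) = (R : Subgroup G).relIndex (P : Subgroup G) := by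
    rw [hD, inf_comm]; exact inf_relIndex_right _ _
  have e2 : D.relIndex (R : Subgroup G) = (P : Subgroup G).relIndex (R : Subgroup G) := by
    rw [hD]; exact inf_relIndex_right _ _
  have c1 := card_mul_relIndex_of_le hDP
  have c2 := card_mul_relIndex_of_le hDR
  rw [hPc] at c1
  rw [hRc] at c2
  have hDpos : 0 < Nat.card D := Nat.card_pos
  have e3 : D.relIndex (P : Subgroup G) = D.relIndex (R : Subgroup G) :=
    Nat.eq_of_mul_eq_mul_left hDpos (c1.trans c2.symm)
  -- the index is exactly p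
  have hne1 : (R : Subgroup G).relIndex (P : Subgroup G) ≠ 1 := by
    intro h1
    have hPR' : (P : Subgroup G) ≤ (R : Subgroup G) := relIndex_eq_one.mp h1
    exact hPR (Sylow.ext (P.3 R.2 hPR').symm)
  have hidxP : (R : Subgroup G).relIndex (P : Subgroup G) = p := by
    have hdvd : (R : Subgroup G).relIndex (P : Subgroup G) ∣ p ^ k := by
      rw [← e1]; exact Dvd.intro_left _ c1
    obtain ⟨i, -, hi⟩ := (Nat.dvd_prime_pow hp).1 hdvd
    rw [hi] at hle' hne1 ⊢
    rcases Nat.lt_or_ge i 2 with h2 | h2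
    · interval_cases i
      · exact absurd (pow_zero p) hne1
      · exact pow_one p
    · exfalso
      have : p ^ 2 ≤ p ^ i := Nat.pow_le_pow_right hp.pos h2
      have hp2 := hp.two_le
      nlinarith
  have hidxR : (P : Subgroup G).relIndex (R : Subgroup G) = p := by
    rw [← e2, ← e3, e1, hidxP]
  have hPN := le_normalizer_inf_of_relIndex P R hidxP
  have hRN := le_normalizer_inf_of_relIndex R P hidxR
  rw [inf_comm] at hRN
  set M := normalizer (D : Set G) with hM
  -- D is a proper nontrivial subgroup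
  have hDcard : Nat.card D * p = p ^ k := by rw [e1, hidxP] at c1; exact c1
  have hDne_bot : D ≠ ⊥ := by
    intro hbot
    rw [hbot, Subgroup.card_bot, one_mul] at hDcard
    have : p ^ 2 ≤ p ^ k := Nat.pow_le_pow_right hp.pos hk
    have hp2 := hp.two_le
    nlinarith
  have hDne_top : D ≠ ⊤ := by
    intro htop
    have h1 : (P : Subgroup G) = ⊤ := top_le_iff.mp (htop ▸ hDP)
    have h2 : (R : Subgroup G) = ⊤ := top_le_iff.mp (htop ▸ hDR)
    exact hPR (Sylow.ext (h1.trans h2.symm))
  have hMtop : M ≠ ⊤ := by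
    intro htop
    have hnorm : D.Normal := normalizer_eq_top_iff.mp htop
    rcases hnorm.eq_bot_or_eq_top with h | h
    · exact hDne_bot h
    · exact hDne_top h
  -- Sylow subgroups of M
  have hcardM : Nat.card (P.subtype hPN : Subgroup M) = p ^ k := by
    rw [Sylow.coe_subtype, Nat.card_congr (Subgroup.subgroupOfEquivOfLe hPN).toEquiv, hPc]
  have hMcard := (P.subtype hPN : Subgroup M).card_mul_index
  rw [hcardM] at hMcard
  have hMidx := M.card_mul_index
  rw [hn, hnk, ← hMcard] at hMidx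
  set j := (P.subtype hPN : Subgroup M).index with hj
  have hjm : j * M.index = m := by
    have : p ^ k * (j * M.index) = p ^ k * m := by rw [← hMidx]; ring
    exact Nat.eq_of_mul_eq_mul_left (pow_pos hp.pos k) this
  have hjdvd : j ∣ m := Dvd.intro _ hjm
  have hjpos : 0 < j := Nat.pos_of_ne_zero (fun h => by rw [h, zero_mul] at hjm; exact hm0 hjm.symm)
  have hidxM : M.index = m / j := by
    rw [← hjm, Nat.mul_div_cancel_left _ hjpos]
  refine ⟨j, Nat.card (Sylow p M), hjdvd, Sylow.card_dvd_index (P.subtype hPN), ?_, ?_, ?_, ?_⟩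
  · have := card_sylow_modEq_one p M
    rw [Nat.ModEq, Nat.mod_eq_of_lt hp.one_lt] at this
    exact this
  · intro h1
    have : Subsingleton (Sylow p M) := (Nat.card_eq_one_iff_unique.mp h1).1
    have := Subsingleton.elim (P.subtype hPN) (R.subtype hRN)
    exact hPR (Sylow.subtype_injective this)
  · intro hjm'
    rw [hjm'] at hjm
    have : M.index = 1 := by
      have hmpos : 0 < m := Nat.pos_of_ne_zero hm0
      nlinarith
    exact hMtop (index_eq_one.mp this)
  · rw [← hidxM]
    have := two_mul_card_dvd_factorial_index hnc M hMtop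
    rwa [hn] at this

end Cfsg.Agent.Lib.H5.BigNorm
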