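import Mathlib

set_option autoImplicit false

/-! # Prime graph tools: elements of order `p * q` from coprime actions -/

namespace Cfsg.Agent.Lib.H5.PG7920

open Subgroup MulAction

variable {G : Type*} [Group G]

/-- Two commuting elements whose orders are divisible by distinct primes `p`, `q` produce an
element of order `p * q`. -/
theorem exists_orderOf_eq_mul_of_commute [Finite G] {p q : ℕ} (hp : p.Prime) (hq : q.Prime)
    (hpq : p ≠ q) {x y : G} (hx : p ∣ orderOf x) (hy : q ∣ orderOf y) (hxy : Commute x y) :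
    ∃ g : G, orderOf g = p * q := by
  have hx0 : orderOf x ≠ 0 := (orderOf_pos x).ne'
  have hy0 : orderOf y ≠ 0 := (orderOf_pos y).ne'
  have h1 := orderOf_pow_orderOf_div hx0 hx
  have h2 := orderOf_pow_orderOf_div hy0 hy
  have hc : Commute (x ^ (orderOf x / p)) (y ^ (orderOf y / q)) := hxy.pow_pow _ _
  refine ⟨x ^ (orderOf x / p) * y ^ (orderOf y / q), ?_⟩
  rw [hc.orderOf_mul_eq_mul_orderOf_of_coprime, h1, h2]
  rw [h1, h2]
  exact (Nat.coprime_primes hp hq).mpr hpq

/-- A nontrivial element of a `p`-group has order divisible by `p`. -/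
theorem dvd_orderOf_of_mem_pgroup [Finite G] {p : ℕ} [Fact p.Prime] {R : Subgroup G}
    (hR : IsPGroup p R) {x : G} (hx : x ∈ R) (hx1 : x ≠ 1) : p ∣ orderOf x := by
  obtain ⟨k, hk⟩ := hR ⟨x, hx⟩
  have hk' : x ^ p ^ k = 1 := by
    have := congrArg Subtype.val hk
    simpa using this
  have hd := orderOf_dvd_of_pow_eq_one hk'
  obtain ⟨j, -, hj⟩ := (Nat.dvd_prime_pow Fact.out).mp hd
  rcases Nat.eq_zero_or_pos j with h0 | h0
  · rw [h0, pow_zero] at hj
    exact absurd (orderOf_eq_one_iff.mp hj) hx1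
  · rw [hj]
    exact dvd_pow_self p h0.ne'

/-- A subgroup acting semiregularly by conjugation on a finite invariant set `S`:
`|Q| ∣ |S|`. -/
theorem card_dvd_card_of_conj_semiregular (Q : Subgroup G) (S : Set G) [Finite S]
    (hS : ∀ q ∈ Q, ∀ z ∈ S, q * z * q⁻¹ ∈ S)
    (hfree : ∀ z ∈ S, ∀ q ∈ Q, q * z * q⁻¹ = z → q = 1) : Nat.card Q ∣ Nat.card S := by
  letI : MulAction Q S :=
    { smul := fun q z => ⟨(q : G) * z * (q : G)⁻¹, hS q q.2 z z.2⟩
      one_smul := by
        intro z
        apply Subtype.ext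
        show ((1 : Q) : G) * z * ((1 : Q) : G)⁻¹ = z
        simp
      mul_smul := by
        intro a b z
        apply Subtype.ext
        show ((a * b : Q) : G) * z * ((a * b : Q) : G)⁻¹ = (a : G) * ((b : G) * z * (b : G)⁻¹) * (a : G)⁻¹
        simp only [Subgroup.coe_mul, mul_inv_rev]
        group }
  have hstab : ∀ b : S, MulAction.stabilizer Q b = ⊥ := by
    intro b
    rw [eq_bot_iff]
    intro q hq
    rw [MulAction.mem_stabilizer_iff] at hq
    have h1 : (q : G) * b * (q : G)⁻¹ = b := congrArg Subtype.val hq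
    have := hfree b b.2 q q.2 h1
    rw [Subgroup.mem_bot]
    exact Subtype.ext this
  have e := MulAction.selfEquivOrbitsQuotientProd hstab
  rw [Nat.card_congr e, Nat.card_prod]
  exact Dvd.intro_left _ rfl

/-- **Coprime action, non-semiregular case**: if a `q`-subgroup `Q` normalizes a `p`-subgroup `R`
and `|Q|` does not divide `|R| - 1`, there is an element of order `p * q`. -/
theorem exists_orderOf_eq_mul_of_normalizes [Finite G] {p q : ℕ} [Fact p.Prime] [Fact q.Prime]
    (hpq : p ≠ q) (R Q : Subgroup G) (hR : IsPGroup p R) (hQ : IsPGroup q Q)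
    (hnorm : ∀ y ∈ Q, ∀ z ∈ R, y * z * y⁻¹ ∈ R)
    (hnd : ¬ Nat.card Q ∣ Nat.card R - 1) : ∃ g : G, orderOf g = p * q := by
  by_contra hno
  apply hnd
  set S : Set G := (R : Set G) \ {1} with hSdef
  have hS : ∀ y ∈ Q, ∀ z ∈ S, y * z * y⁻¹ ∈ S := by
    intro y hy z hz
    refine ⟨hnorm y hy z hz.1, ?_⟩
    intro h
    rw [Set.mem_singleton_iff] at h
    apply hz.2
    rw [Set.mem_singleton_iff]
    have : z = y⁻¹ * (y * z * y⁻¹) * y := by group
    rw [this, h]; group
  have hfree : ∀ z ∈ S, ∀ y ∈ Q, y * z * y⁻¹ = z → y = 1 := by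
    intro z hz y hy hyz
    by_contra hy1
    apply hno
    have hz1 : z ≠ 1 := fun h => hz.2 (by rw [Set.mem_singleton_iff]; exact h)
    have hpz := dvd_orderOf_of_mem_pgroup hR hz.1 hz1
    have hqy := dvd_orderOf_of_mem_pgroup hQ hy hy1
    have hc : Commute z y := by
      have : y * z = z * y := by
        calc y * z = (y * z * y⁻¹) * y := by group
          _ = z * y := by rw [hyz]
      exact this.symm
    exact exists_orderOf_eq_mul_of_commute Fact.out Fact.out hpq hpz hqy hc
  have key := card_dvd_card_of_conj_semiregular Q S hS hfree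
  have hcard : Nat.card S = Nat.card R - 1 := by
    rw [hSdef, Nat.card_coe_set_eq, Set.ncard_diff_singleton_of_mem (R.one_mem),
      ← Nat.card_coe_set_eq]
    rfl
  rwa [hcard] at key

/-- An element of order `n` in a quotient lifts to an element of order `n`. -/
theorem exists_orderOf_of_quotient [Finite G] (N : Subgroup G) [N.Normal] {n : ℕ}
    (h : ∃ g : G ⧸ N, orderOf g = n) : ∃ g : G, orderOf g = n := by
  obtain ⟨gbar, hg⟩ := h
  obtain ⟨g, rfl⟩ := QuotientGroup.mk_surjective gbar
  have hd : n ∣ orderOf g := by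
    rw [← hg]
    exact orderOf_map_dvd (QuotientGroup.mk' N) g
  exact ⟨g ^ (orderOf g / n), orderOf_pow_orderOf_div (orderOf_pos g).ne' hd⟩

/-- An element of order `n` in a subgroup gives an element of order `n`. -/
theorem exists_orderOf_of_subgroup (H : Subgroup G) {n : ℕ}
    (h : ∃ g : H, orderOf g = n) : ∃ g : G, orderOf g = n := by
  obtain ⟨g, hg⟩ := h
  exact ⟨g, by rw [Subgroup.orderOf_coe]; exact hg⟩

end Cfsg.Agent.Lib.H5.PG7920
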