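import Mathlib
import Cfsg.Agent.Lib.H5.Ord.PG7920a

set_option autoImplicit false

/-! # Prime graph tools: a coprime `q`-subgroup normalizes a Sylow `p`-subgroup of a normal
subgroup -/

namespace Cfsg.Agent.Lib.H5.PG7920

open Subgroup MulAction
open scoped Pointwise

variable {G : Type*} [Group G]

/-- A `q`-subgroup `Q` acting on a normal subgroup `M` of order prime to `q` normalizes some Sylow
`p`-subgroup of `M`. -/
theorem exists_sylow_normalized [Finite G] {p q : ℕ} [Fact p.Prime] [Fact q.Prime]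
    (M : Subgroup G) [M.Normal] (Q : Subgroup G) (hQ : IsPGroup q Q)
    (hqM : ¬ q ∣ Nat.card M) :
    ∃ R : Sylow p M, ∀ y ∈ Q, ∀ z ∈ (R : Subgroup M).map M.subtype,
      y * z * y⁻¹ ∈ (R : Subgroup M).map M.subtype := by
  let f : Q →* MulAut M := (MulAut.conjNormal (H := M)).comp Q.subtype
  letI : MulAction Q (Sylow p M) := MulAction.compHom (Sylow p M) f
  have hnd : ¬ q ∣ Nat.card (Sylow p M) := by
    intro h
    obtain ⟨R0⟩ : Nonempty (Sylow p M) := inferInstance
    have h1 := R0.card_dvd_index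
    have h2 : (R0 : Subgroup M).index ∣ Nat.card M := Subgroup.index_dvd_card _
    exact hqM (h.trans (h1.trans h2))
  obtain ⟨R, hR⟩ := hQ.nonempty_fixed_point_of_prime_not_dvd_card (Sylow p M) hnd
  refine ⟨R, ?_⟩
  intro y hy z hz
  obtain ⟨m, hm, rfl⟩ := hz
  have hfix : (⟨y, hy⟩ : Q) • R = R := hR ⟨y, hy⟩
  have hfix' : (MulAut.conjNormal y : MulAut M) • R = R := hfix
  have hmem : (MulAut.conjNormal y : MulAut M) • m ∈
      ((MulAut.conjNormal y : MulAut M) • (R : Subgroup M)) :=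
    Subgroup.smul_mem_pointwise_smul m _ _ hm
  rw [← Sylow.pointwise_smul_def, hfix'] at hmem
  exact ⟨_, hmem, MulAut.conjNormal_apply y m⟩

/-- **Coprime action on a normal subgroup**: if `q ∤ |M|`, `M` normal, `Q` a `q`-subgroup and
`|Q|` divides `|R| - 1` for no Sylow `p`-subgroup `R` of `M`, there is an element of order
`p * q`. -/
theorem exists_orderOf_eq_mul_of_normal_coprime [Finite G] {p q : ℕ} [Fact p.Prime]
    [Fact q.Prime] (hpq : p ≠ q) (M : Subgroup G) [M.Normal] (Q : Subgroup G)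
    (hQ : IsPGroup q Q) (hqM : ¬ q ∣ Nat.card M)
    (hnd : ∀ R : Sylow p M, ¬ Nat.card Q ∣ Nat.card R - 1) : ∃ g : G, orderOf g = p * q := by
  obtain ⟨R, hR⟩ := exists_sylow_normalized (p := p) M Q hQ hqM
  have hRp : IsPGroup p ((R : Subgroup M).map M.subtype) := R.isPGroup'.map _
  apply exists_orderOf_eq_mul_of_normalizes hpq _ Q hRp hQ hR
  rw [Subgroup.card_subtype]
  exact hnd R

end Cfsg.Agent.Lib.H5.PG7920
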