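import Mathlib
import Cfsg.Agent.Lib.H5.SimpleTools
import Cfsg.Agent.Lib.H5.Ord.Ord1440a
import Cfsg.Agent.Lib.H5.Ord.PG7920a
import Cfsg.Agent.Lib.H5.Ord.PG7920b

set_option autoImplicit false

/-! # Prime graph tools: edges from a normal subgroup of order 11, groups of order 495 -/

namespace Cfsg.Agent.Lib.H5.PG7920

open Subgroup MulAction

variable {G : Type*} [Group G]

/-- A normal `p`-subgroup `N` and a `q`-subgroup `Q` with `|Q| ∤ |N| - 1` give an element of order
`p * q`. -/
theorem exists_orderOf_eq_mul_of_normal_pgroup [Finite G] {p q : ℕ} [Fact p.Prime] [Fact q.Prime]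
    (hpq : p ≠ q) (N : Subgroup G) [hN : N.Normal] (hNp : IsPGroup p N) (Q : Subgroup G)
    (hQ : IsPGroup q Q) (hnd : ¬ Nat.card Q ∣ Nat.card N - 1) : ∃ g : G, orderOf g = p * q :=
  exists_orderOf_eq_mul_of_normalizes hpq N Q hNp hQ (fun y _ z hz => hN.conj_mem z hz y) hnd

/-- Cauchy: a subgroup of prime order `q`. -/
theorem exists_subgroup_card_prime [Finite G] (q : ℕ) [Fact q.Prime] (h : q ∣ Nat.card G) :
    ∃ Q : Subgroup G, Nat.card Q = q ∧ IsPGroup q Q := by
  obtain ⟨y, hy⟩ := exists_prime_orderOf_dvd_card' (G := G) q h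
  refine ⟨zpowers y, by rw [Nat.card_zpowers, hy], ?_⟩
  apply IsPGroup.of_card (n := 1)
  rw [Nat.card_zpowers, hy, pow_one]

/-- In a group `K` whose order is divisible by `60` and divides `7920`, a normal subgroup of
order `11` forces the edges `2 - 11`, `3 - 11` and (`5 - 11` or `3 - 5`) in the prime graph. -/
theorem edges_of_normal_eleven {K : Type*} [Group K] [Finite K] (P : Subgroup K) [hPn : P.Normal]
    (hP : Nat.card P = 11) (h60 : 60 ∣ Nat.card K) (hK : Nat.card K ∣ 7920) :
    (∃ g : K, orderOf g = 2 * 11) ∧ (∃ g : K, orderOf g = 3 * 11) ∧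
      ((∃ g : K, orderOf g = 5 * 11) ∨ (∃ g : K, orderOf g = 3 * 5)) := by
  haveI : Fact (Nat.Prime 11) := ⟨by norm_num⟩
  haveI : Fact (Nat.Prime 2) := ⟨by norm_num⟩
  haveI : Fact (Nat.Prime 3) := ⟨by norm_num⟩
  haveI : Fact (Nat.Prime 5) := ⟨by norm_num⟩
  set C := centralizer (P : Set K) with hC
  have hnorm : normalizer (P : Set K) = ⊤ := normalizer_eq_top_iff.mpr hPn
  have hr := Cfsg.Agent.Lib.H5.relIndex_centralizer_normalizer_dvd_of_card_prime P hP
  rw [hnorm, relIndex_top_right] at hr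
  have hci := C.card_mul_index
  -- a generator of `P`
  obtain ⟨x, hx⟩ := exists_prime_orderOf_dvd_card' (G := P) 11 (by rw [hP])
  have hxo : orderOf (x : K) = 11 := by rw [Subgroup.orderOf_coe]; exact hx
  -- edges from primes dividing `|C|`
  have hedge : ∀ q : ℕ, q.Prime → q ≠ 11 → q ∣ Nat.card C → ∃ g : K, orderOf g = q * 11 := by
    intro q hq hq11 hqc
    haveI : Fact q.Prime := ⟨hq⟩
    obtain ⟨y, hy⟩ := exists_prime_orderOf_dvd_card' (G := C) q hqc
    have hyo : orderOf (y : K) = q := by rw [Subgroup.orderOf_coe]; exact hy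
    have hyC : (y : K) ∈ centralizer (P : Set K) := y.2
    rw [mem_centralizer_iff] at hyC
    have hc : Commute (y : K) (x : K) := (hyC x x.2).symm
    exact exists_orderOf_eq_mul_of_commute hq (by norm_num) hq11 (by rw [hyo]) (by rw [hxo]) hc
  have hi : C.index ∈ Nat.divisors 10 := by
    rw [Nat.mem_divisors]; exact ⟨hr, by norm_num⟩
  have hdiv : (Nat.divisors 10) = {1, 2, 5, 10} := by decide
  rw [hdiv] at hi
  simp only [Finset.mem_insert, Finset.mem_singleton] at hi
  obtain ⟨t, ht⟩ := h60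
  have h6 : 6 ∣ Nat.card C := by
    rcases hi with h | h | h | h <;> rw [h] at hci <;> omega
  have h2 : 2 ∣ Nat.card C := (by norm_num : 2 ∣ 6).trans h6
  have h3 : 3 ∣ Nat.card C := (by norm_num : 3 ∣ 6).trans h6
  refine ⟨hedge 2 (by norm_num) (by norm_num) h2, hedge 3 (by norm_num) (by norm_num) h3, ?_⟩
  by_cases h5 : 5 ∣ Nat.card C
  · exact Or.inl (hedge 5 (by norm_num) (by norm_num) h5)
  · right
    have h5K : 5 ∣ Nat.card K := by rw [ht]; omega
    obtain ⟨Q, hQc, hQ⟩ := exists_subgroup_card_prime (G := K) 5 h5K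
    apply exists_orderOf_eq_mul_of_normal_coprime (p := 3) (q := 5) (by norm_num) C Q hQ h5
    intro R
    rw [hQc]
    obtain ⟨k, hk⟩ := IsPGroup.exists_card_eq R.isPGroup'
    have hR3 : 3 ∣ Nat.card R := R.dvd_card_of_dvd_card h3
    have hRK : Nat.card R ∣ 7920 :=
      ((Subgroup.card_subgroup_dvd_card _).trans (Subgroup.card_subgroup_dvd_card C)).trans hK
    rw [hk] at hR3 hRK ⊢
    have hk3 : k < 3 := by
      by_contra hge
      push Not at hge
      have : 3 ^ 3 ∣ 3 ^ k := pow_dvd_pow 3 hge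
      have := this.trans hRK
      omega
    interval_cases k <;> omega

/-- A group of order `495` has an element of order `15`. -/
theorem exists_orderOf_fifteen_of_card_495 {K : Type*} [Group K] [Finite K]
    (hK : Nat.card K = 495) : ∃ g : K, orderOf g = 3 * 5 := by
  haveI : Fact (Nat.Prime 3) := ⟨by norm_num⟩
  haveI : Fact (Nat.Prime 5) := ⟨by norm_num⟩
  obtain ⟨P⟩ : Nonempty (Sylow 5 K) := inferInstance
  obtain ⟨hPc, hPi⟩ := Cfsg.Agent.Lib.H5.sylow_card_and_index P (k := 1) (m := 99)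
    (by rw [hK]; norm_num) (by norm_num)
  have h1 : Nat.card (Sylow 5 K) ∣ 99 := hPi ▸ P.card_dvd_index
  have h2 : Nat.card (Sylow 5 K) ≡ 1 [MOD 5] := card_sylow_modEq_one 5 K
  have h3 : Nat.card (normalizer ((P : Subgroup K) : Set K)) * Nat.card (Sylow 5 K) = 495 := by
    rw [← Cfsg.Agent.Lib.H5.index_normalizer_eq_card_sylow P, Subgroup.card_mul_index, hK]
  have hn : Nat.card (Sylow 5 K) = 1 ∨ Nat.card (Sylow 5 K) = 11 := by
    have hmem : Nat.card (Sylow 5 K) ∈ Nat.divisors 99 := by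
      rw [Nat.mem_divisors]; exact ⟨h1, by norm_num⟩
    have hd : Nat.divisors 99 = {1, 3, 9, 11, 33, 99} := by decide
    rw [hd] at hmem
    simp only [Finset.mem_insert, Finset.mem_singleton] at hmem
    unfold Nat.ModEq at h2
    rcases hmem with h | h | h | h | h | h <;> rw [h] at h2 <;> simp_all
  have h3N : 3 ∣ Nat.card (normalizer ((P : Subgroup K) : Set K)) := by
    rcases hn with h | h <;> rw [h] at h3 <;> omega
  obtain ⟨Q', hQc, hQ⟩ :=
    exists_subgroup_card_prime (G := normalizer ((P : Subgroup K) : Set K)) 3 h3N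
  set Q : Subgroup K := Q'.map (normalizer ((P : Subgroup K) : Set K)).subtype with hQdef
  have hQcard : Nat.card Q = 3 := by rw [hQdef, Subgroup.card_subtype, hQc]
  have hQp : IsPGroup 3 Q := hQ.map _
  have hQle : Q ≤ normalizer ((P : Subgroup K) : Set K) := Subgroup.map_subtype_le _
  have := exists_orderOf_eq_mul_of_normalizes (p := 5) (q := 3) (by norm_num) (P : Subgroup K) Q
    P.isPGroup' hQp (fun y hy z hz => ((mem_normalizer_iff.mp (hQle hy)) z).mp hz)
    (by rw [hQcard, hPc]; norm_num)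
  rwa [mul_comm] at this

end Cfsg.Agent.Lib.H5.PG7920
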