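import Mathlib
import Cfsg.Agent.Lib.H5.Ord.GenTests
import Cfsg.Agent.Lib.H5.Ord.PG7920d

set_option autoImplicit false

/-! # A proper simple "section" of order dividing `7920` and divisible by `11` has exactly `12`
Sylow `11`-subgroups -/

namespace Cfsg.Agent.Lib.H5.PG7920

open Subgroup MulAction Cfsg.Agent.Lib.H5 Cfsg.Agent.Lib.H5.SylPrime Cfsg.Agent.Lib.H5.GenTests

variable {S : Type*} [Group S] [Finite S]

theorem card_sylow11_eq_twelve [IsSimpleGroup S] (hnc : ¬ IsMulCommutative S)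
    (hdvd : Nat.card S ∣ 7920) (hne : Nat.card S ≠ 7920) (h11 : 11 ∣ Nat.card S)
    [Fact (Nat.Prime 11)] (P : Sylow 11 S) :
    Nat.card (Sylow 11 S) = 12 ∧ Nat.card (P : Subgroup S) = 11 := by
  obtain ⟨m, hm⟩ := h11
  obtain ⟨k, hk⟩ := hdvd
  have hk1 : k ≠ 1 := by
    rintro rfl
    rw [mul_one] at hk
    exact hne hk.symm
  have hmk : m * k = 720 := by
    rw [hm] at hk
    have : 11 * (m * k) = 11 * 720 := by rw [← mul_assoc]; omega
    exact Nat.eq_of_mul_eq_mul_left (by norm_num) this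
  have h11m : ¬ 11 ∣ m := by
    intro h
    have : 11 ∣ m * k := h.mul_right k
    rw [hmk] at this
    omega
  have hm1 : m ≠ 1 := by
    rintro rfl
    exact ne_paqb hnc 11 2 1 0 (by norm_num) (by norm_num) (by rw [hm]; norm_num)
  obtain ⟨h1, h2, h3, -, h5, h6, h7, h8, h9, -, -, -, h13, -⟩ :=
    prime_data_explicit hnc (n := Nat.card S) (p := 11) (m := m) rfl hm h11m hm1 P
  refine ⟨?_, h9⟩
  have hidx : (normalizer ((P : Subgroup S) : Set S)).index = Nat.card (Sylow 11 S) :=
    index_normalizer_eq_card_sylow P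
  generalize hr : (centralizer ((P : Subgroup S) : Set S)).relIndex
    (normalizer ((P : Subgroup S) : Set S)) = r at h5 h6 h7 h13
  generalize hd : Nat.card (Sylow 11 S) = d at h1 h2 h3 h7 hidx ⊢
  obtain ⟨c', hc'⟩ := h8
  rw [hc'] at h7 h13
  have hd720 : d ∣ 720 := h1.trans ⟨k, hmk.symm⟩
  have hdcases : d = 12 ∨ d = 45 ∨ d = 144 := by
    have hall : ∀ j < 66, (11 * j + 1) ∣ 720 → 11 * j + 1 ≠ 1 →
        11 * j + 1 = 12 ∨ 11 * j + 1 = 45 ∨ 11 * j + 1 = 144 := by
      decide
    have hdle : d ≤ 720 := Nat.le_of_dvd (by norm_num) hd720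
    have hdj : d = 11 * (d / 11) + 1 := by omega
    have := hall (d / 11) (by omega) (hdj ▸ hd720) (hdj ▸ h3)
    rwa [← hdj] at this
  have hr10 : r ∣ 10 := h5
  have hrle : r ≤ 10 := Nat.le_of_dvd (by norm_num) hr10
  have hr0 : r ≠ 0 := by
    rintro rfl
    simp at hr10
  have hprod : 11 * c' * r * d * k = 7920 := by
    rw [h7, ← hk]
  rcases hdcases with rfl | rfl | rfl
  · rfl
  · exfalso
    -- d = 45
    have hr2 : r = 2 := by
      have h16 : c' * r * k = 16 := by
        have : 495 * (c' * r * k) = 495 * 16 := by linarith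
        exact Nat.eq_of_mul_eq_mul_left (by norm_num) this
      have : r ∣ 16 := ⟨c' * k, by rw [← h16]; ring⟩
      interval_cases r <;> omega
    subst hr2
    have hck : c' * k = 8 := by
      have : 990 * (c' * k) = 990 * 8 := by linarith
      exact Nat.eq_of_mul_eq_mul_left (by norm_num) this
    have hc8 : c' ∣ 8 := ⟨k, hck.symm⟩
    have hcle : c' ≤ 8 := Nat.le_of_dvd (by norm_num) hc8
    have ha : c' = 1 ∨ c' = 2 ∨ c' = 4 := by
      interval_cases c' <;> omega
    exact not_sylow11_45 P h9 c' ha hc' (by rw [← h13]; ring) hidx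
  · exfalso
    -- d = 144
    have h5' : c' * r * k = 5 := by
      have : 1584 * (c' * r * k) = 1584 * 5 := by linarith
      exact Nat.eq_of_mul_eq_mul_left (by norm_num) this
    have hr5 : r ∣ 5 := ⟨c' * k, by rw [← h5']; ring⟩
    have hr5' : r = 5 := by
      interval_cases r <;> omega
    subst hr5'
    have hck : c' * k = 1 := by
      have : 5 * (c' * k) = 5 * 1 := by linarith
      exact Nat.eq_of_mul_eq_mul_left (by norm_num) this
    exact hk1 (Nat.eq_one_of_mul_eq_one_left hck)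

end Cfsg.Agent.Lib.H5.PG7920
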