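import Mathlib
import Cfsg.Agent.Lib.H5.SimpleTools
import Cfsg.Agent.Lib.H5.Ord.GenTests
import Cfsg.Agent.Lib.H5.Ord.PG7920a
import Cfsg.Agent.Lib.H5.Ord.PG7920b
import Cfsg.Agent.Lib.H5.Ord.PG7920c
import Cfsg.Agent.Lib.H5.Ord.PG7920e

set_option autoImplicit false

/-! # Groups of order `7920` with a proper nontrivial normal subgroup have connected prime graph:
the two cases of a minimal normal subgroup -/

namespace Cfsg.Agent.Lib.H5.PG7920

open Subgroup MulAction Cfsg.Agent.Lib.H5 Cfsg.Agent.Lib.H5.SylPrime Cfsg.Agent.Lib.H5.GenTests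

variable {G : Type*} [Group G]

/-- The prime graph on `{2, 3, 5, 11}` is connected: every set of primes closed under edges puts
the four primes on the same side. -/
def PGConnected (G : Type*) [Group G] : Prop :=
  ∀ A : Set ℕ, (∀ p q : ℕ, p.Prime → q.Prime → p ∣ 7920 → q ∣ 7920 →
    (∃ g : G, orderOf g = p * q) → (p ∈ A ↔ q ∈ A)) →
    (3 ∈ A ↔ 2 ∈ A) ∧ (5 ∈ A ↔ 2 ∈ A) ∧ (11 ∈ A ↔ 2 ∈ A)

theorem prime_dvd_7920 {p : ℕ} (hp : p.Prime) (h : p ∣ 7920) :
    p = 2 ∨ p = 3 ∨ p = 5 ∨ p = 11 := by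
  have h7920 : 7920 = 2 ^ 4 * (3 ^ 2 * (5 * 11)) := by norm_num
  rw [h7920] at h
  rcases hp.dvd_mul.mp h with h | h
  · left; exact (Nat.prime_dvd_prime_iff_eq hp Nat.prime_two).mp (hp.dvd_of_dvd_pow h)
  rcases hp.dvd_mul.mp h with h | h
  · right; left; exact (Nat.prime_dvd_prime_iff_eq hp Nat.prime_three).mp (hp.dvd_of_dvd_pow h)
  rcases hp.dvd_mul.mp h with h | h
  · right; right; left; exact (Nat.prime_dvd_prime_iff_eq hp Nat.prime_five).mp h
  · right; right; right; exact (Nat.prime_dvd_prime_iff_eq hp (by norm_num)).mp h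

/-- A connected prime graph contradicts the disconnectedness hypothesis. -/
theorem false_of_pgConnected [Finite G] (hord : Nat.card G = 7920) (hc : PGConnected G)
    (hdisc : (∃ A : Set ℕ, (∃ a ∈ A, a.Prime ∧ a ∣ Nat.card G) ∧
      (∃ b ∉ A, b.Prime ∧ b ∣ Nat.card G) ∧
      ∀ a ∈ A, ∀ b ∉ A, a.Prime → b.Prime → a ∣ Nat.card G → b ∣ Nat.card G →
        ¬ ∃ g : G, orderOf g = a * b)) : False := by
  obtain ⟨A, ⟨a, haA, hap, had⟩, ⟨b, hbA, hbp, hbd⟩, hno⟩ := hdisc
  rw [hord] at had hbd hno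
  have hA : ∀ p q : ℕ, p.Prime → q.Prime → p ∣ 7920 → q ∣ 7920 →
      (∃ g : G, orderOf g = p * q) → (p ∈ A ↔ q ∈ A) := by
    intro p q hp hq hpd hqd he
    constructor
    · intro h
      by_contra h'
      exact hno p h q h' hp hq hpd hqd he
    · intro h
      by_contra h'
      exact hno q h p h' hq hp hqd hpd (mul_comm p q ▸ he)
  obtain ⟨h3, h5, h11⟩ := hc A hA
  rcases prime_dvd_7920 hap had with rfl | rfl | rfl | rfl <;>
    rcases prime_dvd_7920 hbp hbd with rfl | rfl | rfl | rfl <;> tauto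

/-- Subgroups of the Sylow orders in a group of order `7920`. -/
theorem exists_sylow_subgroups [Finite G] (hord : Nat.card G = 7920) :
    (∃ Q : Subgroup G, Nat.card Q = 16 ∧ IsPGroup 2 Q) ∧
    (∃ Q : Subgroup G, Nat.card Q = 9 ∧ IsPGroup 3 Q) ∧
    (∃ Q : Subgroup G, Nat.card Q = 5 ∧ IsPGroup 5 Q) ∧
    (∃ Q : Subgroup G, Nat.card Q = 11 ∧ IsPGroup 11 Q) := by
  haveI : Fact (Nat.Prime 11) := ⟨by norm_num⟩
  haveI : Fact (Nat.Prime 2) := ⟨by norm_num⟩
  haveI : Fact (Nat.Prime 3) := ⟨by norm_num⟩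
  haveI : Fact (Nat.Prime 5) := ⟨by norm_num⟩
  refine ⟨?_, ?_, ?_, ?_⟩
  · obtain ⟨K, hK⟩ := Sylow.exists_subgroup_card_pow_prime (G := G) 2 (n := 4)
      (by rw [hord]; norm_num)
    exact ⟨K, by rw [hK]; norm_num, IsPGroup.of_card hK⟩
  · obtain ⟨K, hK⟩ := Sylow.exists_subgroup_card_pow_prime (G := G) 3 (n := 2)
      (by rw [hord]; norm_num)
    exact ⟨K, by rw [hK]; norm_num, IsPGroup.of_card hK⟩
  · obtain ⟨K, hK⟩ := Sylow.exists_subgroup_card_pow_prime (G := G) 5 (n := 1)
      (by rw [hord]; norm_num)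
    exact ⟨K, by rw [hK]; norm_num, IsPGroup.of_card hK⟩
  · obtain ⟨K, hK⟩ := Sylow.exists_subgroup_card_pow_prime (G := G) 11 (n := 1)
      (by rw [hord]; norm_num)
    exact ⟨K, by rw [hK]; norm_num, IsPGroup.of_card hK⟩

/-- **Case of a normal `p`-subgroup.** -/
theorem pgConnected_of_normal_pgroup [Finite G] (hord : Nat.card G = 7920) (N : Subgroup G)
    [N.Normal] (hN1 : N ≠ ⊥) {p : ℕ} [hp : Fact p.Prime] (hNp : IsPGroup p N) :
    PGConnected G := by
  haveI : Fact (Nat.Prime 11) := ⟨by norm_num⟩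
  haveI : Fact (Nat.Prime 2) := ⟨by norm_num⟩
  haveI : Fact (Nat.Prime 3) := ⟨by norm_num⟩
  haveI : Fact (Nat.Prime 5) := ⟨by norm_num⟩
  obtain ⟨k, hk⟩ := IsPGroup.exists_card_eq hNp
  have hk0 : k ≠ 0 := by
    rintro rfl
    rw [pow_zero] at hk
    exact hN1 (Subgroup.card_eq_one.mp hk)
  have hk1 : 1 ≤ k := Nat.one_le_iff_ne_zero.mpr hk0
  have hNd : Nat.card N ∣ 7920 := hord ▸ Subgroup.card_subgroup_dvd_card N
  have hpd : p ∣ 7920 := (dvd_pow_self p hk0).trans (hk ▸ hNd)
  have hp4 : p = 2 ∨ p = 3 ∨ p = 5 ∨ p = 11 := prime_dvd_7920 hp.out hpd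
  obtain ⟨⟨Q2, hQ2c, hQ2⟩, ⟨Q3, hQ3c, hQ3⟩, ⟨Q5, hQ5c, hQ5⟩, ⟨Q11, hQ11c, hQ11⟩⟩ :=
    exists_sylow_subgroups hord
  rw [hk] at hNd
  rcases hp4 with rfl | rfl | rfl | rfl
  · -- p = 2
    have hk4 : k ≤ 4 := by
      by_contra h
      push Not at h
      have : 2 ^ 5 ∣ 2 ^ k := pow_dvd_pow 2 h
      have := this.trans hNd
      omega
    have e3 : ∃ g : G, orderOf g = 2 * 3 :=
      exists_orderOf_eq_mul_of_normal_pgroup (by norm_num) N hNp Q3 hQ3
        (by rw [hQ3c, hk]; interval_cases k <;> norm_num)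
    have e11 : ∃ g : G, orderOf g = 2 * 11 :=
      exists_orderOf_eq_mul_of_normal_pgroup (by norm_num) N hNp Q11 hQ11
        (by rw [hQ11c, hk]; interval_cases k <;> norm_num)
    by_cases h16 : k = 4
    · have hq : Nat.card (G ⧸ N) = 495 := by
        have := Subgroup.card_eq_card_quotient_mul_card_subgroup N
        rw [hord, hk, h16] at this
        omega
      have e15 := exists_orderOf_of_quotient N (exists_orderOf_fifteen_of_card_495 hq)
      intro A hA
      have a1 := hA 2 3 (by norm_num) (by norm_num) (by norm_num) (by norm_num) e3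
      have a2 := hA 2 11 (by norm_num) (by norm_num) (by norm_num) (by norm_num) e11
      have a3 := hA 3 5 (by norm_num) (by norm_num) (by norm_num) (by norm_num) e15
      tauto
    · have e5 : ∃ g : G, orderOf g = 2 * 5 :=
        exists_orderOf_eq_mul_of_normal_pgroup (by norm_num) N hNp Q5 hQ5
          (by rw [hQ5c, hk]; interval_cases k <;> first | omega | norm_num)
      intro A hA
      have a1 := hA 2 3 (by norm_num) (by norm_num) (by norm_num) (by norm_num) e3
      have a2 := hA 2 11 (by norm_num) (by norm_num) (by norm_num) (by norm_num) e11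
      have a3 := hA 2 5 (by norm_num) (by norm_num) (by norm_num) (by norm_num) e5
      tauto
  · -- p = 3
    have hk4 : k ≤ 2 := by
      by_contra h
      push Not at h
      have : 3 ^ 3 ∣ 3 ^ k := pow_dvd_pow 3 h
      have := this.trans hNd
      omega
    have e2 : ∃ g : G, orderOf g = 3 * 2 :=
      exists_orderOf_eq_mul_of_normal_pgroup (by norm_num) N hNp Q2 hQ2
        (by rw [hQ2c, hk]; interval_cases k <;> norm_num)
    have e5 : ∃ g : G, orderOf g = 3 * 5 :=
      exists_orderOf_eq_mul_of_normal_pgroup (by norm_num) N hNp Q5 hQ5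
        (by rw [hQ5c, hk]; interval_cases k <;> norm_num)
    have e11 : ∃ g : G, orderOf g = 3 * 11 :=
      exists_orderOf_eq_mul_of_normal_pgroup (by norm_num) N hNp Q11 hQ11
        (by rw [hQ11c, hk]; interval_cases k <;> norm_num)
    intro A hA
    have a1 := hA 3 2 (by norm_num) (by norm_num) (by norm_num) (by norm_num) e2
    have a2 := hA 3 5 (by norm_num) (by norm_num) (by norm_num) (by norm_num) e5
    have a3 := hA 3 11 (by norm_num) (by norm_num) (by norm_num) (by norm_num) e11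
    tauto
  · -- p = 5
    have hk4 : k ≤ 1 := by
      by_contra h
      push Not at h
      have : 5 ^ 2 ∣ 5 ^ k := pow_dvd_pow 5 h
      have := this.trans hNd
      omega
    have e2 : ∃ g : G, orderOf g = 5 * 2 :=
      exists_orderOf_eq_mul_of_normal_pgroup (by norm_num) N hNp Q2 hQ2
        (by rw [hQ2c, hk]; interval_cases k; norm_num)
    have e3 : ∃ g : G, orderOf g = 5 * 3 :=
      exists_orderOf_eq_mul_of_normal_pgroup (by norm_num) N hNp Q3 hQ3
        (by rw [hQ3c, hk]; interval_cases k; norm_num)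
    have e11 : ∃ g : G, orderOf g = 5 * 11 :=
      exists_orderOf_eq_mul_of_normal_pgroup (by norm_num) N hNp Q11 hQ11
        (by rw [hQ11c, hk]; interval_cases k; norm_num)
    intro A hA
    have a1 := hA 5 2 (by norm_num) (by norm_num) (by norm_num) (by norm_num) e2
    have a2 := hA 5 3 (by norm_num) (by norm_num) (by norm_num) (by norm_num) e3
    have a3 := hA 5 11 (by norm_num) (by norm_num) (by norm_num) (by norm_num) e11
    tauto
  · -- p = 11
    have hk4 : k ≤ 1 := by
      by_contra h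
      push Not at h
      have : 11 ^ 2 ∣ 11 ^ k := pow_dvd_pow 11 h
      have := this.trans hNd
      omega
    have hk' : k = 1 := by omega
    rw [hk', pow_one] at hk
    obtain ⟨e2, e3, e5⟩ := edges_of_normal_eleven N hk (by rw [hord]; norm_num)
      (by rw [hord])
    intro A hA
    have a1 := hA 2 11 (by norm_num) (by norm_num) (by norm_num) (by norm_num) e2
    have a2 := hA 3 11 (by norm_num) (by norm_num) (by norm_num) (by norm_num) e3
    rcases e5 with e5 | e5
    · have a3 := hA 5 11 (by norm_num) (by norm_num) (by norm_num) (by norm_num) e5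
      tauto
    · have a3 := hA 3 5 (by norm_num) (by norm_num) (by norm_num) (by norm_num) e5
      tauto

end Cfsg.Agent.Lib.H5.PG7920
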