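import Mathlib
import Cfsg.Agent.Lib.H5.Ord.PG7920f

set_option autoImplicit false

/-! # Groups of order `7920`: the case of a nonabelian simple normal subgroup -/

namespace Cfsg.Agent.Lib.H5.PG7920

open Subgroup MulAction Cfsg.Agent.Lib.H5 Cfsg.Agent.Lib.H5.SylPrime Cfsg.Agent.Lib.H5.GenTests

variable {G : Type*} [Group G]

/-- **Frattini counting**: for a Sylow `p`-subgroup `P` of a normal subgroup `N`,
`|N_G(P)| * n_p(N) = |G|`. -/
theorem card_normalizer_map_mul_card_sylow [Finite G] (N : Subgroup G) [N.Normal] {p : ℕ}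
    [Fact p.Prime] (P : Sylow p N) :
    Nat.card (normalizer (((P : Subgroup N).map N.subtype : Subgroup G) : Set G)) *
      Nat.card (Sylow p N) = Nat.card G := by
  set P' : Subgroup G := (P : Subgroup N).map N.subtype with hP'
  set K := normalizer (P' : Set G) with hK
  have hfrat : K ⊔ N = ⊤ := Sylow.normalizer_sup_eq_top P
  have hP'N : P' ≤ N := map_subtype_le _
  have h1 : Nat.card (normalizer ((P : Subgroup N) : Set N)) * Nat.card (Sylow p N) =
      Nat.card N := by
    rw [← index_normalizer_eq_card_sylow P, Subgroup.card_mul_index]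
  have h2 : K.subgroupOf N = normalizer ((P : Subgroup N) : Set N) := by
    rw [hK, subgroupOf_normalizer_eq hP'N]
    congr 2
    rw [hP', Subgroup.subgroupOf, comap_map_eq_self_of_injective N.subtype_injective]
  have h3 : N.relIndex K = N.index := by
    have := Subgroup.relIndex_sup_right (H := K) (K := N)
    rw [hfrat, relIndex_top_right] at this
    exact this.symm
  have h4 : Nat.card (N ⊓ K : Subgroup G) * N.relIndex K = Nat.card K := by
    rw [← inf_relIndex_right]
    exact Cfsg.Agent.Lib.H5.SylPrime.card_mul_relIndex_of_le inf_le_right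
  have h5 : Nat.card (N ⊓ K : Subgroup G) = Nat.card (normalizer ((P : Subgroup N) : Set N)) := by
    have := Subgroup.card_subtype N (K.subgroupOf N)
    rw [subgroupOf_map_subtype] at this
    rw [← h2, ← this, inf_comm]
  rw [← h4, h3, h5, mul_right_comm, h1, Subgroup.card_mul_index]

/-- A divisor of `p ^ a * q ^ b` has the same shape. -/
theorem exists_eq_pow_mul_pow_of_dvd {p q a b d : ℕ} (hp : p.Prime) (hq : q.Prime)
    (h : d ∣ p ^ a * q ^ b) : ∃ i j, d = p ^ i * q ^ j := by
  obtain ⟨k1, k2, h1, h2, rfl⟩ := (Nat.dvd_mul).mp h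
  obtain ⟨i, -, rfl⟩ := (Nat.dvd_prime_pow hp).mp h1
  obtain ⟨j, -, rfl⟩ := (Nat.dvd_prime_pow hq).mp h2
  exact ⟨i, j, rfl⟩

/-- A nonabelian simple group of order dividing `720` has order divisible by `30`. -/
theorem thirty_dvd_card_of_simple {S : Type*} [Group S] [Finite S] [IsSimpleGroup S]
    (hnc : ¬ IsMulCommutative S) (h : Nat.card S ∣ 720) :
    2 ∣ Nat.card S ∧ 3 ∣ Nat.card S ∧ 5 ∣ Nat.card S := by
  refine ⟨?_, ?_, ?_⟩
  · by_contra h2
    have hc : Nat.Coprime (Nat.card S) 16 := by
      have : Nat.Coprime (Nat.card S) (2 ^ 4) :=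
        Nat.Coprime.pow_right 4 ((Nat.coprime_comm).mp ((Nat.Prime.coprime_iff_not_dvd
          Nat.prime_two).mpr h2))
      simpa using this
    have h45 : Nat.card S ∣ 3 ^ 2 * 5 ^ 1 := by
      have h' : Nat.card S ∣ 45 * 16 := by simpa using h
      simpa using hc.dvd_of_dvd_mul_right h'
    obtain ⟨i, j, hij⟩ := exists_eq_pow_mul_pow_of_dvd Nat.prime_three Nat.prime_five h45
    exact ne_paqb hnc 3 5 i j Nat.prime_three Nat.prime_five hij
  · by_contra h3
    have hc : Nat.Coprime (Nat.card S) 9 := by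
      have : Nat.Coprime (Nat.card S) (3 ^ 2) :=
        Nat.Coprime.pow_right 2 ((Nat.coprime_comm).mp ((Nat.Prime.coprime_iff_not_dvd
          Nat.prime_three).mpr h3))
      simpa using this
    have h80 : Nat.card S ∣ 2 ^ 4 * 5 ^ 1 := by
      have h' : Nat.card S ∣ 80 * 9 := by simpa using h
      simpa using hc.dvd_of_dvd_mul_right h'
    obtain ⟨i, j, hij⟩ := exists_eq_pow_mul_pow_of_dvd Nat.prime_two Nat.prime_five h80
    exact ne_paqb hnc 2 5 i j Nat.prime_two Nat.prime_five hij
  · by_contra h5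
    have hc : Nat.Coprime (Nat.card S) 5 :=
      (Nat.coprime_comm).mp ((Nat.Prime.coprime_iff_not_dvd Nat.prime_five).mpr h5)
    have h144 : Nat.card S ∣ 2 ^ 4 * 3 ^ 2 := by
      have h' : Nat.card S ∣ 144 * 5 := by simpa using h
      simpa using hc.dvd_of_dvd_mul_right h'
    obtain ⟨i, j, hij⟩ := exists_eq_pow_mul_pow_of_dvd Nat.prime_two Nat.prime_three h144
    exact ne_paqb hnc 2 3 i j Nat.prime_two Nat.prime_three hij

/-- Orders of Sylow `p`-subgroups of a subgroup of a group of order `7920`: the possible values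
minus one are never divisible by `11`. -/
theorem not_eleven_dvd_card_sylow_sub_one [Finite G] (hord : Nat.card G = 7920) (N : Subgroup G)
    {p : ℕ} [Fact p.Prime] (hp : p = 2 ∨ p = 3 ∨ p = 5) (hpN : p ∣ Nat.card N) (R : Sylow p N) :
    ¬ 11 ∣ Nat.card R - 1 := by
  obtain ⟨k, hk⟩ := IsPGroup.exists_card_eq R.isPGroup'
  have hRp : p ∣ Nat.card R := R.dvd_card_of_dvd_card hpN
  have hRd : Nat.card R ∣ 7920 :=
    ((Subgroup.card_subgroup_dvd_card _).trans (Subgroup.card_subgroup_dvd_card N)).trans
      (by rw [hord])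
  rw [hk] at hRp hRd ⊢
  have hk0 : k ≠ 0 := by
    rintro rfl
    rw [pow_zero] at hRp
    exact (Fact.out : p.Prime).one_lt.ne' (Nat.dvd_one.mp hRp)
  have hk1 : 1 ≤ k := Nat.one_le_iff_ne_zero.mpr hk0
  rcases hp with rfl | rfl | rfl
  · have hk4 : k ≤ 4 := by
      by_contra h
      push Not at h
      have : 2 ^ 5 ∣ 2 ^ k := pow_dvd_pow 2 h
      have := this.trans hRd
      omega
    interval_cases k <;> norm_num
  · have hk4 : k ≤ 2 := by
      by_contra h
      push Not at h
      have : 3 ^ 3 ∣ 3 ^ k := pow_dvd_pow 3 h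
      have := this.trans hRd
      omega
    interval_cases k <;> norm_num
  · have hk4 : k ≤ 1 := by
      by_contra h
      push Not at h
      have : 5 ^ 2 ∣ 5 ^ k := pow_dvd_pow 5 h
      have := this.trans hRd
      omega
    interval_cases k; norm_num

/-- **Case of a nonabelian simple proper normal subgroup.** -/
theorem pgConnected_of_simple_normal [Finite G] (hord : Nat.card G = 7920) (N : Subgroup G)
    [hNn : N.Normal] (hNtop : N ≠ ⊤) [IsSimpleGroup N] (hnc : ¬ IsMulCommutative N) :
    PGConnected G := by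
  haveI : Fact (Nat.Prime 11) := ⟨by norm_num⟩
  haveI : Fact (Nat.Prime 2) := ⟨by norm_num⟩
  haveI : Fact (Nat.Prime 3) := ⟨by norm_num⟩
  haveI : Fact (Nat.Prime 5) := ⟨by norm_num⟩
  have hNd : Nat.card N ∣ 7920 := hord ▸ Subgroup.card_subgroup_dvd_card N
  have hNne : Nat.card N ≠ 7920 := by
    intro h
    exact hNtop (Subgroup.eq_top_of_card_eq N (by rw [h, hord]))
  by_cases h11 : 11 ∣ Nat.card N
  · obtain ⟨P⟩ : Nonempty (Sylow 11 N) := inferInstance
    obtain ⟨hd, hPc⟩ := card_sylow11_eq_twelve hnc hNd hNne h11 P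
    set P' : Subgroup G := (P : Subgroup N).map N.subtype with hP'
    have hP'c : Nat.card P' = 11 := by rw [hP', Subgroup.card_subtype, hPc]
    set K := normalizer (P' : Set G) with hK
    have hKc : Nat.card K = 660 := by
      have : Nat.card K * Nat.card (Sylow 11 N) = Nat.card G :=
        card_normalizer_map_mul_card_sylow N P
      rw [hd, hord] at this
      omega
    have hP'K : P' ≤ K := le_normalizer
    have hPKn : (P'.subgroupOf K).Normal := Subgroup.normal_in_normalizer
    have hPKc : Nat.card (P'.subgroupOf K) = 11 := by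
      rw [Nat.card_congr (Subgroup.subgroupOfEquivOfLe hP'K).toEquiv, hP'c]
    obtain ⟨e2, e3, e5⟩ := edges_of_normal_eleven (K := K) (P'.subgroupOf K) (hPn := hPKn) hPKc
      (by rw [hKc]; norm_num) (by rw [hKc]; norm_num)
    have e2' := exists_orderOf_of_subgroup K e2
    have e3' := exists_orderOf_of_subgroup K e3
    intro A hA
    have a1 := hA 2 11 (by norm_num) (by norm_num) (by norm_num) (by norm_num) e2'
    have a2 := hA 3 11 (by norm_num) (by norm_num) (by norm_num) (by norm_num) e3'
    rcases e5 with e5 | e5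
    · have a3 := hA 5 11 (by norm_num) (by norm_num) (by norm_num) (by norm_num)
        (exists_orderOf_of_subgroup K e5)
      tauto
    · have a3 := hA 3 5 (by norm_num) (by norm_num) (by norm_num) (by norm_num)
        (exists_orderOf_of_subgroup K e5)
      tauto
  · have hc11 : Nat.Coprime (Nat.card N) 11 :=
      (Nat.coprime_comm).mp ((Nat.Prime.coprime_iff_not_dvd (by norm_num)).mpr h11)
    have h720 : Nat.card N ∣ 720 := by
      have h' : Nat.card N ∣ 720 * 11 := by simpa using hNd
      exact hc11.dvd_of_dvd_mul_right h'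
    obtain ⟨d2, d3, d5⟩ := thirty_dvd_card_of_simple hnc h720
    obtain ⟨-, -, -, ⟨Q11, hQ11c, hQ11⟩⟩ := exists_sylow_subgroups hord
    have e2 : ∃ g : G, orderOf g = 2 * 11 :=
      exists_orderOf_eq_mul_of_normal_coprime (by norm_num) N Q11 hQ11 h11
        (fun R => by
          rw [hQ11c]; exact not_eleven_dvd_card_sylow_sub_one hord N (Or.inl rfl) d2 R)
    have e3 : ∃ g : G, orderOf g = 3 * 11 :=
      exists_orderOf_eq_mul_of_normal_coprime (by norm_num) N Q11 hQ11 h11
        (fun R => by
          rw [hQ11c]; exact not_eleven_dvd_card_sylow_sub_one hord N (Or.inr (Or.inl rfl)) d3 R)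
    have e5 : ∃ g : G, orderOf g = 5 * 11 :=
      exists_orderOf_eq_mul_of_normal_coprime (by norm_num) N Q11 hQ11 h11
        (fun R => by
          rw [hQ11c]; exact not_eleven_dvd_card_sylow_sub_one hord N (Or.inr (Or.inr rfl)) d5 R)
    intro A hA
    have a1 := hA 2 11 (by norm_num) (by norm_num) (by norm_num) (by norm_num) e2
    have a2 := hA 3 11 (by norm_num) (by norm_num) (by norm_num) (by norm_num) e3
    have a3 := hA 5 11 (by norm_num) (by norm_num) (by norm_num) (by norm_num) e5
    tauto

end Cfsg.Agent.Lib.H5.PG7920
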