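import Mathlib
import Cfsg.Agent.Lib.H18.MinNormal
import Cfsg.Agent.Lib.H5.Ord.PG7920g

set_option autoImplicit false

/-! # A non-simple group of order `7920` has a connected prime graph -/

namespace Cfsg.Agent.Lib.H5.PG7920

open Subgroup MulAction Cfsg.Agent.Lib.H5 Cfsg.Agent.Lib.H5.GenTests

variable {G : Type*} [Group G]

theorem dvd_twelve_of_sq_dvd_7920 {t : ℕ} (h : t ^ 2 ∣ 7920) : t ∣ 12 := by
  have hall : ∀ t < 89, t ^ 2 ∣ 7920 → t ∣ 12 := by decide
  have hle : t ^ 2 ≤ 7920 := Nat.le_of_dvd (by norm_num) h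
  have : t < 89 := by nlinarith
  exact hall t this h

theorem pgConnected_of_not_simple [Finite G] (hord : Nat.card G = 7920)
    (hns : ¬ IsSimpleGroup G) : PGConnected G := by
  haveI : Nontrivial G := by
    rw [← Finite.one_lt_card_iff_nontrivial, hord]; norm_num
  obtain ⟨K, hKn, hKb, hKt⟩ : ∃ K : Subgroup G, K.Normal ∧ K ≠ ⊥ ∧ K ≠ ⊤ := by
    by_contra h
    push Not at h
    apply hns
    exact ⟨fun H hH => by
      by_contra hc
      push Not at hc
      exact hc.2 (h H hH hc.1)⟩
  obtain ⟨N, hNn, hN1, hNmin⟩ := Cfsg.Agent.Lib.H18.exists_minimal_normal (N := G)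
  have hNtop : N ≠ ⊤ := by
    rintro rfl
    rcases hNmin K hKn le_top with h | h
    · exact hKb h
    · exact hKt h
  haveI := hNn
  haveI : Nontrivial N := (Subgroup.nontrivial_iff_ne_bot N).mpr hN1
  have hminφ : ∀ M : Subgroup N,
      (∀ g : G, M.map (MulAut.conjNormal g : MulAut N).toMonoidHom ≤ M) → M = ⊥ ∨ M = ⊤ := by
    intro M hM
    have hMn : (M.map N.subtype).Normal := by
      constructor
      intro y hy g
      obtain ⟨y', hy', rfl⟩ := hy
      have h1 := hM g (Subgroup.mem_map_of_mem _ hy')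
      refine ⟨_, h1, ?_⟩
      simp [MulAut.conjNormal_apply]
    rcases hNmin _ hMn (Subgroup.map_subtype_le M) with h | h
    · left
      exact (Subgroup.map_eq_bot_iff_of_injective M N.subtype_injective).mp h
    · right
      have := Subgroup.comap_map_eq_self_of_injective N.subtype_injective M
      rw [h] at this
      rw [← this]
      exact Subgroup.subgroupOf_self N
  obtain ⟨T, m, hTs, hm, ⟨e⟩⟩ := Cfsg.Agent.Lib.H18.exists_simple_pow
    (MulAut.conjNormal : G →* MulAut N) hminφ
  have hcard : Nat.card N = Nat.card T ^ m := by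
    rw [Nat.card_congr e.toEquiv, Nat.card_fun, Nat.card_fin]
  have hNd : Nat.card N ∣ 7920 := hord ▸ Subgroup.card_subgroup_dvd_card N
  by_cases hTc : IsMulCommutative T
  · letI : CommGroup T := { (inferInstance : Group T) with mul_comm := hTc.is_comm.comm }
    have hp : (Nat.card T).Prime := IsSimpleGroup.prime_card
    haveI : Fact (Nat.card T).Prime := ⟨hp⟩
    exact pgConnected_of_normal_pgroup hord N hN1 (p := Nat.card T) (IsPGroup.of_card hcard)
  · have hm1 : m = 1 := by
      by_contra hne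
      have hm2 : 2 ≤ m := by omega
      have h2 : Nat.card T ^ 2 ∣ 7920 := (pow_dvd_pow _ hm2).trans (hcard ▸ hNd)
      have h12 : Nat.card T ∣ 12 := dvd_twelve_of_sq_dvd_7920 h2
      have h12' : Nat.card T ∣ 2 ^ 2 * 3 ^ 1 := by simpa using h12
      obtain ⟨i, j, hij⟩ := exists_eq_pow_mul_pow_of_dvd Nat.prime_two Nat.prime_three h12'
      exact ne_paqb hTc 2 3 i j Nat.prime_two Nat.prime_three hij
    subst hm1
    have e' : N ≃* T := e.trans (MulEquiv.funUnique (Fin 1) T)
    haveI : IsSimpleGroup N := e'.isSimpleGroup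
    have hnc : ¬ IsMulCommutative N := by
      intro h
      apply hTc
      exact ⟨⟨fun a b => e'.symm.injective (by
        rw [map_mul, map_mul]; exact h.is_comm.comm _ _)⟩⟩
    exact pgConnected_of_simple_normal hord N hNtop hnc

end Cfsg.Agent.Lib.H5.PG7920
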