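import Mathlib
import Cfsg.Agent.Lib.H5.SimpleTools

set_option autoImplicit false

/-! # Chains of Sylow subgroups, normalizer growth, centres of `p`-subgroups -/

namespace Cfsg.Agent.Lib.H5.SylPrime

open Subgroup

variable {G : Type*} [Group G]

/-- A `p`-subgroup `Q` of `N` lies in a Sylow `p`-subgroup `T` of `N`, which lies in a Sylow
`p`-subgroup `S` of `G` with `S ⊓ N = T`. -/
theorem exists_sylow_chain [Finite G] {p : ℕ} [Fact p.Prime] (N Q : Subgroup G) (hQN : Q ≤ N)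
    (hQ : IsPGroup p Q) {k m : ℕ} (hN : Nat.card N = p ^ k * m) (hpm : ¬ p ∣ m) :
    ∃ (T : Subgroup G) (S : Sylow p G), Q ≤ T ∧ T ≤ N ∧ T ≤ (S : Subgroup G) ∧ IsPGroup p T ∧
      Nat.card T = p ^ k ∧ (S : Subgroup G) ⊓ N = T := by
  have hp : p.Prime := Fact.out
  have hQ' : IsPGroup p (Q.subgroupOf N) := hQ.comap_subtype
  obtain ⟨T₀, hT₀⟩ := hQ'.exists_le_sylow
  have hT₀card := (Cfsg.Agent.Lib.H5.sylow_card_and_index T₀ hN hpm).1
  set T : Subgroup G := (T₀ : Subgroup N).map N.subtype with hT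
  have hTp : IsPGroup p T := T₀.2.map N.subtype
  obtain ⟨S, hS⟩ := hTp.exists_le_sylow
  have hTN : T ≤ N := by
    rw [hT]
    rintro _ ⟨c, -, rfl⟩
    exact c.2
  have hTcard : Nat.card T = p ^ k := by
    rw [hT, Subgroup.card_map_of_injective N.subtype_injective, hT₀card]
  refine ⟨T, S, ?_, hTN, hS, hTp, hTcard, ?_⟩
  · intro q hq
    refine ⟨⟨q, hQN hq⟩, hT₀ ?_, rfl⟩
    rw [mem_subgroupOf]
    exact hq
  · symm
    apply Subgroup.eq_of_le_of_card_ge (le_inf hS hTN)
    have hSN : IsPGroup p ↥((S : Subgroup G) ⊓ N) := S.2.to_le inf_le_left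
    obtain ⟨j, hj⟩ := IsPGroup.iff_card.mp hSN
    have hdvd : p ^ j ∣ p ^ k * m := by
      rw [← hj, ← hN]
      exact Subgroup.card_dvd_of_le inf_le_right
    have hcop : Nat.Coprime (p ^ j) m := Nat.Coprime.pow_left _ ((Nat.Prime.coprime_iff_not_dvd hp).mpr hpm)
    have hdvd' : p ^ j ∣ p ^ k := hcop.dvd_of_dvd_mul_right hdvd
    rw [hj, hTcard]
    exact Nat.le_of_dvd (pow_pos hp.pos _) hdvd'

/-- Normalizers grow in `p`-groups. -/
theorem exists_normalizing_not_mem [Finite G] {p : ℕ} [Fact p.Prime] (S : Subgroup G)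
    (hS : IsPGroup p S) (T : Subgroup G) (hTS : T ≤ S) (hne : T ≠ S) :
    ∃ s ∈ S, s ∉ T ∧ ∀ t ∈ T, s * t * s⁻¹ ∈ T := by
  have : Group.IsNilpotent S := hS.isNilpotent
  have hlt : T.subgroupOf S < ⊤ := by
    rw [lt_top_iff_ne_top]
    intro h
    rw [subgroupOf_eq_top] at h
    exact hne (le_antisymm hTS h)
  have hnc := Group.normalizerCondition_of_isNilpotent (G := S) (T.subgroupOf S) hlt
  obtain ⟨s, hsN, hsT⟩ := SetLike.exists_of_lt hnc
  refine ⟨s, s.2, ?_, ?_⟩
  · intro h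
    apply hsT
    rw [mem_subgroupOf]
    exact h
  · intro t ht
    have h1 : (⟨t, hTS ht⟩ : S) ∈ T.subgroupOf S := by
      rw [mem_subgroupOf]
      exact ht
    have h2 := (mem_normalizer_iff.mp hsN ⟨t, hTS ht⟩).mp h1
    rw [mem_subgroupOf] at h2
    simpa using h2

/-- A nontrivial `p`-subgroup contains a central element of order `p`. -/
theorem exists_central_orderOf_eq [Finite G] {p : ℕ} [Fact p.Prime] (S : Subgroup G)
    (hS : IsPGroup p S) (hne : S ≠ ⊥) :
    ∃ z ∈ S, orderOf z = p ∧ ∀ s ∈ S, z * s = s * z := by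
  have hp : p.Prime := Fact.out
  have : Nontrivial S := (Subgroup.nontrivial_iff_ne_bot S).mpr hne
  have := hS.center_nontrivial
  have hZ : IsPGroup p (center S) := hS.to_subgroup _
  obtain ⟨j, hj⟩ := IsPGroup.iff_card.mp hZ
  have hj0 : j ≠ 0 := by
    intro h
    rw [h, pow_zero] at hj
    have := (Nat.card_eq_one_iff_unique.mp hj).1
    exact not_subsingleton (center S) this
  have hdvd : p ∣ Nat.card (center S) := by
    rw [hj]
    exact dvd_pow_self p hj0
  obtain ⟨z, hz⟩ := exists_prime_orderOf_dvd_card' (G := center S) p hdvd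
  refine ⟨((z : S) : G), (z : S).2, ?_, ?_⟩
  · rw [Subgroup.orderOf_coe, Subgroup.orderOf_coe]
    exact hz
  · intro s hs
    have := (mem_center_iff.mp z.2) ⟨s, hs⟩
    have := congrArg Subtype.val this
    simpa using this.symm

/-- Two subgroups of `T` whose orders have product bigger than `|T|` intersect nontrivially. -/
theorem exists_mem_inf_ne_one [Finite G] (T A B : Subgroup G) (hA : A ≤ T) (hB : B ≤ T)
    (hcard : Nat.card T < Nat.card A * Nat.card B) : ∃ u, u ∈ A ∧ u ∈ B ∧ u ≠ 1 := by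
  by_contra hall
  push Not at hall
  let f : A × B → T := fun ab => ⟨ab.1 * ab.2, T.mul_mem (hA ab.1.2) (hB ab.2.2)⟩
  have hf : Function.Injective f := by
    rintro ⟨a, b⟩ ⟨a', b'⟩ hab
    have h1 : (a : G) * b = a' * b' := congrArg Subtype.val hab
    have h2 : (a' : G)⁻¹ * a = b' * (b : G)⁻¹ := by
      calc (a' : G)⁻¹ * a = (a' : G)⁻¹ * (a * b) * (b : G)⁻¹ := by group
        _ = (a' : G)⁻¹ * (a' * b') * (b : G)⁻¹ := by rw [h1]
        _ = b' * (b : G)⁻¹ := by group
    have h3 : (a' : G)⁻¹ * a = 1 := by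
      apply hall _ (A.mul_mem (A.inv_mem a'.2) a.2)
      rw [h2]
      exact B.mul_mem b'.2 (B.inv_mem b.2)
    have h4 : (b' : G) * (b : G)⁻¹ = 1 := by rw [← h2, h3]
    have e1 : (a : G) = a' := (inv_mul_eq_one.mp h3).symm
    have e2 : (b : G) = b' := (mul_inv_eq_one.mp h4).symm
    exact Prod.ext (Subtype.ext e1) (Subtype.ext e2)
  have := Nat.card_le_card_of_injective f hf
  rw [Nat.card_prod] at this
  omega

end Cfsg.Agent.Lib.H5.SylPrime
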