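import Cfsg.Agent.Lib.H24.BrauerP4

/-!
# Brauer degree data for a self-centralizing subgroup of prime order, general `t ≥ 2` (helper5)

A repackaging of `H24.BrP.exists_data` in purely numerical form.
-/

set_option autoImplicit false
set_option linter.unusedSectionVars false

namespace Cfsg.Agent.Lib.H5.BrGen

open Cfsg Cfsg.Agent.Lib.L0 Cfsg.Agent.Lib.L0.FrobTI Cfsg.Agent.Lib.H8 Cfsg.Agent.Lib.H4.Feit
  Cfsg.Agent.Lib.H5 Cfsg.Agent.Lib.H24.BrP
open scoped ComplexConjugate Classical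

universe u

/-- Degree data for a perfect group with a self-centralizing subgroup `K` of prime order `p`,
`|N(K)| = p e`, `t = (p - 1) / e ≥ 2`. -/
theorem gen_data {G : Type u} [Group G] [Finite G] {p e t : ℕ} [Fact p.Prime] (K : Subgroup G)
    (hK : Nat.card K = p) (hC : Subgroup.centralizer (K : Set G) = K)
    (hN : Nat.card (Subgroup.normalizer (K : Set G)) = p * e) (ht : t * e + 1 = p) (ht2 : 2 ≤ t)
    (hperf : commutator G = ⊤) :
    ∃ (ι : Type u) (_ : Fintype ι) (b : ι → ℤ) (d : ι → ℕ) (E : Finset ι) (i₁ : ι) (εz c : ℤ)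
      (x : ℕ),
      (εz = 1 ∨ εz = -1) ∧ E.card = t ∧ (∀ i ∈ E, b i = c ∧ d i = x) ∧ i₁ ∉ E ∧ b i₁ = 1 ∧
      d i₁ = 1 ∧ (∀ i, d i ∣ Nat.card G) ∧ (∀ i, i ≠ i₁ → d i ≠ 1) ∧
      (∑ i, b i ^ 2 = (e : ℤ) + 2 * εz * c) ∧ (∑ i, b i * (d i : ℤ) = εz * x) ∧
      (∀ i, i ∉ E → ∃ m : ℤ, (d i : ℤ) = b i + m * (p : ℤ)) ∧
      (∃ m : ℤ, (x : ℤ) = c + εz * (e : ℤ) + m * (p : ℤ)) ∧
      (∑ i, d i ^ 2 = Nat.card G) := by
  have hp : p.Prime := Fact.out
  haveI : Fintype G := Fintype.ofFinite G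
  haveI : Fintype (nz K) := Fintype.ofFinite _
  haveI : Fintype (IrrCharacter G) := Fintype.ofFinite _
  have hF := frobTI_of_prime_card hK hC
  have hab := comm_of_prime_card hK
  have hepos : 0 < e := by
    rcases Nat.eq_zero_or_pos e with h0 | h0
    · rw [h0, mul_zero] at ht
      have := hp.two_le
      omega
    · exact h0
  have he : (K.subgroupOf (nz K)).index = e := by
    have h1 := card_nz_eq K
    rw [hK] at h1
    have h2 : Nat.card (nz K) = p * e := hN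
    rw [h2, mul_comm] at h1
    exact (Nat.eq_of_mul_eq_mul_right hp.pos h1).symm
  have htc : Nat.card (RelT K) = t := by
    have h1 := card_K_eq hF hab
    rw [he, hK, ← ht] at h1
    have h2 : Nat.card (RelT K) * e = t * e := by omega
    exact Nat.eq_of_mul_eq_mul_right hepos h2
  obtain ⟨D⟩ := exc_nonempty hF hab
  obtain ⟨εz, c, x, b, d, E, hεz, hEcard, hd, hE, h1, hsq, hdeg, hcong, hx⟩ :=
    exists_data hF hab D (by rw [htc]; exact ht2)
  set ψ₁ : IrrCharacter G := ⟨1, Cfsg.Agent.Lib.L0.isIrrCharacter_one⟩ with hψ₁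
  obtain ⟨h1E, hb1⟩ := h1 ψ₁ rfl
  have hd1 : d ψ₁ = 1 := by
    have := hd ψ₁
    rw [hψ₁] at this
    simp only [Pi.one_apply] at this
    exact_mod_cast this.symm
  have hdvd : ∀ ψ : IrrCharacter G, d ψ ∣ Nat.card G := by
    intro ψ
    obtain ⟨n, -, hn1, hn2⟩ := Cfsg.Agent.Lib.H23.irr_apply_one_dvd_card (ψ : G → ℂ) ψ.2
    rw [hd] at hn1
    have : d ψ = n := by exact_mod_cast hn1
    rw [this]
    exact hn2
  have hsumN : ∑ ψ : IrrCharacter G, d ψ ^ 2 = Nat.card G := by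
    have hsum := Cfsg.Agent.Lib.H24.sum_irr_one_sq (G := G)
    have : ((∑ ψ : IrrCharacter G, d ψ ^ 2 : ℕ) : ℂ) = (Nat.card G : ℂ) := by
      rw [← hsum]
      push_cast
      refine Finset.sum_congr rfl fun ψ _ => ?_
      rw [hd]
    exact_mod_cast this
  refine ⟨IrrCharacter G, inferInstance, b, d, E, ψ₁, εz, c, x, hεz, by rw [hEcard, htc], hE, h1E,
    hb1, hd1, hdvd, ?_, ?_, hdeg, ?_, ?_, hsumN⟩
  · intro ψ hne hd1'
    apply hne
    apply Subtype.ext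
    apply linear_eq_one_of_perfect hperf _ ψ.2
    rw [hd, hd1']
    simp
  · rw [hsq, he]
  · intro ψ hψ
    obtain ⟨m', hm'⟩ := hcong ψ hψ
    exact ⟨m', by rw [hm', hK]⟩
  · obtain ⟨m', hm'⟩ := hx
    exact ⟨m', by rw [hm', he, hK]⟩

/-- The same data with the sums split: `R` is the set of non-exceptional non-principal
characters. -/
theorem gen_data_split {G : Type u} [Group G] [Finite G] {p e t : ℕ} [Fact p.Prime]
    (K : Subgroup G) (hK : Nat.card K = p) (hC : Subgroup.centralizer (K : Set G) = K)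
    (hN : Nat.card (Subgroup.normalizer (K : Set G)) = p * e) (ht : t * e + 1 = p) (ht2 : 2 ≤ t)
    (hperf : commutator G = ⊤) :
    ∃ (ι : Type u) (R : Finset ι) (b : ι → ℤ) (d : ι → ℕ) (εz c : ℤ) (x : ℕ),
      (εz = 1 ∨ εz = -1) ∧ x ∣ Nat.card G ∧ x ≠ 1 ∧
      (∀ i ∈ R, d i ∣ Nat.card G ∧ d i ≠ 1 ∧ ∃ m : ℤ, (d i : ℤ) = b i + m * (p : ℤ)) ∧
      (∑ i ∈ R, b i ^ 2 = (e : ℤ) + 2 * εz * c - (t : ℤ) * c ^ 2 - 1) ∧
      (1 + ∑ i ∈ R, b i * (d i : ℤ) + (t : ℤ) * c * (x : ℤ) = εz * x) ∧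
      (∃ m : ℤ, (x : ℤ) = c + εz * (e : ℤ) + m * (p : ℤ)) ∧
      (t * x ^ 2 + 1 + ∑ i ∈ R, d i ^ 2 = Nat.card G) := by
  obtain ⟨ι, hι, b, d, E, i₁, εz, c, x, hεz, hEcard, hE, h1E, hb1, hd1, hdvd, hne1, hsq, hdeg,
    hcong, hx, hsumN⟩ := gen_data K hK hC hN ht ht2 hperf
  have h1c : i₁ ∈ Eᶜ := Finset.mem_compl.2 h1E
  have hE_ne : E.Nonempty := by
    rw [← Finset.card_pos, hEcard]
    omega
  obtain ⟨ix, hix⟩ := hE_ne
  have hixne : ix ≠ i₁ := fun h => h1E (h ▸ hix)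
  refine ⟨ι, Eᶜ.erase i₁, b, d, εz, c, x, hεz, (hE ix hix).2 ▸ hdvd ix,
    (hE ix hix).2 ▸ hne1 ix hixne, ?_, ?_, ?_, hx, ?_⟩
  · intro i hi
    rw [Finset.mem_erase, Finset.mem_compl] at hi
    exact ⟨hdvd i, hne1 i hi.1, hcong i hi.2⟩
  · have hsqE : ∑ i ∈ E, b i ^ 2 = (t : ℤ) * c ^ 2 := by
      rw [Finset.sum_congr rfl fun i hi => by rw [(hE i hi).1], Finset.sum_const, hEcard]
      simp
    have hsplit := Finset.sum_add_sum_compl E (fun i => b i ^ 2)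
    have hsplit2 := Finset.add_sum_erase Eᶜ (fun i => b i ^ 2) h1c
    rw [hb1] at hsplit2
    rw [← hsplit, hsqE, ← hsplit2] at hsq
    linarith
  · have hdE : ∑ i ∈ E, b i * (d i : ℤ) = (t : ℤ) * c * x := by
      rw [Finset.sum_congr rfl fun i hi => by rw [(hE i hi).1, (hE i hi).2], Finset.sum_const,
        hEcard]
      simp
      ring
    have hsplit := Finset.sum_add_sum_compl E (fun i => b i * (d i : ℤ))
    have hsplit2 := Finset.add_sum_erase Eᶜ (fun i => b i * (d i : ℤ)) h1c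
    rw [hb1, hd1] at hsplit2
    rw [← hsplit, hdE, ← hsplit2] at hdeg
    push_cast at hdeg
    linarith
  · have hs1 := Finset.sum_add_sum_compl E (fun i => d i ^ 2)
    have hs2 := Finset.add_sum_erase Eᶜ (fun i => d i ^ 2) h1c
    rw [hd1] at hs2
    have hs3 : ∑ i ∈ E, d i ^ 2 = t * x ^ 2 := by
      rw [Finset.sum_congr rfl fun i hi => by rw [(hE i hi).2], Finset.sum_const, hEcard]
      simp
    rw [← hsumN, ← hs1, hs3, ← hs2]
    ring

end Cfsg.Agent.Lib.H5.BrGen
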