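import Mathlib
import Cfsg.Agent.Lib.H5.Ord.GenTests3

set_option autoImplicit false

/-! # Simple groups of order 4032 do not exist: the Sylow 7 data (helper5) -/

namespace Cfsg.Agent.Lib.H5.O4032

open Subgroup MulAction Cfsg.Agent.Lib.H5 Cfsg.Agent.Lib.H5.SylPrime Cfsg.Agent.Lib.H5.GenTests

variable {G : Type*} [Group G] [Finite G] [IsSimpleGroup G]

theorem not_comm (hG : Nat.card G = 4032) : ¬ IsMulCommutative G :=
  not_isMulCommutative_of_card_not_prime (by rw [hG]; norm_num)

/-- The three surviving configurations for a Sylow 7-subgroup `P`: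
`(n_7, |N(P)|, |C(P)|) ∈ {(36,112,56), (64,63,21), (288,14,7)}`. -/
theorem cases (hG : Nat.card G = 4032) [Fact (Nat.Prime 7)] (P : Sylow 7 G) :
    Nat.card (P : Subgroup G) = 7 ∧ normalizer ((P : Subgroup G) : Set G) ≠ ⊤ ∧
    ((Nat.card (Sylow 7 G) = 36 ∧ Nat.card (normalizer ((P : Subgroup G) : Set G)) = 112 ∧
        Nat.card (centralizer ((P : Subgroup G) : Set G)) = 56) ∨
      (Nat.card (Sylow 7 G) = 64 ∧ Nat.card (normalizer ((P : Subgroup G) : Set G)) = 63 ∧
        Nat.card (centralizer ((P : Subgroup G) : Set G)) = 21) ∨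
      (Nat.card (Sylow 7 G) = 288 ∧ Nat.card (normalizer ((P : Subgroup G) : Set G)) = 14 ∧
        Nat.card (centralizer ((P : Subgroup G) : Set G)) = 7)) := by
  have hnc := not_comm hG
  obtain ⟨h1, h2, h3, -, h5, h6, h7, h8, hP, hNd, hNtop, -, hcr, hfix⟩ :=
    prime_data_explicit hnc hG (p := 7) (m := 576) (by norm_num) (by norm_num) (by norm_num) P
  refine ⟨hP, hNtop, ?_⟩
  have hmem : Nat.card (Sylow 7 G) ∈ (Nat.divisors 576).filter (fun d => d % 7 = 1) := by
    rw [Finset.mem_filter, Nat.mem_divisors]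
    exact ⟨⟨h1, by norm_num⟩, h2⟩
  have hfil : (Nat.divisors 576).filter (fun d => d % 7 = 1) = {1, 8, 36, 64, 288} := by decide
  rw [hfil] at hmem
  simp only [Finset.mem_insert, Finset.mem_singleton] at hmem
  set r := (centralizer ((P : Subgroup G) : Set G)).relIndex (normalizer ((P : Subgroup G) : Set G))
  set c₀ := Nat.card (centralizer ((P : Subgroup G) : Set G))
  have hr6 : r ≤ 6 := Nat.le_of_dvd (by norm_num) h5
  have hr0 : 0 < r := Nat.pos_of_ne_zero (fun h => by rw [h] at h7; omega)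
  rcases hmem with h | h | h | h | h
  · exact absurd h h3
  · -- n_7 = 8: an involution of C(P) would fix f points, f ≡ 1 (7), 4 ∣ 8 - f, f < 8
    exfalso
    rw [h] at h7 hfix
    have h2c : 2 ∣ c₀ := by
      interval_cases r <;> omega
    obtain ⟨f, hf1, hf2, hf3, hf4⟩ := hfix 2 Nat.prime_two h2c
    have := hf4 rfl
    omega
  · left
    rw [h] at h7 hNd
    refine ⟨h, by omega, ?_⟩
    interval_cases r <;> omega
  · right; left
    rw [h] at h7 hNd
    refine ⟨h, by omega, ?_⟩
    interval_cases r <;> omega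
  · right; right
    rw [h] at h7 hNd
    refine ⟨h, by omega, ?_⟩
    interval_cases r <;> omega

end Cfsg.Agent.Lib.H5.O4032
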