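import Cfsg.Agent.Lib.H24.BrauerP1

/-!
# Exceptional characters: the integer data of `H24.BrP.exists_data`, with the links to `Ψ`, `f`, `ε`
exposed (helper5; the proof is the one of helper24's `exists_data`)
-/

set_option autoImplicit false
set_option linter.unusedSectionVars false

namespace Cfsg.Agent.Lib.H5.BrVal

open Cfsg Cfsg.Agent.Lib.L0 Cfsg.Agent.Lib.L0.FrobTI Cfsg.Agent.Lib.H8 Cfsg.Agent.Lib.H4.Feit
  Cfsg.Agent.Lib.H24.BrP
open scoped ComplexConjugate Classical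

variable {G : Type*} [Group G] [Fintype G] {K : Subgroup G} [Fintype (nz K)]

/-- the integer data attached to the exceptional characters -/
theorem exists_data_val (h : FrobTI K) (hab : ∀ a ∈ K, ∀ b ∈ K, a * b = b * a) (D : Exc K)
    (ζ₀ : RelT K) (ht : 2 ≤ Nat.card (RelT K)) [Fintype (IrrCharacter G)] :
    ∃ (εz c : ℤ) (x : ℕ) (b : IrrCharacter G → ℤ) (d : IrrCharacter G → ℕ)
      (E : Finset (IrrCharacter G)),
      (εz = 1 ∨ εz = -1) ∧ E.card = Nat.card (RelT K) ∧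
      (∀ ψ : IrrCharacter G, (ψ : G → ℂ) 1 = d ψ) ∧
      (∀ ψ ∈ E, b ψ = c ∧ d ψ = x) ∧
      (∀ ψ : IrrCharacter G, (ψ : G → ℂ) = 1 → ψ ∉ E ∧ b ψ = 1) ∧
      (∑ ψ, b ψ ^ 2 = ((K.subgroupOf (nz K)).index : ℤ) + 2 * εz * c) ∧
      (∑ ψ, b ψ * (d ψ : ℤ) = εz * x) ∧
      (∀ ψ : IrrCharacter G, ψ ∉ E → ∃ m : ℤ, (d ψ : ℤ) = b ψ + m * (Nat.card K : ℤ)) ∧
      (∃ m : ℤ, (x : ℤ) = c + εz * ((K.subgroupOf (nz K)).index : ℤ) +
        m * (Nat.card K : ℤ)) ∧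
      ((εz : ℂ) = D.ε) ∧
      (∀ ψ : IrrCharacter G, classInner (D.Psi ζ₀) (ψ : G → ℂ) = (b ψ : ℂ)) ∧
      (∀ ψ : IrrCharacter G, ψ ∈ E ↔ ∃ ζ : RelT K, D.f ζ = ψ) := by
  have : Fintype (RelT K) := Fintype.ofFinite _
  have hgen := D.Psi_genChar ζ₀
  choose b hb using fun ψ : IrrCharacter G => genChar_classInner_irr_int hgen ψ.2
  choose d hdpos hd using fun ψ : IrrCharacter G => Cfsg.Agent.Lib.H24.irr_one_eq ψ
  obtain ⟨εz, hεz, hεzc⟩ := D.exists_epsZ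
  set E : Finset (IrrCharacter G) := Finset.univ.image D.f with hE
  have hEcard : E.card = Fintype.card (RelT K) := by
    rw [hE, Finset.card_image_of_injective _ D.hinj, Finset.card_univ]
  have hmemE : ∀ ψ, ψ ∈ E ↔ ∃ ζ, D.f ζ = ψ := by
    intro ψ
    rw [hE, Finset.mem_image]
    constructor
    · rintro ⟨ζ, -, hζ⟩
      exact ⟨ζ, hζ⟩
    · rintro ⟨ζ, hζ⟩
      exact ⟨ζ, Finset.mem_univ _, hζ⟩
  have hK := card_K_eq h hab
  rw [Nat.card_eq_fintype_card (α := RelT K)] at hK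
  have hc : classInner (D.Psi ζ₀) (D.f ζ₀ : G → ℂ) = (b (D.f ζ₀) : ℤ) := hb (D.f ζ₀)
  -- the congruences
  have hcong : ∀ ψ : IrrCharacter G, ∃ m : ℤ, (d ψ : ℤ) = b ψ + m * (Nat.card K : ℤ) +
      εz * ((K.subgroupOf (nz K)).index : ℤ) *
        ((Finset.univ.filter (fun ζ : RelT K => D.f ζ = ψ)).card : ℤ) := by
    intro ψ
    have hFchar : IsCharacter (nz K) (fun x : nz K => (ψ : G → ℂ) x) :=
      isCharacter_restrict _ (isCharacter_of_irr ψ.2)
    obtain ⟨p, hp⟩ := classInner_char_char_nat (piFun_isCharacter K) hFchar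
    have hdf := degree_formula h hab D ζ₀ ψ p hp
    rw [hd, hb, ← hεzc] at hdf
    refine ⟨(p : ℤ) - b ψ, ?_⟩
    have h2 : ((d ψ : ℤ) : ℂ) = (((b ψ + ((p : ℤ) - b ψ) * (Nat.card K : ℤ) +
      εz * ((K.subgroupOf (nz K)).index : ℤ) *
        ((Finset.univ.filter (fun ζ : RelT K => D.f ζ = ψ)).card : ℤ) : ℤ)) : ℂ) := by
      push_cast
      rw [hdf, ← hK]
      push_cast
      ring
    exact_mod_cast h2
  refine ⟨εz, b (D.f ζ₀), d (D.f ζ₀), b, d, E, hεz, ?_, hd, ?_, ?_, ?_, ?_, ?_, ?_, hεzc,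
    fun ψ => by rw [hb ψ], hmemE⟩
  · rw [hEcard, Nat.card_eq_fintype_card]
  · intro ψ hψ
    obtain ⟨ζ, rfl⟩ := (hmemE ψ).1 hψ
    constructor
    · have := hb (D.f ζ)
      rw [D.Psi_f h hab ζ₀ ζ, hc] at this
      exact_mod_cast this.symm
    · have := D.f_one h hab ζ ζ₀
      rw [hd, hd] at this
      exact_mod_cast this
  · intro ψ hψ
    constructor
    · intro hmem
      obtain ⟨ζ, rfl⟩ := (hmemE ψ).1 hmem
      exact D.f_ne_one ht ζ hψ
    · have := D.Psi_one ht ζ₀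
      rw [← hψ, hb] at this
      exact_mod_cast this
  · have hnorm := D.Psi_norm h hab ζ₀ (b (D.f ζ₀)) hc
    rw [classInner_self_eq_sum _ (isClassFunction_of_isGeneralizedCharacter hgen)] at hnorm
    have : ((∑ ψ : IrrCharacter G, b ψ ^ 2 : ℤ) : ℂ) =
        ((((K.subgroupOf (nz K)).index : ℤ) + 2 * εz * b (D.f ζ₀) : ℤ) : ℂ) := by
      push_cast
      rw [hεzc, ← hnorm]
      refine Finset.sum_congr rfl fun ψ _ => ?_
      rw [hb, map_intCast]
      ring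
    exact_mod_cast this
  · have hexp := Cfsg.Agent.Lib.H24.classFunction_expansion (D.Psi ζ₀)
      (isClassFunction_of_isGeneralizedCharacter hgen)
    have h1 := congrFun hexp 1
    rw [Psi_apply_one h hab D ζ₀, Finset.sum_apply] at h1
    have : ((∑ ψ : IrrCharacter G, b ψ * (d ψ : ℤ) : ℤ) : ℂ) =
        ((εz * (d (D.f ζ₀) : ℤ) : ℤ) : ℂ) := by
      push_cast
      rw [hεzc, ← hd, h1]
      refine Finset.sum_congr rfl fun ψ _ => ?_
      rw [Pi.smul_apply, smul_eq_mul, hb, hd]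
    exact_mod_cast this
  · intro ψ hψ
    obtain ⟨m, hm⟩ := hcong ψ
    refine ⟨m, ?_⟩
    have hempty : Finset.univ.filter (fun ζ : RelT K => D.f ζ = ψ) = ∅ := by
      rw [Finset.filter_eq_empty_iff]
      intro ζ _ hζ
      exact hψ ((hmemE ψ).2 ⟨ζ, hζ⟩)
    rw [hempty] at hm
    simpa using hm
  · obtain ⟨m, hm⟩ := hcong (D.f ζ₀)
    refine ⟨m, ?_⟩
    have hsing : Finset.univ.filter (fun ζ : RelT K => D.f ζ = D.f ζ₀) = {ζ₀} := by
      ext ζ
      simp only [Finset.mem_filter, Finset.mem_univ, true_and, Finset.mem_singleton]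
      exact ⟨fun h => D.hinj h, fun h => by rw [h]⟩
    rw [hsing] at hm
    rw [hm]
    simp
    ring

end Cfsg.Agent.Lib.H5.BrVal
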