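import Cfsg.Agent.Lib.H5.Ord.BrVal1

/-!
# Exceptional characters: values of `Φ_ζ` off the conjugates of `K`, inner products of `Φ_ζ`
(helper5)
-/

set_option autoImplicit false
set_option linter.unusedSectionVars false

namespace Cfsg.Agent.Lib.H5.BrVal

open Cfsg Cfsg.Agent.Lib.L0 Cfsg.Agent.Lib.L0.FrobTI Cfsg.Agent.Lib.H8 Cfsg.Agent.Lib.H4.Feit
  Cfsg.Agent.Lib.H24.BrP
open scoped ComplexConjugate Classical

variable {G : Type*} [Group G] [Fintype G] {K : Subgroup G} [Fintype (nz K)]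

/-- **T7** `Φ_ζ` vanishes at elements with no conjugate in `K`. -/
theorem Phi_apply_eq_zero (h : FrobTI K) (D : Exc K) (ζ : RelT K) (s : G)
    (hs : ∀ g : G, g⁻¹ * s * g ∉ K) : D.Phi ζ s = 0 := by
  unfold Exc.Phi
  rw [Cfsg.Agent.Lib.L0.indFun_apply]
  have hz : ∀ x : G, Cfsg.extendByZero (nz K) (alphaFun ζ) (x⁻¹ * s * x) = 0 := by
    intro x
    by_cases hx : x⁻¹ * s * x ∈ nz K
    · rw [Cfsg.Agent.Lib.L0.extendByZero_apply_of_mem _ _ hx]
      exact alphaFun_vanish h ζ ⟨_, hx⟩ (hs x)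
    · exact Cfsg.Agent.Lib.L0.extendByZero_apply_not_mem _ _ hx
  rw [Finset.sum_congr rfl fun x _ => hz x, Finset.sum_const_zero, mul_zero]

/-- **T8** inner products of `Φ_ζ` with the irreducible characters. -/
theorem Phi_inner_irr (D : Exc K) (ζ₀ ζ : RelT K) (ψ : IrrCharacter G) :
    classInner (D.Phi ζ) (ψ : G → ℂ) =
      classInner (D.Psi ζ₀) (ψ : G → ℂ) - D.ε * (if D.f ζ = ψ then 1 else 0) := by
  rw [D.Psi_eq ζ₀ ζ]
  unfold Exc.Psi
  rw [classInner_add_left, classInner_smul_left]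
  have : classInner (D.f ζ : G → ℂ) (ψ : G → ℂ) = if D.f ζ = ψ then 1 else 0 := by
    split_ifs with hψ
    · rw [← hψ]
      exact irr_classInner_self (D.f ζ).2
    · exact irr_classInner_ne (D.f ζ).2 ψ.2 (fun h => hψ (Subtype.ext h))
  rw [this]
  ring

end Cfsg.Agent.Lib.H5.BrVal
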