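import Mathlib
import Cfsg.Agent.Lib.H5.Ord.NCInv

set_option autoImplicit false

/-! # Numerical data attached to an involution of an abelian `C(P)`, `P` a Sylow subgroup of prime
order of a simple group -/

namespace Cfsg.Agent.Lib.H5.SylPrime

open Subgroup MulAction

variable {G : Type*} [Group G] [Finite G] [IsSimpleGroup G]

/-- Numerical data attached to an involution `y` of the abelian group `C(P)`, `|P| = p`:
`f` is the number of fixed points of `y` on the cosets of `N(P)`, `r` the number of Sylow
`p`-subgroups of `C_G(y)`. -/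
theorem inv_data {p : ℕ} [Fact p.Prime] (hG2 : 2 < Nat.card G) (P : Sylow p G)
    (hP : Nat.card (P : Subgroup G) = p)
    (hNtop : normalizer ((P : Subgroup G) : Set G) ≠ ⊤)
    (hcomm : ∀ a ∈ centralizer ((P : Subgroup G) : Set G),
      ∀ b ∈ centralizer ((P : Subgroup G) : Set G), a * b = b * a)
    {y : G} (hyC : y ∈ centralizer ((P : Subgroup G) : Set G)) (hy : orderOf y = 2) :
    ∃ f r : ℕ, f % p = 1 ∧ 4 ∣ (normalizer ((P : Subgroup G) : Set G)).index - f ∧
      f < (normalizer ((P : Subgroup G) : Set G)).index ∧ r % p = 1 ∧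
      Nat.card ↥(normalizer ((P : Subgroup G) : Set G) ⊓ centralizer ({y} : Set G)) * r =
        Nat.card (centralizer ({y} : Set G)) ∧
      Nat.card (centralizer ({y} : Set G)) *
        ((A1 y (centralizer ((P : Subgroup G) : Set G))).ncard +
          (A2 y (normalizer ((P : Subgroup G) : Set G))
            (centralizer ((P : Subgroup G) : Set G))).ncard) =
        f * Nat.card (normalizer ((P : Subgroup G) : Set G)) ∧
      Nat.card (centralizer ((P : Subgroup G) : Set G)) ∣
        Nat.card ↥(normalizer ((P : Subgroup G) : Set G) ⊓ centralizer ({y} : Set G)) ∧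
      Nat.card ↥(normalizer ((P : Subgroup G) : Set G) ⊓ centralizer ({y} : Set G)) ∣
        Nat.card (normalizer ((P : Subgroup G) : Set G)) := by
  have hp : p.Prime := Fact.out
  set N := normalizer ((P : Subgroup G) : Set G) with hN
  set C := centralizer ((P : Subgroup G) : Set G) with hC
  set H := centralizer ({y} : Set G) with hH
  have hCN : C ≤ N := centralizer_le_normalizer _
  have h1 := card_fixedBy_modEq_one p P hP hyC
  have h2 := four_dvd_index_sub_card_fixedBy hG2 N hy
  have h3 := card_fixedBy_le_index N y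
  have h4 : Nat.card (fixedBy (G ⧸ N) y) ≠ N.index := by
    intro h
    have := eq_one_of_card_fixedBy_eq N hNtop h
    rw [this, orderOf_one] at hy
    omega
  rw [← hN] at h1
  have hmul := card_fixedBy_mul_card N (hCN hyC)
  rw [card_conj_mem_eq y hCN] at hmul
  have hCH : C ≤ H := le_centralizer_singleton_of_comm hcomm hyC
  have hPC : (P : Subgroup G) ≤ C := le_centralizer_of_card_prime _ hP
  have h5 := relIndex_normalizer_modEq_one' P (hPC.trans hCH)
  rw [← hN] at h5
  have hinf := card_mul_relIndex_of_le (inf_le_right : N ⊓ H ≤ H)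
  rw [inf_relIndex_right] at hinf
  refine ⟨Nat.card (fixedBy (G ⧸ N) y), N.relIndex H, ?_, h2, lt_of_le_of_ne h3 h4, ?_, hinf,
    hmul.symm, ?_, ?_⟩
  · unfold Nat.ModEq at h1
    rw [h1, Nat.mod_eq_of_lt hp.one_lt]
  · unfold Nat.ModEq at h5
    rw [h5, Nat.mod_eq_of_lt hp.one_lt]
  · exact Subgroup.card_dvd_of_le (le_inf hCN hCH)
  · exact Subgroup.card_dvd_of_le inf_le_left

end Cfsg.Agent.Lib.H5.SylPrime
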