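import Mathlib
import Cfsg.Agent.Lib.H5.Ord.GenTests3
import Cfsg.Agent.Lib.H5.Ord.InvSelf
import Cfsg.Agent.Lib.H5.Ord.InvData

set_option autoImplicit false

/-! # Simple groups of order 4080, part 1: the Sylow 17-subgroups -/

namespace Cfsg.Agent.Lib.H5.Ord4080

open Subgroup MulAction Cfsg.Agent.Lib.H5 Cfsg.Agent.Lib.H5.SylPrime Cfsg.Agent.Lib.H5.GenTests

variable {G : Type*} [Group G] [Finite G] [IsSimpleGroup G]

theorem not_comm (hn : Nat.card G = 4080) : ¬ IsMulCommutative G :=
  not_isMulCommutative_of_card_not_prime (by rw [hn]; norm_num)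

theorem two_lt (hn : Nat.card G = 4080) : 2 < Nat.card G := by rw [hn]; norm_num

/-- A proper subgroup has index at least `17`. -/
theorem seventeen_le_index (hn : Nat.card G = 4080) {H : Subgroup G} (hH : H ≠ ⊤) :
    17 ≤ H.index := by
  by_contra hlt
  have h16 : H.index ≤ 16 := by omega
  have h1 := two_mul_card_dvd_factorial_index (not_comm hn) H hH
  have h2 : (H.index).factorial ∣ (16 : ℕ).factorial := Nat.factorial_dvd_factorial h16
  have := h1.trans h2
  rw [hn] at this
  have h17 : 17 ∣ (16 : ℕ).factorial := dvd_trans (by norm_num) this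
  have := (Nat.Prime.dvd_factorial (by norm_num : Nat.Prime 17)).mp h17
  omega

/-- The Sylow 17-subgroups: `|N(P)| = 34`, `C(P) = P`, `n_17 = 120`. -/
theorem sylow17_data (hn : Nat.card G = 4080) [Fact (Nat.Prime 17)] (P : Sylow 17 G) :
    Nat.card (P : Subgroup G) = 17 ∧ Nat.card (normalizer ((P : Subgroup G) : Set G)) = 34 ∧
      Nat.card (centralizer ((P : Subgroup G) : Set G)) = 17 ∧ Nat.card (Sylow 17 G) = 120 := by
  have hnc := not_comm hn
  obtain ⟨h1, h2, h3, h4, h5, h6, h7, h8, hP, hNd, hNtop, -, hcr, -⟩ :=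
    prime_data_explicit hnc hn (p := 17) (m := 240) (by norm_num) (by norm_num) (by norm_num) P
  have hmem : Nat.card (Sylow 17 G) ∈ (Nat.divisors 240).filter (fun d => d % 17 = 1) := by
    rw [Finset.mem_filter, Nat.mem_divisors]
    exact ⟨⟨h1, by norm_num⟩, h2⟩
  have hfil : (Nat.divisors 240).filter (fun d => d % 17 = 1) = {1, 120} := by decide
  rw [hfil] at hmem
  simp only [Finset.mem_insert, Finset.mem_singleton] at hmem
  set N := normalizer ((P : Subgroup G) : Set G) with hN
  set C := centralizer ((P : Subgroup G) : Set G) with hC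
  set r := C.relIndex N with hr
  set c := Nat.card C with hc
  have hr16 : r ≤ 16 := Nat.le_of_dvd (by norm_num) h5
  rcases hmem with hd | hd
  · exact absurd hd h3
  · rw [hd] at h7 hNd
    have hNc : Nat.card N = 34 := by omega
    have hcr34 : c * r = 34 := by omega
    have hr2 : r = 2 := by
      have hrd : r ∣ 34 := Dvd.intro_left _ hcr34
      have h17c : 17 ∣ c := h8
      obtain ⟨c', hc'⟩ := h17c
      rw [hc'] at hcr34
      have : c' * r = 2 := by nlinarith
      have hr2' : r ∣ 2 := Dvd.intro_left _ this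
      have hrle : r ≤ 2 := Nat.le_of_dvd (by norm_num) hr2'
      interval_cases r
      · omega
      · exact absurd rfl h6
      · rfl
    rw [hr2] at hcr34
    exact ⟨hP, hNc, by omega, hd⟩

/-- Elements of order `17` are self-centralizing. -/
theorem card_centralizer_seventeen (hn : Nat.card G = 4080) {z : G} (hz : orderOf z = 17) :
    Nat.card (centralizer ({z} : Set G)) = 17 := by
  have : Fact (Nat.Prime 17) := ⟨by norm_num⟩
  have hzc : Nat.card (zpowers z) = 17 := by rw [Nat.card_zpowers, hz]
  have hp : IsPGroup 17 (zpowers z) := IsPGroup.of_card (n := 1) (by rw [hzc]; norm_num)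
  obtain ⟨P, hzP⟩ := hp.exists_le_sylow
  obtain ⟨hP, -, hCc, -⟩ := sylow17_data hn P
  have hPz : (P : Subgroup G) = zpowers z :=
    (Subgroup.eq_of_le_of_card_ge hzP (by rw [hP, hzc])).symm
  have : centralizer ({z} : Set G) = centralizer ((P : Subgroup G) : Set G) := by
    rw [hPz, zpowers_eq_closure, centralizer_closure]
  rw [this, hCc]

/-- No element of order `17` commutes with a non-identity element of order prime to `17`. -/
theorem not_commute_seventeen (hn : Nat.card G = 4080) {z g : G} (hz : orderOf z = 17)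
    (hg : ¬ orderOf g ∣ 17) : z * g ≠ g * z := by
  intro hc
  have hmem : g ∈ centralizer ({z} : Set G) := by
    rw [mem_centralizer_singleton_iff]
    exact hc.symm
  have := orderOf_dvd_natCard (⟨g, hmem⟩ : centralizer ({z} : Set G))
  rw [card_centralizer_seventeen hn hz, Subgroup.orderOf_mk] at this
  exact hg this

/-- An involution whose centralizer has order `8` or `16`. -/
theorem exists_s (hn : Nat.card G = 4080) :
    ∃ s : G, orderOf s = 2 ∧ (Nat.card (centralizer ({s} : Set G)) = 8 ∨
      Nat.card (centralizer ({s} : Set G)) = 16) := by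
  have : Fact (Nat.Prime 17) := ⟨by norm_num⟩
  let P : Sylow 17 G := default
  obtain ⟨hP, hNc, hCc, hS⟩ := sylow17_data hn P
  obtain ⟨t, f, h, hto, -, -, hh, hf1, hf17, hf4, hmul, hdvd, -⟩ :=
    exists_inv_data_selfcent (two_lt hn) 17 (by norm_num) P hP hCc (by rw [hNc]; norm_num)
  rw [hS] at hf17 hf4
  rw [hNc] at hmul
  refine ⟨t, hto, ?_⟩
  rw [← hh]
  have hf48 : f = 4 ∨ f = 8 := by omega
  rcases hf48 with h4 | h8
  · left; rw [h4] at hmul; omega
  · right; rw [h8] at hmul; omega

end Cfsg.Agent.Lib.H5.Ord4080
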