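import Mathlib
import Cfsg.Agent.Lib.H5.Ord.Ord4080a
import Cfsg.Agent.Lib.H16.ThompsonTransfer

set_option autoImplicit false

/-! # Simple groups of order 4080, part 2: the Sylow 5-subgroups -/

namespace Cfsg.Agent.Lib.H5.Ord4080

open Subgroup MulAction Cfsg.Agent.Lib.H5 Cfsg.Agent.Lib.H5.SylPrime Cfsg.Agent.Lib.H5.GenTests

section general

variable {G : Type*} [Group G]

/-- Conjugate elements have centralizers of the same order. -/
theorem card_centralizer_conj [Finite G] (c t : G) :
    Nat.card (centralizer ({c * t * c⁻¹} : Set G)) = Nat.card (centralizer ({t} : Set G)) := by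
  have hinj : (centralizer ({c * t * c⁻¹} : Set G)) =
      (centralizer ({t} : Set G)).map (MulAut.conj c).toMonoidHom := by
    ext y
    rw [Subgroup.mem_map, mem_centralizer_singleton_iff]
    constructor
    · intro hy
      refine ⟨c⁻¹ * y * c, ?_, ?_⟩
      · rw [mem_centralizer_singleton_iff]
        calc c⁻¹ * y * c * t = c⁻¹ * (y * (c * t * c⁻¹)) * c := by group
          _ = c⁻¹ * ((c * t * c⁻¹) * y) * c := by rw [hy]
          _ = t * (c⁻¹ * y * c) := by group
      · simp only [MulEquiv.coe_toMonoidHom, MulAut.conj_apply]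
        group
    · rintro ⟨y', hy', rfl⟩
      rw [mem_centralizer_singleton_iff] at hy'
      simp only [MulEquiv.coe_toMonoidHom, MulAut.conj_apply]
      calc c * y' * c⁻¹ * (c * t * c⁻¹) = c * (y' * t) * c⁻¹ := by group
        _ = c * (t * y') * c⁻¹ := by rw [hy']
        _ = c * t * c⁻¹ * (c * y' * c⁻¹) := by group
  rw [hinj]
  exact Subgroup.card_map_of_injective (MulAut.conj c).injective

theorem card_centralizer_of_isConj [Finite G] {t x : G} (h : IsConj t x) :
    Nat.card (centralizer ({x} : Set G)) = Nat.card (centralizer ({t} : Set G)) := by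
  obtain ⟨c, hc⟩ := isConj_iff.mp h
  rw [← hc]
  exact card_centralizer_conj c t

/-- Involutions of `N(P) \ C(P)` lie in a single coset of `C(P)`, `|P|` prime. -/
theorem ncard_inv_le_card [Finite G] {p : ℕ} [Fact p.Prime] (P : Subgroup G)
    (hP : Nat.card P = p) (T : Set G)
    (hT : ∀ z ∈ T, z ∈ normalizer (P : Set G) ∧ z ∉ centralizer (P : Set G) ∧ z * z = 1) :
    T.ncard ≤ Nat.card (centralizer (P : Set G)) := by
  rcases Set.eq_empty_or_nonempty T with h | ⟨g, hg⟩
  · rw [h, Set.ncard_empty]; exact Nat.zero_le _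
  · rw [← Nat.card_coe_set_eq]
    let f : T → centralizer (P : Set G) :=
      fun z => ⟨g⁻¹ * z, inv_mul_mem_centralizer P hP (hT g hg).1 (hT z z.2).1 (hT g hg).2.2
        (hT z z.2).2.2 (hT g hg).2.1 (hT z z.2).2.1⟩
    apply Nat.card_le_card_of_injective f
    intro a b hab
    have := congrArg Subtype.val hab
    simp only [f] at this
    exact Subtype.ext (mul_left_cancel this)

/-- If `x` centralizes `P` then `|P|` divides `|C(x)|`. -/
theorem card_dvd_card_centralizer_of_mem [Finite G] (P : Subgroup G) {x : G}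
    (hx : x ∈ centralizer (P : Set G)) : Nat.card P ∣ Nat.card (centralizer ({x} : Set G)) := by
  apply Subgroup.card_dvd_of_le
  intro z hz
  rw [mem_centralizer_singleton_iff]
  rw [mem_centralizer_iff] at hx
  exact hx z hz

end general

variable {G : Type*} [Group G] [Finite G] [IsSimpleGroup G]

/-- First analysis of the Sylow 5-subgroups. -/
theorem sylow5_cases (hn : Nat.card G = 4080) [Fact (Nat.Prime 5)] (P : Sylow 5 G) :
    Nat.card (P : Subgroup G) = 5 ∧ normalizer ((P : Subgroup G) : Set G) ≠ ⊤ ∧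
    ((Nat.card (Sylow 5 G) = 136 ∧ Nat.card (normalizer ((P : Subgroup G) : Set G)) = 30 ∧
        Nat.card (centralizer ((P : Subgroup G) : Set G)) = 15) ∨
      (Nat.card (Sylow 5 G) = 51 ∧ Nat.card (normalizer ((P : Subgroup G) : Set G)) = 80 ∧
        (Nat.card (centralizer ((P : Subgroup G) : Set G)) = 40 ∨
          Nat.card (centralizer ((P : Subgroup G) : Set G)) = 20))) := by
  have hnc := not_comm hn
  obtain ⟨h1, h2, h3, h4, h5, h6, h7, h8, hP, hNd, hNtop, -, hcr, -⟩ :=
    prime_data_explicit hnc hn (p := 5) (m := 816) (by norm_num) (by norm_num) (by norm_num) P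
  have hmem : Nat.card (Sylow 5 G) ∈ (Nat.divisors 816).filter (fun d => d % 5 = 1) := by
    rw [Finset.mem_filter, Nat.mem_divisors]
    exact ⟨⟨h1, by norm_num⟩, h2⟩
  have hfil : (Nat.divisors 816).filter (fun d => d % 5 = 1) = {1, 6, 16, 51, 136, 816} := by
    decide
  rw [hfil] at hmem
  simp only [Finset.mem_insert, Finset.mem_singleton] at hmem
  set N := normalizer ((P : Subgroup G) : Set G) with hN
  set C := centralizer ((P : Subgroup G) : Set G) with hC
  set r := C.relIndex N with hr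
  set c := Nat.card C with hc
  have hr4 : r ≤ 4 := Nat.le_of_dvd (by norm_num) h5
  refine ⟨hP, hNtop, ?_⟩
  rcases hmem with hd | hd | hd | hd | hd | hd
  · exact absurd hd h3
  · exfalso
    rw [hd] at h4
    revert h4
    decide
  · exfalso
    rw [hd] at h7
    interval_cases r <;> omega
  · right
    rw [hd] at h7 hNd
    refine ⟨hd, by omega, ?_⟩
    interval_cases r <;> omega
  · left
    rw [hd] at h7 hNd
    refine ⟨hd, by omega, ?_⟩
    obtain ⟨c', hc'⟩ := h8
    rw [hc'] at h7 ⊢
    interval_cases r <;> omega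
  · exfalso
    rw [hd] at h7
    interval_cases r <;> omega

/-- The case `|N(P)| = 80`, `|C(P)| = 40` is impossible, by Thompson's transfer lemma. -/
theorem sylow5_not_r2 (hn : Nat.card G = 4080) [Fact (Nat.Prime 5)] (P : Sylow 5 G)
    (hNc : Nat.card (normalizer ((P : Subgroup G) : Set G)) = 80)
    (hCc : Nat.card (centralizer ((P : Subgroup G) : Set G)) = 40) : False := by
  set N := normalizer ((P : Subgroup G) : Set G) with hN
  set C := centralizer ((P : Subgroup G) : Set G) with hC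
  have hCN : C ≤ N := centralizer_le_normalizer _
  obtain ⟨s, hso, hsc⟩ := exists_s hn
  -- a Sylow 2-subgroup of G inside N
  obtain ⟨K₀, hK₀⟩ := Sylow.exists_subgroup_card_pow_prime (G := N) 2 (n := 4)
    (by rw [hNc]; norm_num)
  set S₀ : Subgroup G := K₀.map N.subtype with hS₀
  have hS₀c : Nat.card S₀ = 16 := by rw [hS₀, Subgroup.card_subtype, hK₀]; norm_num
  have hS₀N : S₀ ≤ N := Subgroup.map_subtype_le K₀
  have hp : IsPGroup 2 S₀ := IsPGroup.of_card (n := 4) (by rw [hS₀c]; norm_num)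
  obtain ⟨S, hS⟩ := hp.exists_le_sylow
  have hSc : Nat.card (S : Subgroup G) = 16 := by
    have := (sylow_card_and_index S (k := 4) (m := 255) (by rw [hn]; norm_num) (by norm_num)).1
    simpa using this
  have hSeq : S₀ = (S : Subgroup G) := Subgroup.eq_of_le_of_card_ge hS (by rw [hSc, hS₀c])
  have hSN : (S : Subgroup G) ≤ N := hSeq ▸ hS₀N
  set M : Subgroup G := (S : Subgroup G) ⊓ C with hM
  have hrelCN : C.relIndex N = 2 := by
    have := card_mul_relIndex_of_le hCN
    rw [hNc, hCc] at this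
    omega
  have hM2 : M.relIndex (S : Subgroup G) = 2 := by
    rw [hM, Subgroup.inf_relIndex_left]
    have hle : C.relIndex (S : Subgroup G) ≤ C.relIndex N :=
      Subgroup.relIndex_le_of_le_right hSN (by rw [hrelCN]; norm_num)
    rw [hrelCN] at hle
    have hne0 : C.relIndex (S : Subgroup G) ≠ 0 := by
      rw [Subgroup.relIndex]
      exact Subgroup.index_ne_zero_of_finite
    have hne1 : C.relIndex (S : Subgroup G) ≠ 1 := by
      intro h1
      have hSC : (S : Subgroup G) ≤ C := Subgroup.relIndex_eq_one.mp h1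
      have := Subgroup.card_dvd_of_le hSC
      rw [hSc, hCc] at this
      omega
    omega
  have hcon : ∀ g : G, g * s * g⁻¹ ∉ M := by
    intro g hg
    have hgC : g * s * g⁻¹ ∈ C := hg.2
    have hPle : (P : Subgroup G) ≤ centralizer ({g * s * g⁻¹} : Set G) := by
      intro x hx
      rw [mem_centralizer_singleton_iff]
      rw [hC, mem_centralizer_iff] at hgC
      exact hgC x hx
    have hdvd := Subgroup.card_dvd_of_le hPle
    have hP5 : Nat.card (P : Subgroup G) = 5 := (sylow5_cases hn P).1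
    rw [card_centralizer_conj, hP5] at hdvd
    rcases hsc with h | h <;> rw [h] at hdvd <;> omega
  obtain ⟨K, hKn, hKi, -⟩ := Cfsg.Agent.Lib.H16.exists_normal_index_two_not_mem S M hM2 1
    (by
      intro y hy hyM
      rw [Nat.sub_self, pow_zero]
      have hy1 : y ≠ 1 := fun h => hyM (h ▸ M.one_mem)
      have := orderOf_pos y
      have h1 : orderOf y ≠ 1 := fun h => hy1 (orderOf_eq_one_iff.mp h)
      omega)
    s (by rw [hso, pow_one]) hcon
  rcases hKn.eq_bot_or_eq_top with hb | ht
  · rw [hb, Subgroup.index_bot, hn] at hKi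
    omega
  · rw [ht, Subgroup.index_top] at hKi
    omega

/-- The case `|N(P)| = 80`, `|C(P)| = 20` is impossible, by counting involutions in `N(P)`. -/
theorem sylow5_not_r4 (hn : Nat.card G = 4080) [Fact (Nat.Prime 5)] (P : Sylow 5 G)
    (hNc : Nat.card (normalizer ((P : Subgroup G) : Set G)) = 80)
    (hCc : Nat.card (centralizer ((P : Subgroup G) : Set G)) = 20) : False := by
  have : Fact (Nat.Prime 2) := ⟨by norm_num⟩
  obtain ⟨hP, hNtop, -⟩ := sylow5_cases hn P
  set N := normalizer ((P : Subgroup G) : Set G) with hN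
  set C := centralizer ((P : Subgroup G) : Set G) with hC
  have hCN : C ≤ N := centralizer_le_normalizer _
  have hidx : N.index = 51 := by
    have := N.card_mul_index
    rw [hNc, hn] at this
    omega
  have hcomm : ∀ a ∈ C, ∀ b ∈ C, a * b = b * a :=
    centralizer_comm_of_card (p := 5) (q := 2) (j := 2) (P : Subgroup G) hP (by norm_num) le_rfl
      (by rw [← hC, hCc]; norm_num)
  -- an involution `y` of `C`
  obtain ⟨y0, hy0⟩ := exists_prime_orderOf_dvd_card' (G := C) 2 (by rw [hCc]; norm_num)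
  have hyC : (y0 : G) ∈ C := y0.2
  have hyo : orderOf (y0 : G) = 2 := by rw [Subgroup.orderOf_coe]; exact hy0
  generalize (y0 : G) = y at hyC hyo
  obtain ⟨f, r, hf5, hf4, hflt, hr5, hHr, hmul, hCdvd, hNHdvd⟩ :=
    inv_data (two_lt hn) P hP hNtop hcomm hyC hyo
  rw [← hN] at hmul hCdvd hNHdvd hHr
  rw [← hC] at hmul hCdvd
  rw [← hN, hidx] at hf4 hflt
  rw [hNc] at hmul hNHdvd
  rw [hCc] at hCdvd
  have ha1 := ncard_A1_add_one_le hyo C hcomm
  obtain ⟨j, hj1, hj2⟩ := card_invSub C hcomm
  rw [hCc] at hj2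
  have hj4 : 2 ^ j ≤ 4 := by
    have hj : j ≤ 2 := by
      by_contra hlt
      have : 2 ^ 3 ∣ 2 ^ j := pow_dvd_pow 2 (by omega)
      have := this.trans hj2
      omega
    calc 2 ^ j ≤ 2 ^ 2 := Nat.pow_le_pow_right (by norm_num) hj
      _ = 4 := by norm_num
  rw [hj1] at ha1
  have ha2d := dvd_ncard_A2 (P : Subgroup G) hP y
  have ha2le := ncard_A2_le_card (P : Subgroup G) hP hyo
  rw [← hN, ← hC] at ha2d ha2le
  rw [hCc] at ha2le
  set a1 := (A1 y C).ncard with ha1def
  set a2 := (A2 y N C).ncard with ha2def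
  set h := Nat.card (centralizer ({y} : Set G)) with hh
  have h20 : 20 ∣ h := by
    rw [← hHr]
    exact Dvd.dvd.mul_right hCdvd r
  have hdvd : h ∣ 4080 := by
    rw [← hn]
    exact Subgroup.card_subgroup_dvd_card _
  have hf : f = 11 ∨ f = 31 := by omega
  have ha2ge : 10 ≤ a2 := by
    have hmem : h ∈ (Nat.divisors 4080).filter (fun d => 20 ∣ d) := by
      rw [Finset.mem_filter, Nat.mem_divisors]
      exact ⟨⟨hdvd, by norm_num⟩, h20⟩
    have hfil : (Nat.divisors 4080).filter (fun d => 20 ∣ d) =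
        {20, 40, 60, 80, 120, 240, 340, 680, 1020, 1360, 2040, 4080} := by decide +kernel
    rw [hfil] at hmem
    simp only [Finset.mem_insert, Finset.mem_singleton] at hmem
    obtain ⟨k, hk⟩ := ha2d
    rcases hf with rfl | rfl <;> rcases hmem with h' | h' | h' | h' | h' | h' | h' | h' | h' | h' | h' | h' <;>
      rw [h'] at hmul <;> omega
  -- the involution `s` with a centralizer of order `8` or `16`
  obtain ⟨s, hso, hsc⟩ := exists_s hn
  have hfs := four_dvd_index_sub_card_fixedBy (two_lt hn) N hso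
  have hfsle := card_fixedBy_le_index N s
  rw [hidx] at hfs hfsle
  have hne : Nat.card (fixedBy (G ⧸ N) s) ≠ 0 := by
    intro h0
    rw [h0] at hfs
    omega
  obtain ⟨⟨q, hq⟩⟩ := (Nat.card_pos_iff.mp (Nat.pos_of_ne_zero hne)).1
  obtain ⟨g, rfl⟩ := QuotientGroup.mk_surjective q
  have hs'N : g⁻¹ * s * g⁻¹⁻¹ ∈ N := by
    rw [mem_fixedBy, MulAction.Quotient.smul_mk, QuotientGroup.eq] at hq
    have := N.inv_mem hq
    convert this using 1
    simp only [smul_eq_mul]
    group
  have hs'c := card_centralizer_conj g⁻¹ s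
  have hconj : IsConj s (g⁻¹ * s * g⁻¹⁻¹) := isConj_iff.mpr ⟨g⁻¹, rfl⟩
  have hs'o : orderOf (g⁻¹ * s * g⁻¹⁻¹) = 2 := by
    rw [← Cfsg.Agent.Lib.H5.orderOf_eq_of_isConj hconj, hso]
  generalize g⁻¹ * s * g⁻¹⁻¹ = s' at hs'N hs'c hs'o
  have hs'8 : Nat.card (centralizer ({s'} : Set G)) = 8 ∨
      Nat.card (centralizer ({s'} : Set G)) = 16 := by rw [hs'c]; exact hsc
  have hno5 : ∀ x : G, IsConj s' x → x ∉ C := by
    intro x hx hxC
    have h1 := card_dvd_card_centralizer_of_mem (P : Subgroup G) hxC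
    rw [card_centralizer_of_isConj hx, hP] at h1
    rcases hs'8 with h8 | h8 <;> rw [h8] at h1 <;> omega
  have hmul' := card_fixedBy_mul_card N hs'N
  rw [card_conj_mem_eq s' hCN, hNc] at hmul'
  have hA1 : (A1 s' C).ncard = 0 := by
    rw [Set.ncard_eq_zero (Set.toFinite _)]
    ext x
    simp only [Set.mem_empty_iff_false, iff_false]
    rintro ⟨hx1, hx2⟩
    exact hno5 x hx1 hx2
  have hfs' := four_dvd_index_sub_card_fixedBy (two_lt hn) N hs'o
  have hfs'le := card_fixedBy_le_index N s'
  rw [hidx] at hfs' hfs'le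
  have hdisj : Disjoint (A2 s' N C) (A2 y N C) := by
    rw [Set.disjoint_left]
    rintro x ⟨hx1, -, -⟩ ⟨hx2, -, -⟩
    have e1 := card_centralizer_of_isConj hx1
    have e2 := card_centralizer_of_isConj hx2
    rw [e1] at e2
    rw [← hh] at e2
    rw [e2] at hs'8
    obtain ⟨k, hk⟩ := h20
    omega
  have hunion := ncard_inv_le_card (P : Subgroup G) hP (A2 s' N C ∪ A2 y N C) (by
    rintro z (⟨hz1, hz2, hz3⟩ | ⟨hz1, hz2, hz3⟩)
    · exact ⟨hz2, hz3, (orderOf_eq_two_of_isConj hs'o hz1).1⟩
    · exact ⟨hz2, hz3, (orderOf_eq_two_of_isConj hyo hz1).1⟩)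
  rw [Set.ncard_union_eq hdisj (Set.toFinite _) (Set.toFinite _), ← hC, hCc, ← ha2def] at hunion
  rw [hA1, zero_add] at hmul'
  rcases hs'8 with h8 | h8 <;> rw [h8] at hmul' <;> omega

/-- The Sylow 5-subgroups: `|N(P)| = 30`, `|C(P)| = 15`, `n_5 = 136`. -/
theorem sylow5_data (hn : Nat.card G = 4080) [Fact (Nat.Prime 5)] (P : Sylow 5 G) :
    Nat.card (P : Subgroup G) = 5 ∧ Nat.card (normalizer ((P : Subgroup G) : Set G)) = 30 ∧
      Nat.card (centralizer ((P : Subgroup G) : Set G)) = 15 ∧ Nat.card (Sylow 5 G) = 136 := by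
  obtain ⟨hP, -, ⟨h1, h2, h3⟩ | ⟨h1, h2, h3 | h3⟩⟩ := sylow5_cases hn P
  · exact ⟨hP, h2, h3, h1⟩
  · exact (sylow5_not_r2 hn P h2 h3).elim
  · exact (sylow5_not_r4 hn P h2 h3).elim

end Cfsg.Agent.Lib.H5.Ord4080
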