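import Mathlib
import Cfsg.Agent.Lib.H5.Ord.SylPrime3
import Cfsg.Agent.Lib.H4.S3T.Odd.Sign

set_option autoImplicit false

/-! # Order 4032: Burnside count with a constant number of fixed points; parity for elements of
order 4 (helper5) -/

namespace Cfsg.Agent.Lib.H5.O4032

open Subgroup MulAction Cfsg.Agent.Lib.H5 Cfsg.Agent.Lib.H5.SylPrime

variable {G : Type*} [Group G]

/-- **T1** Burnside's counting lemma for a subgroup all of whose non-identity elements have exactly
`f` fixed points. -/
theorem card_dvd_of_fixedBy_const {Ω : Type*} [MulAction G Ω] [Finite Ω] [Finite G]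
    (T : Subgroup G) (f : ℕ) (hfix : ∀ t ∈ T, t ≠ 1 → Nat.card (fixedBy Ω t) = f) :
    Nat.card T ∣ Nat.card Ω + (Nat.card T - 1) * f := by
  classical
  haveI : Fintype T := Fintype.ofFinite _
  haveI : Fintype Ω := Fintype.ofFinite _
  haveI : Fintype (Quotient (orbitRel T Ω)) := Fintype.ofFinite _
  have key := sum_card_fixedBy_eq_card_orbits_mul_card_group T Ω
  have h1 : ∀ t : T, t ≠ 1 → Fintype.card (fixedBy Ω t) = f := by
    intro t ht
    have h2 : fixedBy Ω t = fixedBy Ω (t : G) := rfl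
    rw [← Nat.card_eq_fintype_card, h2]
    exact hfix t t.2 (fun h => ht (Subtype.ext h))
  have h0 : Fintype.card (fixedBy Ω (1 : T)) = Nat.card Ω := by
    rw [← Nat.card_eq_fintype_card]
    have : fixedBy Ω (1 : T) = Set.univ := by
      ext ω
      simp
    rw [this, Nat.card_coe_set_eq, Set.ncard_univ]
  rw [← Finset.add_sum_erase Finset.univ _ (Finset.mem_univ (1 : T)), h0] at key
  have hs : ∑ t ∈ (Finset.univ : Finset T).erase 1, Fintype.card (fixedBy Ω t) =
      (Fintype.card T - 1) * f := by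
    rw [Finset.sum_congr rfl (fun t ht => h1 t (Finset.ne_of_mem_erase ht))]
    simp [Finset.card_erase_of_mem]
  rw [hs, ← Nat.card_eq_fintype_card (α := T)] at key
  exact ⟨_, by rw [key, mul_comm]⟩

end Cfsg.Agent.Lib.H5.O4032

namespace Cfsg.Agent.Lib.H5.O4032

open Subgroup MulAction Cfsg.Agent.Lib.H5 Cfsg.Agent.Lib.H5.SylPrime

variable {G : Type*} [Group G]

/-- **T2** parity for an element of order 4 acting semiregularly off its fixed points. -/
theorem eight_dvd_index_sub_card_fixedBy [Finite G] [IsSimpleGroup G] (hG : 2 < Nat.card G)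
    (H : Subgroup G) {u : G} (hu : orderOf u = 4)
    (hfix : Nat.card (fixedBy (G ⧸ H) (u ^ 2)) = Nat.card (fixedBy (G ⧸ H) u)) :
    8 ∣ H.index - Nat.card (fixedBy (G ⧸ H) u) := by
  classical
  haveI : Fintype (G ⧸ H) := Fintype.ofFinite _
  set Ω := G ⧸ H
  set σ : Equiv.Perm Ω := MulAction.toPerm u with hσ
  -- fixed points of u² are fixed points of u
  have hsub : fixedBy Ω u ⊆ fixedBy Ω (u ^ 2) := by
    intro ω hω
    rw [mem_fixedBy] at hω ⊢
    rw [pow_two, mul_smul, hω, hω]
  have heq : fixedBy Ω u = fixedBy Ω (u ^ 2) := by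
    apply Set.eq_of_subset_of_ncard_le hsub _ (Set.toFinite _)
    rw [← Nat.card_coe_set_eq, ← Nat.card_coe_set_eq, hfix]
  have hσpow : ∀ j : ℕ, ∀ x : Ω, (σ ^ j) x = u ^ j • x := by
    intro j x
    have h1 : σ ^ j = MulAction.toPermHom G Ω (u ^ j) := by
      rw [map_pow]; rfl
    rw [h1]; rfl
  have hσ4 : σ ^ 4 = 1 := by
    ext x
    rw [hσpow, ← hu, pow_orderOf_eq_one, one_smul]; rfl
  have hsemi : ∀ x, σ x ≠ x → ∀ j, 0 < j → j < 4 → (σ ^ j) x ≠ x := by
    intro x hx j hj0 hj4 hjx
    have hx' : u • x ≠ x := hx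
    rw [hσpow] at hjx
    interval_cases j
    · rw [pow_one] at hjx; exact hx' hjx
    · have : x ∈ fixedBy Ω (u ^ 2) := hjx
      rw [← heq] at this
      exact hx' this
    · -- u^3 x = x ⇒ u x = u^4 x = x
      have h4 : u ^ 4 • x = x := by rw [← hu, pow_orderOf_eq_one, one_smul]
      have : u • (u ^ 3 • x) = x := by rw [← mul_smul, ← pow_succ', h4]
      rw [hjx] at this
      exact hx' this
  have hct := Cfsg.Agent.Lib.H4.S3T.Odd.cycleType_of_semiregular σ 4 (by norm_num) hσ4 hsemi
  set k := Multiset.card σ.cycleType with hk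
  have hsum := Equiv.Perm.sum_cycleType σ
  rw [hct, Multiset.sum_replicate, smul_eq_mul] at hsum
  have hsign := Equiv.Perm.sign_of_cycleType σ
  rw [hct, Multiset.sum_replicate, smul_eq_mul, Multiset.card_replicate, hσ,
    Cfsg.Agent.Lib.H2.SimpleAct.sign_toPerm hG] at hsign
  have hev : Even (k * 4 + k) := by
    by_contra hodd
    rw [Nat.not_even_iff_odd] at hodd
    rw [hodd.neg_one_pow] at hsign
    revert hsign
    decide
  have hkev : Even k := by
    rcases Nat.even_or_odd k with h | h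
    · exact h
    · exfalso
      have : Odd (k * 4 + k) := by
        obtain ⟨m, hm⟩ := h
        exact ⟨2 * k + m, by omega⟩
      exact (Nat.not_even_iff_odd.mpr this) hev
  have hsupp : σ.support.card = H.index - Nat.card (fixedBy Ω u) := by
    have h1 : (σ.support : Set Ω) = (fixedBy Ω u)ᶜ := by
      ext R
      simp [hσ, mem_fixedBy]
    have h2 := Set.ncard_coe_finset σ.support
    rw [h1, Set.ncard_compl] at h2
    rw [← h2, Subgroup.index_eq_card, Nat.card_coe_set_eq]
  rw [← hsupp, ← hsum]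
  obtain ⟨m, hm⟩ := hkev
  exact ⟨m, by omega⟩

end Cfsg.Agent.Lib.H5.O4032
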