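import Mathlib
import Cfsg.Agent.Lib.H5.Ord.O4032a
import Cfsg.Agent.Lib.H5.Ord.O4032b

set_option autoImplicit false

/-! # Order 4032: the case `n_7 = 36` (helper5) -/

namespace Cfsg.Agent.Lib.H5.O4032

open Subgroup MulAction Cfsg.Agent.Lib.H5 Cfsg.Agent.Lib.H5.SylPrime

variable {G : Type*} [Group G] [Finite G] [IsSimpleGroup G]

/-- **T3** `n_7 = 36`. -/
theorem caseB (hG : Nat.card G = 4032) [Fact (Nat.Prime 7)] (P : Sylow 7 G)
    (hP : Nat.card (P : Subgroup G) = 7) (hNtop : normalizer ((P : Subgroup G) : Set G) ≠ ⊤)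
    (hn : Nat.card (Sylow 7 G) = 36)
    (hN : Nat.card (normalizer ((P : Subgroup G) : Set G)) = 112)
    (hC : Nat.card (centralizer ((P : Subgroup G) : Set G)) = 56) : False := by
  haveI : Fact (Nat.Prime 2) := ⟨Nat.prime_two⟩
  set N := normalizer ((P : Subgroup G) : Set G) with hNdef
  set C := centralizer ((P : Subgroup G) : Set G) with hCdef
  have hG2 : 2 < Nat.card G := by rw [hG]; norm_num
  have hidx : N.index = 36 := by
    rw [hNdef, index_normalizer_eq_card_sylow, hn]
  have hΩ : Nat.card (G ⧸ N) = 36 := by rw [← Subgroup.index_eq_card, hidx]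
  -- involutions of C fix 8 points
  have hinv : ∀ y ∈ C, orderOf y = 2 → Nat.card (fixedBy (G ⧸ N) y) = 8 := by
    intro y hyC hy
    have h1 := card_fixedBy_modEq_one 7 P hP hyC
    have h2 := four_dvd_index_sub_card_fixedBy hG2 N hy
    have h3 := card_fixedBy_le_index N y
    have h4 : Nat.card (fixedBy (G ⧸ N) y) ≠ N.index := by
      intro h
      have := eq_one_of_card_fixedBy_eq N hNtop h
      rw [this, orderOf_one] at hy
      omega
    rw [← hNdef] at h1
    rw [hidx] at h2 h3 h4
    unfold Nat.ModEq at h1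
    omega
  -- no element of order 4 in C
  have hno4 : ∀ u ∈ C, orderOf u ≠ 4 := by
    intro u huC hu
    have hu2C : u ^ 2 ∈ C := C.pow_mem huC 2
    have hu2 : orderOf (u ^ 2) = 2 := by
      rw [orderOf_pow' u (by norm_num), hu]; norm_num
    have h8 := hinv (u ^ 2) hu2C hu2
    have h1 := card_fixedBy_modEq_one 7 P hP huC
    rw [← hNdef] at h1
    have h2 := card_modEq_card_fixedBy (Ω := G ⧸ N) (r := 2) (k := 2) (y := u) (by rw [hu]; norm_num)
    rw [hΩ] at h2
    have hsub : fixedBy (G ⧸ N) u ⊆ fixedBy (G ⧸ N) (u ^ 2) := by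
      intro ω hω
      rw [mem_fixedBy] at hω ⊢
      rw [pow_two, mul_smul, hω, hω]
    have hle : Nat.card (fixedBy (G ⧸ N) u) ≤ 8 := by
      rw [← h8]
      exact Nat.card_mono (Set.toFinite _) hsub
    have hfu : Nat.card (fixedBy (G ⧸ N) u) = 8 := by
      unfold Nat.ModEq at h1 h2
      omega
    have := eight_dvd_index_sub_card_fixedBy hG2 N hu (by rw [h8, hfu])
    rw [hidx, hfu] at this
    omega
  -- a subgroup of order 8 of C
  have h8C : 2 ^ 3 ∣ Nat.card C := by rw [hC]; norm_num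
  obtain ⟨T', hT'⟩ := Sylow.exists_subgroup_card_pow_prime 2 h8C
  set T : Subgroup G := T'.map C.subtype with hTdef
  have hTcard : Nat.card T = 8 := by
    rw [hTdef, Subgroup.card_map_of_injective C.subtype_injective, hT']
    norm_num
  have hTC : T ≤ C := by
    rw [hTdef]
    intro x hx
    obtain ⟨y, -, rfl⟩ := Subgroup.mem_map.mp hx
    exact y.2
  have hTinv : ∀ t ∈ T, t ≠ 1 → Nat.card (fixedBy (G ⧸ N) t) = 8 := by
    intro t htT ht1
    apply hinv t (hTC htT)
    have hdvd : orderOf t ∣ 8 := by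
      have := orderOf_dvd_natCard (⟨t, htT⟩ : T)
      rwa [Subgroup.orderOf_mk, hTcard] at this
    have hle : orderOf t ≤ 8 := Nat.le_of_dvd (by norm_num) hdvd
    have hpos : 0 < orderOf t := orderOf_pos t
    have h1 : orderOf t ≠ 1 := fun h => ht1 (orderOf_eq_one_iff.mp h)
    have h4 := hno4 t (hTC htT)
    have h8 : orderOf t ≠ 8 := by
      intro h
      apply hno4 (t ^ 2) (C.pow_mem (hTC htT) 2)
      rw [orderOf_pow' t (by norm_num), h]; norm_num
    interval_cases h : orderOf t <;> omega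
  have := card_dvd_of_fixedBy_const (Ω := G ⧸ N) T 8 hTinv
  rw [hTcard, hΩ] at this
  omega

end Cfsg.Agent.Lib.H5.O4032
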