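import Mathlib
import Cfsg.Agent.Lib.H5.Ord.GenTests3
import Cfsg.Agent.Lib.H5.Ord.InvCount
import Cfsg.Agent.Lib.H5.Ord.NCClass
import Cfsg.Agent.Lib.H5.Ord.NCInv
import Cfsg.Agent.Lib.H5.EmbedAlt

set_option autoImplicit false

/-! # No simple group of order 1008 -/

namespace Cfsg.Agent.Lib.H5.SmallOrd

open Subgroup MulAction Cfsg.Agent.Lib.H5 Cfsg.Agent.Lib.H5.SylPrime Cfsg.Agent.Lib.H5.GenTests

variable {G : Type*} [Group G] [Finite G] [IsSimpleGroup G]

theorem not_1008 : Nat.card G ≠ 1008 := by
  intro hn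
  have hnc : ¬ IsMulCommutative G :=
    not_isMulCommutative_of_card_not_prime (by rw [hn]; norm_num)
  have hG2 : 2 < Nat.card G := by rw [hn]; norm_num
  have : Fact (Nat.Prime 7) := ⟨by norm_num⟩
  have : Fact (Nat.Prime 2) := ⟨by norm_num⟩
  let P : Sylow 7 G := default
  obtain ⟨h1, h2, h3, -, h5, h6, h7, h8, hP, hNd, hNtop, -, hcr, -⟩ :=
    prime_data_explicit hnc hn (p := 7) (m := 144) (by norm_num) (by norm_num) (by norm_num) P
  have hmem : Nat.card (Sylow 7 G) ∈ (Nat.divisors 144).filter (fun d => d % 7 = 1) := by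
    rw [Finset.mem_filter, Nat.mem_divisors]
    exact ⟨⟨h1, by norm_num⟩, h2⟩
  have hfil : (Nat.divisors 144).filter (fun d => d % 7 = 1) = {1, 8, 36} := by decide
  rw [hfil] at hmem
  simp only [Finset.mem_insert, Finset.mem_singleton] at hmem
  set N := normalizer ((P : Subgroup G) : Set G) with hN
  set C := centralizer ((P : Subgroup G) : Set G) with hC
  have hidx : N.index = Nat.card (Sylow 7 G) := index_normalizer_eq_card_sylow P
  rcases hmem with hd | hd | hd
  · exact h3 hd
  · -- n_7 = 8
    rw [hd] at hNd hidx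
    have hNc : Nat.card N = 126 := by omega
    have := two_mul_card_normalizer_dvd hnc (p := 7) (by norm_num) N (Or.inr hidx) P hP
    rw [hNc] at this
    omega
  · -- n_7 = 36
    rw [hd] at h7 hNd hidx
    set r := C.relIndex N
    set c := Nat.card C with hc
    have hr6 : r ≤ 6 := Nat.le_of_dvd (by norm_num) h5
    have hrc : c = 14 ∧ r = 2 := by
      interval_cases r <;> omega
    have hNc : Nat.card N = 28 := by omega
    have hCN : C ≤ N := centralizer_le_normalizer _
    have hcomm := centralizer_comm_of_card (P : Subgroup G) hP (q := 2) (j := 1) (by norm_num)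
      (by norm_num) (by rw [← hC, ← hc, hrc.1]; norm_num)
    obtain ⟨y, hy⟩ := exists_prime_orderOf_dvd_card' (G := C) 2 (by rw [← hc, hrc.1]; norm_num)
    have hyC : (y : G) ∈ C := y.2
    have hyo : orderOf (y : G) = 2 := by rw [Subgroup.orderOf_coe]; exact hy
    have hyN : (y : G) ∈ N := hCN hyC
    set f := Nat.card (fixedBy (G ⧸ N) (y : G)) with hf
    have hf1 : f % 7 = 1 := by
      have := card_fixedBy_modEq_one 7 P hP hyC
      rw [Nat.ModEq] at this
      exact this
    have hf4 : 4 ∣ 36 - f := by
      have := four_dvd_index_sub_card_fixedBy hG2 N hyo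
      rwa [hidx] at this
    have hflt : f < 36 := by
      rw [← hidx]
      apply lt_of_le_of_ne (card_fixedBy_le_index N _)
      intro heq
      have := eq_one_of_card_fixedBy_eq N hNtop heq
      rw [this, orderOf_one] at hyo
      omega
    have hf8 : f = 8 := by omega
    -- class count
    have hmul := card_fixedBy_mul_card N hyN
    rw [card_conj_mem_eq (y : G) hCN, ← hf, hf8, hNc] at hmul
    set a := (A1 (y : G) C).ncard
    set b := (A2 (y : G) N C).ncard with hb
    set h := Nat.card (centralizer ({(y : G)} : Set G)) with hh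
    have ha : a ≤ 1 := by
      have h1 := ncard_A1_add_one_le hyo C hcomm
      obtain ⟨j, hj1, hj2⟩ := card_invSub C hcomm
      rw [← hc, hrc.1] at hj2
      rw [hj1] at h1
      have hj : j ≤ 1 := by
        by_contra hcon
        have hcon' : 2 ≤ j := by omega
        have : 2 ^ 2 ∣ 2 ^ j := pow_dvd_pow 2 hcon'
        have := dvd_trans this hj2
        omega
      interval_cases j <;> omega
    have hb7 : 7 ∣ b := dvd_ncard_A2 (P : Subgroup G) hP (y : G)
    have hb14 : b ≤ 14 := by
      have := ncard_A2_le_card (P : Subgroup G) hP hyo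
      rwa [← hC, ← hN, ← hb, ← hc, hrc.1] at this
    have hh14 : 14 ∣ h := by
      have := card_dvd_of_le (le_centralizer_singleton_of_comm hcomm hyC)
      rwa [← hc, hrc.1] at this
    have hhdvd : h ∣ 1008 := by
      rw [← hn]; exact Subgroup.card_subgroup_dvd_card _
    have hb_eq : b = 7 := by
      obtain ⟨h', hh'⟩ := hh14
      rw [hh'] at hmul hhdvd
      have hbc : b = 0 ∨ b = 7 ∨ b = 14 := by omega
      have hac : a = 0 ∨ a = 1 := by omega
      rcases hbc with hb0 | hb0 | hb0 <;> rcases hac with ha0 | ha0 <;> rw [hb0, ha0] at hmul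
      · omega
      · exfalso
        have : h' = 16 := by omega
        rw [this] at hhdvd
        omega
      · exfalso; omega
      · exact hb0
      · exfalso; omega
      · exfalso; omega
    -- an element of A2
    have hne : (A2 (y : G) N C).Nonempty := by
      rw [← Set.ncard_pos (Set.toFinite _), ← hb, hb_eq]
      norm_num
    obtain ⟨y', hy'⟩ := hne
    obtain ⟨hcj, hy'N, hy'C⟩ := hy'
    obtain ⟨hy'2, -⟩ := orderOf_eq_two_of_isConj hyo hcj
    have hfix' : Nat.card (fixedBy (G ⧸ N) y') = 8 := by
      obtain ⟨g, hg⟩ := isConj_iff.mp hcj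
      rw [← hg, Cfsg.Agent.S1019.card_fixedBy_conj N (y : G) g, ← hf, hf8]
    have := double_count_of_not_mem_centralizer 7 (by norm_num) P hP hy'N hy'2 hy'C
    rw [hfix', ← hN, hidx] at this
    omega

end Cfsg.Agent.Lib.H5.SmallOrd
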