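import Mathlib
import Cfsg.Agent.Lib.H5.Ord.GenTests3
import Cfsg.Agent.Lib.H5.Ord.InvCount
import Cfsg.Agent.Lib.H5.Ord.NCInv

set_option autoImplicit false

/-! # No simple group of order 1080 -/

namespace Cfsg.Agent.Lib.H5.SmallOrd

open Subgroup MulAction Cfsg.Agent.Lib.H5 Cfsg.Agent.Lib.H5.SylPrime Cfsg.Agent.Lib.H5.GenTests

section general

variable {G : Type*} [Group G]

/-- In a commutative subgroup `C` whose order is `3 * m` with `3 ∤ m`, the elements with
`c ^ 3 = 1` are the powers of any element `w ∈ C` of order `3`. -/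
theorem mem_zpowers_of_pow_three [Finite G] {C : Subgroup G}
    (hcomm : ∀ a ∈ C, ∀ b ∈ C, a * b = b * a) {m : ℕ} (hC : Nat.card C = 3 * m) (hm : ¬ 3 ∣ m)
    {w g : G} (hwC : w ∈ C) (hw : orderOf w = 3) (hgC : g ∈ C) (hg : g ^ 3 = 1) :
    g ∈ zpowers w := by
  have : Fact (Nat.Prime 3) := ⟨by norm_num⟩
  -- the subgroup of elements of exponent 3
  let E : Subgroup G :=
    { carrier := {c | c ∈ C ∧ c ^ 3 = 1}
      one_mem' := ⟨C.one_mem, by simp⟩
      mul_mem' := by
        rintro a b ⟨ha, ha3⟩ ⟨hb, hb3⟩
        refine ⟨C.mul_mem ha hb, ?_⟩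
        have hab : Commute a b := hcomm a ha b hb
        rw [hab.mul_pow, ha3, hb3, one_mul]
      inv_mem' := by
        rintro a ⟨ha, ha3⟩
        exact ⟨C.inv_mem ha, by rw [inv_pow, ha3, inv_one]⟩ }
  have hEC : E ≤ C := fun _ h => h.1
  have hEp : IsPGroup 3 E := by
    intro x
    refine ⟨1, ?_⟩
    apply Subtype.ext
    rw [pow_one]
    exact x.2.2
  obtain ⟨j, hj⟩ := IsPGroup.iff_card.mp hEp
  have hdvd : Nat.card E ∣ 3 * m := hC ▸ card_dvd_of_le hEC
  have hj1 : j ≤ 1 := by
    by_contra hcon
    have hcon' : 2 ≤ j := by omega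
    have h9 : 3 ^ 2 ∣ 3 * m := dvd_trans (pow_dvd_pow 3 hcon') (hj ▸ hdvd)
    apply hm
    have : 3 * 3 ∣ 3 * m := by simpa using h9
    exact Nat.dvd_of_mul_dvd_mul_left (by norm_num) this
  have hwE : w ∈ E := ⟨hwC, by rw [← hw]; exact pow_orderOf_eq_one w⟩
  have hKE : zpowers w ≤ E := by
    rw [zpowers_le]; exact hwE
  have hKcard : Nat.card (zpowers w) = 3 := by rw [Nat.card_zpowers, hw]
  have hEcard : Nat.card E ≤ 3 := by
    rw [hj]
    calc 3 ^ j ≤ 3 ^ 1 := Nat.pow_le_pow_right (by norm_num) hj1
      _ = 3 := by norm_num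
  have hEK : zpowers w = E := Subgroup.eq_of_le_of_card_ge hKE (by rw [hKcard]; exact hEcard)
  rw [hEK]
  exact ⟨hgC, hg⟩

/-- Membership in the normalizer of a cyclic subgroup, from the two conjugates of the generator. -/
theorem mem_normalizer_zpowers_of_conj {w g : G} (h1 : g * w * g⁻¹ ∈ zpowers w)
    (h2 : g⁻¹ * w * g ∈ zpowers w) :
    g ∈ normalizer ((zpowers w : Subgroup G) : Set G) := by
  have key : ∀ x : G, x * w * x⁻¹ ∈ zpowers w → ∀ y ∈ zpowers w, x * y * x⁻¹ ∈ zpowers w := by
    intro x hx y hy
    obtain ⟨i, rfl⟩ := mem_zpowers_iff.mp hy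
    have := map_zpow (MulAut.conj x) w i
    simp only [MulAut.conj_apply] at this
    rw [this]
    exact zpow_mem hx i
  rw [mem_normalizer_iff]
  intro y
  constructor
  · exact key g h1 y
  · intro hy
    have := key g⁻¹ (by simpa using h2) _ hy
    simpa [mul_assoc] using this

end general

variable {G : Type*} [Group G] [Finite G] [IsSimpleGroup G]

theorem not_1080 : Nat.card G ≠ 1080 := by
  intro hn
  have hnc : ¬ IsMulCommutative G :=
    not_isMulCommutative_of_card_not_prime (by rw [hn]; norm_num)
  have hG2 : 2 < Nat.card G := by rw [hn]; norm_num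
  have : Fact (Nat.Prime 5) := ⟨by norm_num⟩
  have : Fact (Nat.Prime 3) := ⟨by norm_num⟩
  let P : Sylow 5 G := default
  obtain ⟨h1, h2, h3, h4, h5, h6, h7, h8, hP, hNd, hNtop, -, hcr, -⟩ :=
    prime_data_explicit hnc hn (p := 5) (m := 216) (by norm_num) (by norm_num) (by norm_num) P
  have hmem : Nat.card (Sylow 5 G) ∈ (Nat.divisors 216).filter (fun d => d % 5 = 1) := by
    rw [Finset.mem_filter, Nat.mem_divisors]
    exact ⟨⟨h1, by norm_num⟩, h2⟩
  have hfil : (Nat.divisors 216).filter (fun d => d % 5 = 1) = {1, 6, 36, 216} := by decide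
  rw [hfil] at hmem
  simp only [Finset.mem_insert, Finset.mem_singleton] at hmem
  set N := normalizer ((P : Subgroup G) : Set G) with hN
  set C := centralizer ((P : Subgroup G) : Set G) with hC
  have hidx : N.index = Nat.card (Sylow 5 G) := index_normalizer_eq_card_sylow P
  set r := C.relIndex N with hr
  set c := Nat.card C with hc
  have hr4 : r ≤ 4 := Nat.le_of_dvd (by norm_num) h5
  rcases hmem with hd | hd | hd | hd
  · exact h3 hd
  · rw [hd] at h4
    revert h4
    decide
  · -- n_5 = 36
    rw [hd] at h7 hNd hidx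
    have hrc : c = 15 ∧ r = 2 := by
      interval_cases r <;> omega
    have hNc : Nat.card N = 30 := by omega
    have hCN : C ≤ N := centralizer_le_normalizer _
    have hcomm := centralizer_comm_of_card (P : Subgroup G) hP (q := 3) (j := 1) (by norm_num)
      (by norm_num) (by rw [← hC, ← hc, hrc.1]; norm_num)
    obtain ⟨w, hw⟩ := exists_prime_orderOf_dvd_card' (G := C) 3 (by rw [← hc, hrc.1]; norm_num)
    have hwC : (w : G) ∈ C := w.2
    have hwo : orderOf (w : G) = 3 := by rw [Subgroup.orderOf_coe]; exact hw
    have hwN : (w : G) ∈ N := hCN hwC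
    set f := Nat.card (fixedBy (G ⧸ N) (w : G)) with hf
    have hf1 : f % 5 = 1 := by
      have := card_fixedBy_modEq_one 5 P hP hwC
      rw [Nat.ModEq] at this
      exact this
    have hf3 : f % 3 = 0 := by
      have := card_modEq_card_fixedBy (Ω := G ⧸ N) (r := 3) (k := 1) (y := (w : G))
        (by rw [pow_one]; exact hwo)
      have h' : Nat.card (G ⧸ N) = N.index := rfl
      rw [h', hidx, Nat.ModEq] at this
      omega
    have hflt : f < 36 := by
      rw [← hidx]
      apply lt_of_le_of_ne (card_fixedBy_le_index N _)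
      intro heq
      have := eq_one_of_card_fixedBy_eq N hNtop heq
      rw [this, orderOf_one] at hwo
      omega
    have hf621 : f = 6 ∨ f = 21 := by omega
    -- elements of order 3 in N
    have hord3 : ∀ g ∈ N, orderOf g = 3 → g = (w : G) ∨ g = (w : G)⁻¹ := by
      intro g hgN hgo
      have hg3 : g ^ 3 = 1 := by rw [← hgo]; exact pow_orderOf_eq_one g
      have hidx2 : (C.subgroupOf N).index = 2 := hrc.2
      have hgg : g * g ∈ C := by
        have := mul_self_mem_of_index_two hidx2 ⟨g, hgN⟩
        exact mem_subgroupOf.mp this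
      have hgC : g ∈ C := by
        have : g = (g * g) * (g * g) := by
          calc g = g ^ 3 * g := by rw [hg3, one_mul]
            _ = (g * g) * (g * g) := by simp only [pow_succ, pow_zero, one_mul, mul_assoc]
        rw [this]
        exact C.mul_mem hgg hgg
      have hmem := mem_zpowers_of_pow_three hcomm (m := 5) (by have := hrc.1; omega) (by norm_num)
        hwC hwo hgC hg3
      obtain ⟨k, hk⟩ := mem_zpowers_iff.mp hmem
      have hk3 : (w : G) ^ (k % 3) = g := by
        have := zpow_mod_orderOf (w : G) k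
        simp only [hwo, Nat.cast_ofNat] at this
        rw [← hk, ← this]
      have hklt : 0 ≤ k % 3 ∧ k % 3 < 3 := ⟨Int.emod_nonneg _ (by norm_num),
        Int.emod_lt_of_pos _ (by norm_num)⟩
      obtain ⟨hk0, hk2⟩ := hklt
      interval_cases hkm : k % 3
      · exfalso
        rw [zpow_zero] at hk3
        rw [← hk3, orderOf_one] at hgo
        omega
      · left
        rw [← hk3, zpow_one]
      · right
        rw [← hk3]
        have hw3 : (w : G) ^ 3 = 1 := by rw [← hwo]; exact pow_orderOf_eq_one _
        calc (w : G) ^ (2 : ℤ) = (w : G) ^ (2 : ℕ) := by norm_cast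
          _ = (w : G) ^ 2 * ((w : G) * (w : G)⁻¹) := by group
          _ = (w : G) ^ 3 * (w : G)⁻¹ := by group
          _ = (w : G)⁻¹ := by rw [hw3, one_mul]
    -- the conjugates of w in N
    have hmul := card_fixedBy_mul_card N hwN
    rw [← hf, hNc] at hmul
    set h := Nat.card (centralizer ({(w : G)} : Set G)) with hh
    set k := Nat.card {g : G // IsConj (w : G) g ∧ g ∈ N} with hk
    have hSsub : {g : G | IsConj (w : G) g ∧ g ∈ N} ⊆ {(w : G), (w : G)⁻¹} := by
      rintro g ⟨hcj, hgN⟩
      have hgo : orderOf g = 3 := by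
        obtain ⟨x, hx⟩ := isConj_iff.mp hcj
        rw [← hx]
        have := (MulAut.conj x).orderOf_eq (w : G)
        simp only [MulAut.conj_apply] at this
        rw [this, hwo]
      rcases hord3 g hgN hgo with h | h
      · rw [h]; exact Set.mem_insert _ _
      · rw [h]; exact Set.mem_insert_of_mem _ rfl
    have hk2 : k ≤ 2 := by
      have h1 : k = ({g : G | IsConj (w : G) g ∧ g ∈ N} : Set G).ncard := by
        rw [hk, ← Nat.card_coe_set_eq]
        rfl
      rw [h1]
      calc _ ≤ ({(w : G), (w : G)⁻¹} : Set G).ncard :=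
            Set.ncard_le_ncard hSsub (Set.toFinite _)
        _ ≤ ({(w : G)⁻¹} : Set G).ncard + 1 := Set.ncard_insert_le _ _
        _ = 2 := by rw [Set.ncard_singleton]
    have hh15 : 15 ∣ h := by
      have := card_dvd_of_le (le_centralizer_singleton_of_comm hcomm hwC)
      rwa [← hc, hrc.1] at this
    have hhdvd : h ∣ 1080 := by
      rw [← hn]; exact Subgroup.card_subgroup_dvd_card _
    have hHtop : centralizer ({(w : G)} : Set G) ≠ ⊤ := by
      intro htop
      have : h = 1080 := by rw [hh, htop, Subgroup.card_top, hn]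
      rw [this] at hmul
      rcases hf621 with h6 | h21 <;> [rw [h6] at hmul; rw [h21] at hmul] <;> omega
    have hHidx : (centralizer ({(w : G)} : Set G)).index * h = 1080 := by
      rw [← hn, hh, mul_comm]; exact Subgroup.card_mul_index _
    -- case analysis
    have hcase : h = 90 ∧ k = 2 := by
      obtain ⟨h', hh'⟩ := hh15
      rw [hh'] at hmul hhdvd hHidx
      have hkc : k = 0 ∨ k = 1 ∨ k = 2 := by omega
      rcases hf621 with h6 | h21 <;> [rw [h6] at hmul; rw [h21] at hmul] <;>
        rcases hkc with hk0 | hk0 | hk0 <;> rw [hk0] at hmul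
      · omega
      · exfalso
        have h12 : h' = 12 := by omega
        rw [h12] at hHidx
        have hi6 : (centralizer ({(w : G)} : Set G)).index = 6 := by omega
        have := two_mul_card_dvd_factorial_index hnc _ hHtop
        rw [hi6, hn] at this
        revert this
        decide
      · constructor <;> omega
      · omega
      · exfalso
        have : h' = 42 := by omega
        rw [this] at hhdvd
        norm_num at hhdvd
      · exfalso
        have : h' = 21 := by omega
        rw [this] at hhdvd
        norm_num at hhdvd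
    obtain ⟨hh90, hk2'⟩ := hcase
    -- a second conjugate of w in N, necessarily w⁻¹
    have hex : ∃ g : G, IsConj (w : G) g ∧ g ∈ N ∧ g ≠ (w : G) := by
      by_contra hcon
      push Not at hcon
      have hsub : {g : G | IsConj (w : G) g ∧ g ∈ N} ⊆ {(w : G)} := by
        rintro g ⟨hcj, hgN⟩
        exact hcon g hcj hgN
      have h1 : k = ({g : G | IsConj (w : G) g ∧ g ∈ N} : Set G).ncard := by
        rw [hk, ← Nat.card_coe_set_eq]
        rfl
      have := Set.ncard_le_ncard hsub (Set.toFinite _)
      rw [← h1, Set.ncard_singleton, hk2'] at this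
      omega
    obtain ⟨w₂, hcj, hw₂N, hw₂ne⟩ := hex
    have hw₂ : w₂ = (w : G)⁻¹ := by
      have := hSsub ⟨hcj, hw₂N⟩
      rcases this with h | h
      · exact absurd h hw₂ne
      · exact h
    obtain ⟨x, hx⟩ := isConj_iff.mp hcj
    rw [hw₂] at hx
    -- M = N_G(<w>)
    set M := normalizer ((zpowers (w : G) : Subgroup G) : Set G) with hM
    have hHM : centralizer ({(w : G)} : Set G) ≤ M := by
      intro z hz
      rw [mem_centralizer_singleton_iff] at hz
      have e1 : z * (w : G) * z⁻¹ = (w : G) := by
        first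
          | rw [hz, mul_inv_cancel_right]
          | rw [← hz, mul_inv_cancel_right]
      have e2 : z⁻¹ * (w : G) * z = (w : G) := by
        first
          | rw [mul_assoc, hz, ← mul_assoc, inv_mul_cancel, one_mul]
          | rw [mul_assoc, ← hz, ← mul_assoc, inv_mul_cancel, one_mul]
      apply mem_normalizer_zpowers_of_conj
      · rw [e1]; exact mem_zpowers _
      · rw [e2]; exact mem_zpowers _
    have hxM : x ∈ M := by
      have h1 : x⁻¹ * (w : G)⁻¹ * x = (w : G) := by
        rw [← hx]; group
      have h2 : x⁻¹ * (w : G) * x = (w : G)⁻¹ := by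
        have : (x⁻¹ * (w : G)⁻¹ * x)⁻¹ = (w : G)⁻¹ := by rw [h1]
        rw [← this]; group
      apply mem_normalizer_zpowers_of_conj
      · rw [hx]; exact inv_mem (mem_zpowers _)
      · rw [h2]; exact inv_mem (mem_zpowers _)
    have hxH : x ∉ centralizer ({(w : G)} : Set G) := by
      intro hxc
      rw [mem_centralizer_singleton_iff] at hxc
      have : x * (w : G) * x⁻¹ = (w : G) := by rw [hxc, mul_inv_cancel_right]
      rw [hx] at this
      -- w⁻¹ = w → w² = 1
      have hw2 : (w : G) ^ 2 = 1 := by
        rw [pow_two]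
        calc (w : G) * (w : G) = (w : G) * (w : G)⁻¹ := by rw [this]
          _ = 1 := mul_inv_cancel _
      have := orderOf_dvd_of_pow_eq_one hw2
      rw [hwo] at this
      omega
    have hMtop : M ≠ ⊤ := by
      intro htop
      have hnorm : (zpowers (w : G)).Normal := normalizer_eq_top_iff.mp htop
      rcases hnorm.eq_bot_or_eq_top with hb | ht
      · have : (w : G) ∈ (⊥ : Subgroup G) := hb ▸ mem_zpowers _
        rw [mem_bot] at this
        rw [this, orderOf_one] at hwo
        omega
      · have : Nat.card (zpowers (w : G)) = 1080 := by rw [ht, Subgroup.card_top, hn]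
        rw [Nat.card_zpowers, hwo] at this
        omega
    have hlt : centralizer ({(w : G)} : Set G) < M := lt_of_le_of_ne hHM (by
      intro heq
      exact hxH (heq ▸ hxM))
    have hcardM : 2 * 90 ≤ Nat.card M := by
      have hdvd := card_dvd_of_le hHM
      rw [← hh, hh90] at hdvd
      obtain ⟨q, hq⟩ := hdvd
      have hq1 : q ≠ 1 := by
        intro h1
        rw [h1, mul_one] at hq
        have := Subgroup.eq_of_le_of_card_ge hHM (by rw [← hh, hh90, hq])
        exact hlt.ne this
      have hq0 : q ≠ 0 := by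
        intro h0
        rw [h0, mul_zero] at hq
        exact Nat.card_pos.ne' hq
      rw [hq]
      have : 2 ≤ q := by omega
      nlinarith
    have hMidx : M.index ≤ 6 := by
      have := M.card_mul_index
      rw [hn] at this
      by_contra hcon
      have : 7 ≤ M.index := by omega
      nlinarith
    have hfac := two_mul_card_dvd_factorial_index hnc M hMtop
    have hfd : (M.index).factorial ∣ (6 : ℕ).factorial := Nat.factorial_dvd_factorial hMidx
    have := dvd_trans hfac hfd
    rw [hn] at this
    revert this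
    decide
  · -- n_5 = 216
    rw [hd] at h7 hNd
    interval_cases r <;> omega

end Cfsg.Agent.Lib.H5.SmallOrd
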