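import Mathlib
import Cfsg.Agent.Lib.H5.Ord.NCInv

set_option autoImplicit false

/-! # Simple groups of order 1440 do not exist: the case of 36 Sylow 5-subgroups -/

namespace Cfsg.Agent.Lib.H5.Ord1440

open Subgroup MulAction Cfsg.Agent.Lib.H5 Cfsg.Agent.Lib.H5.SylPrime

variable {G : Type*} [Group G] [Finite G] [IsSimpleGroup G]

/-- Numerical data attached to an involution `y` of `C(P)`, `|P| = 5`, `|N(P)| = 40`. -/
theorem inv_data (hG : Nat.card G = 1440) [Fact (Nat.Prime 5)] (P : Sylow 5 G)
    (hP : Nat.card (P : Subgroup G) = 5)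
    (hNcard : Nat.card (normalizer ((P : Subgroup G) : Set G)) = 40)
    (hcomm : ∀ a ∈ centralizer ((P : Subgroup G) : Set G),
      ∀ b ∈ centralizer ((P : Subgroup G) : Set G), a * b = b * a)
    {y : G} (hyC : y ∈ centralizer ((P : Subgroup G) : Set G)) (hy : orderOf y = 2) :
    ∃ r : ℕ, r % 5 = 1 ∧
      Nat.card ↥(normalizer ((P : Subgroup G) : Set G) ⊓ centralizer ({y} : Set G)) * r ∣ 1440 ∧
      Nat.card ↥(normalizer ((P : Subgroup G) : Set G) ⊓ centralizer ({y} : Set G)) * r *
        ((A1 y (centralizer ((P : Subgroup G) : Set G))).ncard +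
          (A2 y (normalizer ((P : Subgroup G) : Set G))
            (centralizer ((P : Subgroup G) : Set G))).ncard) = 640 ∧
      Nat.card (centralizer ((P : Subgroup G) : Set G)) ∣
        Nat.card ↥(normalizer ((P : Subgroup G) : Set G) ⊓ centralizer ({y} : Set G)) ∧
      Nat.card ↥(normalizer ((P : Subgroup G) : Set G) ⊓ centralizer ({y} : Set G)) ∣ 40 := by
  set N := normalizer ((P : Subgroup G) : Set G) with hN
  set C := centralizer ((P : Subgroup G) : Set G) with hC
  set H := centralizer ({y} : Set G) with hH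
  have hCN : C ≤ N := centralizer_le_normalizer _
  have hNidx : N.index = 36 := by
    have := N.card_mul_index
    rw [hNcard, hG] at this
    omega
  have hNtop : N ≠ ⊤ := by
    intro h
    rw [h, Subgroup.index_top] at hNidx
    omega
  -- the number of fixed points
  have hfix : Nat.card (fixedBy (G ⧸ N) y) = 16 := by
    have h1 := card_fixedBy_modEq_one 5 P hP hyC
    have h2 := four_dvd_index_sub_card_fixedBy (by rw [hG]; norm_num) N hy
    have h3 := card_fixedBy_le_index N y
    have h4 : Nat.card (fixedBy (G ⧸ N) y) ≠ N.index := by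
      intro h
      have := eq_one_of_card_fixedBy_eq N hNtop h
      rw [this, orderOf_one] at hy
      omega
    rw [← hN] at h1
    rw [hNidx] at h2 h3 h4
    unfold Nat.ModEq at h1
    omega
  have hmul := card_fixedBy_mul_card N (hCN hyC)
  rw [hfix, hNcard, card_conj_mem_eq y hCN] at hmul
  have hCH : C ≤ H := le_centralizer_singleton_of_comm hcomm hyC
  have hPC : (P : Subgroup G) ≤ C := le_centralizer_of_card_prime _ hP
  have h5 := relIndex_normalizer_modEq_one' P (hPC.trans hCH)
  rw [← hN] at h5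
  have hinf := card_mul_relIndex_of_le (inf_le_right : N ⊓ H ≤ H)
  rw [inf_relIndex_right] at hinf
  refine ⟨N.relIndex H, ?_, ?_, ?_, ?_, ?_⟩
  · unfold Nat.ModEq at h5
    omega
  · rw [hinf, ← hG]
    exact Subgroup.card_subgroup_dvd_card H
  · rw [hinf, ← hmul]
  · exact Subgroup.card_dvd_of_le (le_inf hCN hCH)
  · rw [← hNcard]
    exact Subgroup.card_dvd_of_le inf_le_left

omit [Finite G] [IsSimpleGroup G] in
theorem eq_of_card_invSub_le_two [Finite G] {C : Subgroup G}
    {hcomm : ∀ a ∈ C, ∀ b ∈ C, a * b = b * a}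
    (hcard : Nat.card (invSub C hcomm) ≤ 2) {y c : G} (hy : y ∈ C) (hy2 : y * y = 1) (hy1 : y ≠ 1)
    (hc : c ∈ C) (hc2 : c * c = 1) : c = 1 ∨ c = y := by
  by_contra hne
  push Not at hne
  have hsub : ({1, y, c} : Set G) ⊆ ((invSub C hcomm : Subgroup G) : Set G) := by
    intro g hg
    rcases hg with rfl | rfl | rfl
    · exact one_mem _
    · exact ⟨hy, hy2⟩
    · exact ⟨hc, hc2⟩
  have h3 : ({1, y, c} : Set G).ncard = 3 := by
    rw [Set.ncard_eq_three]
    exact ⟨1, y, c, hy1.symm, hne.1.symm, fun h => hne.2 h.symm, rfl⟩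
  have := Set.ncard_le_ncard hsub (Set.toFinite _)
  rw [h3] at this
  have e : ((invSub C hcomm : Subgroup G) : Set G).ncard = Nat.card (invSub C hcomm) := by
    rw [← Nat.card_coe_set_eq]; rfl
  omega

theorem not_card_ten (hG : Nat.card G = 1440) [Fact (Nat.Prime 5)] (P : Sylow 5 G)
    (hP : Nat.card (P : Subgroup G) = 5)
    (hNcard : Nat.card (normalizer ((P : Subgroup G) : Set G)) = 40)
    (hCcard : Nat.card (centralizer ((P : Subgroup G) : Set G)) = 10) : False := by
  haveI : Fact (Nat.Prime 2) := ⟨Nat.prime_two⟩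
  have hcomm := centralizer_comm_of_card (p := 5) (q := 2) (j := 1) (P : Subgroup G) hP
    (by norm_num) (by norm_num) (by rw [hCcard]; norm_num)
  set N := normalizer ((P : Subgroup G) : Set G) with hN
  set C := centralizer ((P : Subgroup G) : Set G) with hC
  have hCN : C ≤ N := centralizer_le_normalizer _
  obtain ⟨y0, hy0⟩ := exists_prime_orderOf_dvd_card' (G := C) 2 (by rw [hCcard]; norm_num)
  have hyC : (y0 : G) ∈ C := y0.2
  have hy : orderOf (y0 : G) = 2 := by rw [Subgroup.orderOf_coe]; exact hy0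
  generalize (y0 : G) = y at hyC hy
  have hy2 : y * y = 1 := by rw [← pow_two, ← hy, pow_orderOf_eq_one]
  have hy1 : y ≠ 1 := by
    intro h
    rw [h, orderOf_one] at hy
    omega
  obtain ⟨j, hj1, hj2⟩ := card_invSub C hcomm
  have hj : j ≤ 1 := by
    by_contra h
    push Not at h
    have h4 : 2 ^ 2 ∣ 2 ^ j := pow_dvd_pow 2 h
    have := h4.trans hj2
    rw [hCcard] at this
    omega
  have hcard2 : Nat.card (invSub C hcomm) ≤ 2 := by
    rw [hj1]
    calc 2 ^ j ≤ 2 ^ 1 := Nat.pow_le_pow_right (by norm_num) hj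
      _ = 2 := by norm_num
  -- `N ≤ C_G(y)`
  have hNH : N ≤ centralizer ({y} : Set G) := by
    intro g hg
    rw [mem_centralizer_iff]
    intro m hm
    rw [Set.mem_singleton_iff] at hm
    subst hm
    have h1 : g * m * g⁻¹ ∈ C := conj_mem_centralizer_of_mem_normalizer _ hg hyC
    have h2 : (g * m * g⁻¹) * (g * m * g⁻¹) = 1 := by
      calc (g * m * g⁻¹) * (g * m * g⁻¹) = g * (m * m) * g⁻¹ := by group
        _ = 1 := by rw [hy2]; group
    rcases eq_of_card_invSub_le_two hcard2 hyC hy2 hy1 h1 h2 with h | h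
    · exfalso
      apply hy1
      have : m = g⁻¹ * (g * m * g⁻¹) * g := by group
      rw [this, h]
      group
    · calc m * g = (g * m * g⁻¹) * g := by rw [h]
        _ = g * m := by group
  obtain ⟨r, hr5, hdvd, hmul, -, -⟩ := inv_data hG P hP hNcard hcomm hyC hy
  rw [← hN] at hdvd
  rw [← hN, ← hC] at hmul
  rw [inf_eq_left.mpr hNH, hNcard] at hdvd hmul
  have ha := ncard_A1_add_one_le hy C hcomm
  have hb := ncard_A2_le_card (P : Subgroup G) hP hy
  rw [← hN, ← hC, hCcard] at hb
  set a := (A1 y C).ncard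
  set b := (A2 y N C).ncard
  have hr : r ∣ 16 := ⟨a + b, by nlinarith⟩
  have hr16 : r ≤ 16 := Nat.le_of_dvd (by norm_num) hr
  interval_cases r <;> omega

theorem not_card_twenty (hG : Nat.card G = 1440) [Fact (Nat.Prime 5)] (P : Sylow 5 G)
    (hP : Nat.card (P : Subgroup G) = 5)
    (hNcard : Nat.card (normalizer ((P : Subgroup G) : Set G)) = 40)
    (hCcard : Nat.card (centralizer ((P : Subgroup G) : Set G)) = 20) : False := by
  haveI : Fact (Nat.Prime 2) := ⟨Nat.prime_two⟩
  have hcomm := centralizer_comm_of_card (p := 5) (q := 2) (j := 2) (P : Subgroup G) hP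
    (by norm_num) (by norm_num) (by rw [hCcard]; norm_num)
  set N := normalizer ((P : Subgroup G) : Set G) with hN
  set C := centralizer ((P : Subgroup G) : Set G) with hC
  have hCN : C ≤ N := centralizer_le_normalizer _
  obtain ⟨j, hj1, hj2⟩ := card_invSub C hcomm
  have hj : j ≤ 2 := by
    by_contra h
    push Not at h
    have h4 : 2 ^ 3 ∣ 2 ^ j := pow_dvd_pow 2 h
    have := h4.trans hj2
    rw [hCcard] at this
    omega
  have hcard4 : Nat.card (invSub C hcomm) ≤ 4 := by
    rw [hj1]
    calc 2 ^ j ≤ 2 ^ 2 := Nat.pow_le_pow_right (by norm_num) hj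
      _ = 4 := by norm_num
  have key : ∀ y ∈ C, orderOf y = 2 → (A1 y C).ncard = 1 ∧ (A2 y N C).ncard = 15 := by
    intro y hyC hy
    obtain ⟨r, hr5, hdvd, hmul, h1, h2⟩ := inv_data hG P hP hNcard hcomm hyC hy
    rw [← hN] at hdvd h2
    rw [← hN, ← hC] at hmul h1
    rw [hCcard] at h1
    have ha := ncard_A1_add_one_le hy C hcomm
    have hb := ncard_A2_add_card_le y hCN
    rw [hNcard, hCcard] at hb
    have hb5 := dvd_ncard_A2 (P : Subgroup G) hP y
    rw [← hN, ← hC] at hb5
    set a := (A1 y C).ncard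
    set b := (A2 y N C).ncard
    set m := Nat.card ↥(N ⊓ centralizer ({y} : Set G))
    have hm : m = 20 ∨ m = 40 := by
      obtain ⟨c, hc⟩ := h1
      obtain ⟨d, hd⟩ := h2
      rw [hc] at hd
      have hc0 : 0 < c := Nat.pos_of_ne_zero (fun h => by rw [h] at hd; omega)
      have hd0 : 0 < d := Nat.pos_of_ne_zero (fun h => by rw [h] at hd; omega)
      have hc2 : c ≤ 2 := by nlinarith
      interval_cases c
      · left; omega
      · right; omega
    rcases hm with hm | hm
    · rw [hm] at hmul hdvd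
      have hr : r ∣ 32 := ⟨a + b, by nlinarith⟩
      have hr32 : r ≤ 32 := Nat.le_of_dvd (by norm_num) hr
      interval_cases r <;> omega
    · rw [hm] at hmul hdvd
      have hr : r ∣ 16 := ⟨a + b, by nlinarith⟩
      have hr16 : r ≤ 16 := Nat.le_of_dvd (by norm_num) hr
      interval_cases r <;> omega
  obtain ⟨y0, hy0⟩ := exists_prime_orderOf_dvd_card' (G := C) 2 (by rw [hCcard]; norm_num)
  have hyC : (y0 : G) ∈ C := y0.2
  have hy : orderOf (y0 : G) = 2 := by rw [Subgroup.orderOf_coe]; exact hy0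
  generalize (y0 : G) = y at hyC hy
  have hy2 : y * y = 1 := by rw [← pow_two, ← hy, pow_orderOf_eq_one]
  have hy1 : y ≠ 1 := by
    intro h
    rw [h, orderOf_one] at hy
    omega
  obtain ⟨ha, hb⟩ := key y hyC hy
  by_cases hj' : j ≤ 1
  · -- a unique involution in `C`
    have hcard2 : Nat.card (invSub C hcomm) ≤ 2 := by
      rw [hj1]
      calc 2 ^ j ≤ 2 ^ 1 := Nat.pow_le_pow_right (by norm_num) hj'
        _ = 2 := by norm_num
    have hinv := invert_of_mem_A2 (P : Subgroup G) hP hcomm hy
      (by rw [← hN, ← hC, hCcard, hb]; norm_num)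
    obtain ⟨Q₀, hQ₀⟩ := Sylow.exists_subgroup_card_pow_prime (G := C) 2 (n := 2)
      (by rw [hCcard]; norm_num)
    set Q : Subgroup G := Q₀.map C.subtype with hQ
    have hQcard : Nat.card Q = 4 := by
      rw [hQ, Subgroup.card_map_of_injective C.subtype_injective, hQ₀]
      norm_num
    have hQC : Q ≤ C := by
      rw [hQ]
      rintro _ ⟨c, -, rfl⟩
      exact c.2
    have hQ2 : IsPGroup 2 Q := IsPGroup.of_card (n := 2) (by rw [hQcard]; norm_num)
    obtain ⟨q, hqQ, hq2⟩ : ∃ q ∈ Q, q * q ≠ 1 := by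
      by_contra hall
      push Not at hall
      have hle : Q ≤ invSub C hcomm := fun q hq => ⟨hQC hq, hall q hq⟩
      have := Subgroup.card_le_of_le hle
      omega
    have := two_dvd_ncard_A2_of_invert (P : Subgroup G) hinv Q hQ2 hQC hqQ hq2
    rw [← hN, ← hC, hb] at this
    omega
  · -- at least two involutions in `C`
    have hj2' : j = 2 := by omega
    have hcard4' : Nat.card (invSub C hcomm) = 4 := by rw [hj1, hj2']; norm_num
    obtain ⟨y', hy'I, hy'1, hy'y⟩ : ∃ y' ∈ invSub C hcomm, y' ≠ 1 ∧ y' ≠ y := by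
      by_contra hall
      push Not at hall
      have hsub : ((invSub C hcomm : Subgroup G) : Set G) ⊆ ({1, y} : Set G) := by
        intro g hg
        by_cases h1 : g = 1
        · left; exact h1
        · right; exact hall g hg h1
      have := Set.ncard_le_ncard hsub (Set.toFinite _)
      have e : ((invSub C hcomm : Subgroup G) : Set G).ncard = Nat.card (invSub C hcomm) := by
        rw [← Nat.card_coe_set_eq]; rfl
      have h2 : ({1, y} : Set G).ncard ≤ 2 := Set.ncard_insert_le _ _ |>.trans (by simp)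
      omega
    have hy'C : y' ∈ C := hy'I.1
    have hy'2 : y' * y' = 1 := hy'I.2
    have hy' : orderOf y' = 2 := orderOf_eq_prime (by rw [pow_two]; exact hy'2) hy'1
    obtain ⟨ha', hb'⟩ := key y' hy'C hy'
    have hnc : ¬ IsConj y y' := by
      intro hconj
      obtain ⟨w, hw⟩ := Set.ncard_eq_one.mp ha
      have h1 : y ∈ A1 y C := ⟨IsConj.refl y, hyC⟩
      have h2 : y' ∈ A1 y C := ⟨hconj, hy'C⟩
      rw [hw, Set.mem_singleton_iff] at h1 h2
      exact hy'y (h2.trans h1.symm)
    have hdisj : Disjoint (A2 y N C) (A2 y' N C) := by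
      rw [Set.disjoint_left]
      rintro g ⟨h1, -, -⟩ ⟨h2, -, -⟩
      exact hnc (h1.trans h2.symm)
    have hdisj2 : Disjoint (A2 y N C ∪ A2 y' N C) (C : Set G) := by
      rw [Set.disjoint_left]
      rintro g (⟨-, -, h⟩ | ⟨-, -, h⟩) hgC
      · exact h hgC
      · exact h hgC
    have hsub : (A2 y N C ∪ A2 y' N C) ∪ (C : Set G) ⊆ (N : Set G) := by
      rintro g ((⟨-, h, -⟩ | ⟨-, h, -⟩) | h)
      · exact h
      · exact h
      · exact hCN h
    have := Set.ncard_le_ncard hsub (Set.toFinite _)
    rw [Set.ncard_union_eq hdisj2 (Set.toFinite _) (Set.toFinite _),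
      Set.ncard_union_eq hdisj (Set.toFinite _) (Set.toFinite _), hb, hb'] at this
    have e1 : ((C : Set G)).ncard = Nat.card C := by rw [← Nat.card_coe_set_eq]; rfl
    have e2 : ((N : Set G)).ncard = Nat.card N := by rw [← Nat.card_coe_set_eq]; rfl
    rw [e1, e2, hNcard, hCcard] at this
    omega

theorem not_thirtysix (hG : Nat.card G = 1440) [Fact (Nat.Prime 5)] :
    Nat.card (Sylow 5 G) ≠ 36 := by
  intro hn
  let P : Sylow 5 G := default
  obtain ⟨hPcard, hPidx⟩ := sylow_card_and_index P (k := 1) (m := 288) (by rw [hG]; norm_num)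
    (by norm_num)
  rw [pow_one] at hPcard
  set N := normalizer ((P : Subgroup G) : Set G) with hN
  set C := centralizer ((P : Subgroup G) : Set G) with hC
  have hNcard : Nat.card N = 40 := by
    have := card_normalizer_mul_card_sylow P
    rw [hn, hG, ← hN] at this
    omega
  have hCN : C ≤ N := centralizer_le_normalizer _
  have h4 : C.relIndex N ∣ 4 := relIndex_centralizer_normalizer_dvd_of_card_prime (P : Subgroup G) hPcard
  have h40 := card_mul_relIndex_of_le hCN
  rw [hNcard] at h40
  have hne1 : C.relIndex N ≠ 1 := by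
    intro h
    have hnp : ¬ IsPGroup 5 G := not_isPGroup_of_prime_dvd (q := 2) Nat.prime_two (by norm_num)
      (by rw [hG]; norm_num)
    exact not_normalizer_le_centralizer_of_simple (by rw [hG]; norm_num) hnp P (relIndex_eq_one.mp h)
  have hle : C.relIndex N ≤ 4 := Nat.le_of_dvd (by norm_num) h4
  have hpos : 0 < C.relIndex N := Nat.pos_of_ne_zero (fun h => by rw [h] at h40; omega)
  interval_cases hr : C.relIndex N
  · exact hne1 rfl
  · have h20 : Nat.card C = 20 := by omega
    exact not_card_twenty hG P hPcard hNcard h20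
  · omega
  · have h10 : Nat.card C = 10 := by omega
    exact not_card_ten hG P hPcard hNcard h10

end Cfsg.Agent.Lib.H5.Ord1440
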