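import Mathlib
import Cfsg.Agent.Lib.H5.Ord.InvData

set_option autoImplicit false

/-! # Simple groups of order 2016 do not exist: involutions of `C(P)`, `|P| = 7`, `n_7 = 36` -/

namespace Cfsg.Agent.Lib.H5.Ord2016

open Subgroup MulAction Cfsg.Agent.Lib.H5 Cfsg.Agent.Lib.H5.SylPrime

variable {G : Type*} [Group G] [Finite G] [IsSimpleGroup G]

/-- The two types of involutions of `C(P)`. -/
theorem inv_types (hG : Nat.card G = 2016) [Fact (Nat.Prime 7)] (P : Sylow 7 G)
    (hP : Nat.card (P : Subgroup G) = 7)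
    (hNcard : Nat.card (normalizer ((P : Subgroup G) : Set G)) = 56)
    (hCcard : Nat.card (centralizer ((P : Subgroup G) : Set G)) = 28)
    (hcomm : ∀ a ∈ centralizer ((P : Subgroup G) : Set G),
      ∀ b ∈ centralizer ((P : Subgroup G) : Set G), a * b = b * a)
    {y : G} (hyC : y ∈ centralizer ((P : Subgroup G) : Set G)) (hy : orderOf y = 2) :
    ((A1 y (centralizer ((P : Subgroup G) : Set G))).ncard = 1 ∧
      centralizer ({y} : Set G) = normalizer ((P : Subgroup G) : Set G)) ∨
    ((A1 y (centralizer ((P : Subgroup G) : Set G))).ncard = 2 ∧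
      normalizer ((P : Subgroup G) : Set G) ⊓ centralizer ({y} : Set G) =
        centralizer ((P : Subgroup G) : Set G)) := by
  haveI : Fact (Nat.Prime 2) := ⟨Nat.prime_two⟩
  set N := normalizer ((P : Subgroup G) : Set G) with hN
  set C := centralizer ((P : Subgroup G) : Set G) with hC
  set H := centralizer ({y} : Set G) with hH
  have hCN : C ≤ N := centralizer_le_normalizer _
  have hNidx : N.index = 36 := by
    have := N.card_mul_index
    rw [hNcard, hG] at this
    omega
  have hNtop : N ≠ ⊤ := by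
    intro h
    rw [h, Subgroup.index_top] at hNidx
    omega
  obtain ⟨f, r, hf7, hf4, hflt, hr7, hmr, hmul, h1, h2⟩ :=
    inv_data (by rw [hG]; norm_num) P hP hNtop hcomm hyC hy
  rw [← hN] at hf4 hflt hmr h2
  rw [← hN, ← hC] at hmul h1
  rw [← hH] at hmr hmul
  rw [hNidx] at hf4 hflt
  rw [hNcard] at hmul h2
  rw [hCcard] at h1
  have hf : f = 8 := by omega
  subst hf
  have hHdvd : Nat.card H ∣ 2016 := hG ▸ Subgroup.card_subgroup_dvd_card H
  have hCH : C ≤ H := le_centralizer_singleton_of_comm hcomm hyC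
  have ha := ncard_A1_add_one_le hy C hcomm
  obtain ⟨j, hj1, hj2⟩ := card_invSub C hcomm
  have hj : j ≤ 2 := by
    by_contra h
    push Not at h
    have h4 : 2 ^ 3 ∣ 2 ^ j := pow_dvd_pow 2 h
    have := h4.trans hj2
    rw [hCcard] at this
    omega
  have hcard4 : Nat.card (invSub C hcomm) ≤ 4 := by
    rw [hj1]
    calc 2 ^ j ≤ 2 ^ 2 := Nat.pow_le_pow_right (by norm_num) hj
      _ = 4 := by norm_num
  have hb := ncard_A2_add_card_le y hCN
  rw [hNcard, hCcard] at hb
  have hb7 := dvd_ncard_A2 (P : Subgroup G) hP y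
  rw [← hN, ← hC] at hb7
  have ha1 : 1 ≤ (A1 y C).ncard := by
    have hmem : y ∈ A1 y C := ⟨IsConj.refl y, hyC⟩
    have : 0 < (A1 y C).ncard := (Set.ncard_pos (Set.toFinite _)).mpr ⟨y, hmem⟩
    omega
  set a := (A1 y C).ncard
  set b := (A2 y N C).ncard
  set m := Nat.card ↥(N ⊓ H)
  have hm : m = 28 ∨ m = 56 := by
    obtain ⟨c, hc⟩ := h1
    obtain ⟨d, hd⟩ := h2
    rw [hc] at hd
    have hc0 : 0 < c := Nat.pos_of_ne_zero (fun h => by rw [h] at hd; omega)
    have hd0 : 0 < d := Nat.pos_of_ne_zero (fun h => by rw [h] at hd; omega)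
    have hc2 : c ≤ 2 := by nlinarith
    interval_cases c
    · left; omega
    · right; omega
  rw [← hmr] at hmul hHdvd
  rcases hm with hm | hm
  · right
    rw [hm] at hmul hHdvd
    have hr : r ∣ 16 := ⟨a + b, by nlinarith⟩
    have hr16 : r ≤ 16 := Nat.le_of_dvd (by norm_num) hr
    refine ⟨?_, ?_⟩
    · interval_cases r <;> omega
    · symm
      apply Subgroup.eq_of_le_of_card_ge (le_inf hCN hCH)
      rw [hCcard]
      exact hm.le
  · left
    rw [hm] at hmul hHdvd
    have hr : r ∣ 8 := ⟨a + b, by nlinarith⟩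
    have hr8 : r ≤ 8 := Nat.le_of_dvd (by norm_num) hr
    have hr1 : r = 1 ∧ a = 1 := by
      interval_cases r <;> omega
    refine ⟨hr1.2, ?_⟩
    have hNH : N ≤ H := by
      have : N ⊓ H = N := by
        apply Subgroup.eq_of_le_of_card_ge inf_le_left
        rw [hNcard]
        exact hm.ge
      exact inf_eq_left.mp this
    symm
    apply Subgroup.eq_of_le_of_card_ge hNH
    rw [hNcard, ← hmr, hm, hr1.1]

end Cfsg.Agent.Lib.H5.Ord2016
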