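import Mathlib
import Cfsg.Agent.Lib.H5.Ord.Ord2016a
import Cfsg.Agent.Lib.H5.Ord.SylChain

set_option autoImplicit false

/-! # Simple groups of order 2016 do not exist: the case of 36 Sylow 7-subgroups -/

namespace Cfsg.Agent.Lib.H5.Ord2016

open Subgroup MulAction Cfsg.Agent.Lib.H5 Cfsg.Agent.Lib.H5.SylPrime

variable {G : Type*} [Group G] [Finite G] [IsSimpleGroup G]

theorem not_thirtysix_aux (hG : Nat.card G = 2016) [Fact (Nat.Prime 7)] (P : Sylow 7 G)
    (hP : Nat.card (P : Subgroup G) = 7)
    (hNcard : Nat.card (normalizer ((P : Subgroup G) : Set G)) = 56)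
    (hCcard : Nat.card (centralizer ((P : Subgroup G) : Set G)) = 28) : False := by
  haveI : Fact (Nat.Prime 2) := ⟨Nat.prime_two⟩
  have hcomm := centralizer_comm_of_card (p := 7) (q := 2) (j := 2) (P : Subgroup G) hP
    (by norm_num) (by norm_num) (by rw [hCcard]; norm_num)
  have types := fun (y : G) hyC hy => inv_types hG P hP hNcard hCcard hcomm (y := y) hyC hy
  set N := normalizer ((P : Subgroup G) : Set G) with hN
  set C := centralizer ((P : Subgroup G) : Set G) with hC
  have hCN : C ≤ N := centralizer_le_normalizer _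
  have hScard : ∀ S : Sylow 2 G, Nat.card (S : Subgroup G) = 32 := fun S => by
    have := (sylow_card_and_index S (k := 5) (m := 63) (by rw [hG]; norm_num) (by norm_num)).1
    simpa using this
  -- a `2`-subgroup of `C` has order at most 4
  have h2C : ∀ R : Subgroup G, R ≤ C → IsPGroup 2 R → Nat.card R ≤ 4 := by
    intro R hRC hR
    obtain ⟨j, hj⟩ := IsPGroup.iff_card.mp hR
    have hdvd : 2 ^ j ∣ 28 := by
      rw [← hj, ← hCcard]
      exact Subgroup.card_dvd_of_le hRC
    have hj2 : j ≤ 2 := by
      by_contra h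
      push Not at h
      have h4 : 2 ^ 3 ∣ 2 ^ j := pow_dvd_pow 2 h
      have := h4.trans hdvd
      omega
    rw [hj]
    calc 2 ^ j ≤ 2 ^ 2 := Nat.pow_le_pow_right (by norm_num) hj2
      _ = 4 := by norm_num
  by_cases hall : ∀ y ∈ C, orderOf y = 2 → (A1 y C).ncard = 1
  · -- all involutions of `C` are isolated in `C`
    obtain ⟨Q₀, hQ₀⟩ := Sylow.exists_subgroup_card_pow_prime (G := C) 2 (n := 2)
      (by rw [hCcard]; norm_num)
    set Q : Subgroup G := Q₀.map C.subtype with hQ
    have hQcard : Nat.card Q = 4 := by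
      rw [hQ, Subgroup.card_map_of_injective C.subtype_injective, hQ₀]
      norm_num
    have hQC : Q ≤ C := by
      rw [hQ]
      rintro _ ⟨c, -, rfl⟩
      exact c.2
    have hQ2 : IsPGroup 2 Q := IsPGroup.of_card (n := 2) (by rw [hQcard]; norm_num)
    obtain ⟨T, S, hQT, hTN, hTS, hT2, hTcard, hSN⟩ := exists_sylow_chain N Q (hQC.trans hCN) hQ2
      (k := 3) (m := 7) (by rw [hNcard]; norm_num) (by norm_num)
    have hTne : T ≠ S := by
      intro h
      have := hScard S
      rw [← h, hTcard] at this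
      omega
    obtain ⟨s, hsS, hsT, hsn⟩ := exists_normalizing_not_mem (S : Subgroup G) S.2 T hTS hTne
    have hsN : s ∉ N := by
      intro h
      apply hsT
      rw [← hSN]
      exact ⟨hsS, h⟩
    let Q' : Subgroup G := Q.map (MulAut.conj s).toMonoidHom
    have hQ'card : Nat.card Q' = 4 := by
      rw [Subgroup.card_map_of_injective (MulAut.conj s).injective, hQcard]
    have hQ'T : Q' ≤ T := by
      rintro _ ⟨q, hq, rfl⟩
      exact hsn q (hQT hq)
    obtain ⟨u, huQ, huQ', hu1⟩ := exists_mem_inf_ne_one T Q Q' hQT hQ'T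
      (by rw [hTcard, hQcard, hQ'card]; norm_num)
    have hne : Q ⊓ Q' ≠ ⊥ := by
      intro h
      have : u ∈ Q ⊓ Q' := ⟨huQ, huQ'⟩
      rw [h] at this
      exact hu1 (mem_bot.mp this)
    obtain ⟨u', hu'mem, hu'2, -⟩ := exists_central_orderOf_eq (Q ⊓ Q') (hQ2.to_le inf_le_left) hne
    obtain ⟨v, hvQ, hv⟩ := hu'mem.2
    have hv' : s * v * s⁻¹ = u' := hv
    have hvC : v ∈ C := hQC hvQ
    have hu'C : u' ∈ C := hQC hu'mem.1
    have hv2 : orderOf v = 2 := by
      rw [← hu'2, ← hv']
      exact (orderOf_eq_of_isConj (isConj_iff.mpr ⟨s, rfl⟩))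
    have h1 := hall v hvC hv2
    obtain ⟨w, hw⟩ := Set.ncard_eq_one.mp h1
    have hvmem : v ∈ A1 v C := ⟨IsConj.refl v, hvC⟩
    have humem : u' ∈ A1 v C := ⟨isConj_iff.mpr ⟨s, hv'⟩, hu'C⟩
    rw [hw, Set.mem_singleton_iff] at hvmem humem
    have huv : u' = v := humem.trans hvmem.symm
    rcases types v hvC hv2 with ⟨-, hH⟩ | ⟨h2, -⟩
    · apply hsN
      rw [← hH, mem_centralizer_iff]
      intro m hm
      rw [Set.mem_singleton_iff] at hm
      subst hm
      rw [huv] at hv'
      calc m * s = (s * m * s⁻¹) * s := by rw [hv']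
        _ = s * m := by group
    · omega
  · -- some involution `y1` of `C` has a second conjugate `y2` in `C`
    push Not at hall
    obtain ⟨y1, hy1C, hy1, ha1⟩ := hall
    have ht1 : (A1 y1 C).ncard = 2 ∧ N ⊓ centralizer ({y1} : Set G) = C := by
      rcases types y1 hy1C hy1 with ⟨h, -⟩ | h
      · exact absurd h ha1
      · exact h
    have hy1mem : y1 ∈ A1 y1 C := ⟨IsConj.refl y1, hy1C⟩
    obtain ⟨y2, hy2mem, hy2ne⟩ : ∃ y2 ∈ A1 y1 C, y2 ≠ y1 := by
      by_contra h
      push Not at h
      have hsub : A1 y1 C ⊆ {y1} := fun g hg => h g hg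
      have := Set.ncard_le_ncard hsub (Set.toFinite _)
      rw [Set.ncard_singleton] at this
      omega
    have hy2C : y2 ∈ C := hy2mem.2
    have hconj12 : IsConj y1 y2 := hy2mem.1
    have hy2 : orderOf y2 = 2 := by rw [← orderOf_eq_of_isConj hconj12, hy1]
    have hA12 : A1 y2 C = A1 y1 C := by
      ext g
      constructor
      · rintro ⟨h1, h2⟩
        exact ⟨hconj12.trans h1, h2⟩
      · rintro ⟨h1, h2⟩
        exact ⟨hconj12.symm.trans h1, h2⟩
    have ht2 : N ⊓ centralizer ({y2} : Set G) = C := by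
      rcases types y2 hy2C hy2 with ⟨h, -⟩ | h
      · rw [hA12] at h
        omega
      · exact h.2
    have hy1sq : y1 * y1 = 1 := by rw [← pow_two, ← hy1, pow_orderOf_eq_one]
    have hy2sq : y2 * y2 = 1 := by rw [← pow_two, ← hy2, pow_orderOf_eq_one]
    have hy1ne : y1 ≠ 1 := by
      intro h
      rw [h, orderOf_one] at hy1
      omega
    have hy2ne1 : y2 ≠ 1 := by
      intro h
      rw [h, orderOf_one] at hy2
      omega
    set y3 := y1 * y2 with hy3def
    have hy3C : y3 ∈ C := C.mul_mem hy1C hy2C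
    have hy3sq : y3 * y3 = 1 := by
      calc y3 * y3 = y1 * (y2 * y1) * y2 := by rw [hy3def]; group
        _ = y1 * (y1 * y2) * y2 := by rw [hcomm y2 hy2C y1 hy1C]
        _ = (y1 * y1) * (y2 * y2) := by group
        _ = 1 := by rw [hy1sq, hy2sq, one_mul]
    have hy3ne : y3 ≠ 1 := by
      intro h
      apply hy2ne
      have : y2 = y1⁻¹ := eq_inv_of_mul_eq_one_right h
      rw [this]
      exact inv_eq_of_mul_eq_one_left hy1sq
    have hy3 : orderOf y3 = 2 := orderOf_eq_prime (by rw [pow_two]; exact hy3sq) hy3ne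
    have hy31 : y3 ≠ y1 := by
      intro h
      apply hy2ne1
      have : y1 * y2 = y1 * 1 := by rw [mul_one]; exact h
      exact mul_left_cancel this
    have hy32 : y3 ≠ y2 := by
      intro h
      apply hy1ne
      have : y1 * y2 = 1 * y2 := by rw [one_mul]; exact h
      exact mul_right_cancel this
    have hnc13 : ¬ IsConj y1 y3 := by
      intro hc
      have hsub : ({y1, y2, y3} : Set G) ⊆ A1 y1 C := by
        intro g hg
        rcases hg with rfl | rfl | rfl
        · exact hy1mem
        · exact hy2mem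
        · exact ⟨hc, hy3C⟩
      have h3 : ({y1, y2, y3} : Set G).ncard = 3 := by
        rw [Set.ncard_eq_three]
        exact ⟨y1, y2, y3, hy2ne.symm, hy31.symm, hy32.symm, rfl⟩
      have := Set.ncard_le_ncard hsub (Set.toFinite _)
      omega
    have ht3 : centralizer ({y3} : Set G) = N := by
      rcases types y3 hy3C hy3 with ⟨-, h⟩ | ⟨h, -⟩
      · exact h
      · exfalso
        have hdisj : Disjoint (A1 y1 C) (A1 y3 C) := by
          rw [Set.disjoint_left]
          rintro g ⟨h1, -⟩ ⟨h2, -⟩
          exact hnc13 (h1.trans h2.symm)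
        have h1not : (1 : G) ∉ A1 y1 C ∪ A1 y3 C := by
          rintro (h | h)
          · exact (orderOf_eq_two_of_isConj hy1 h.1).2 rfl
          · exact (orderOf_eq_two_of_isConj hy3 h.1).2 rfl
        have hsub : insert (1 : G) (A1 y1 C ∪ A1 y3 C) ⊆
            ((invSub C hcomm : Subgroup G) : Set G) := by
          intro g hg
          rcases hg with rfl | ⟨h1, h2⟩ | ⟨h1, h2⟩
          · exact one_mem _
          · exact ⟨h2, (orderOf_eq_two_of_isConj hy1 h1).1⟩
          · exact ⟨h2, (orderOf_eq_two_of_isConj hy3 h1).1⟩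
        have := Set.ncard_le_ncard hsub (Set.toFinite _)
        rw [Set.ncard_insert_of_notMem h1not (Set.toFinite _),
          Set.ncard_union_eq hdisj (Set.toFinite _) (Set.toFinite _), ht1.1, h] at this
        have e : ((invSub C hcomm : Subgroup G) : Set G).ncard = Nat.card (invSub C hcomm) := by
          rw [← Nat.card_coe_set_eq]; rfl
        have := h2C (invSub C hcomm) (invSub_le C hcomm) (invSub_isPGroup C hcomm)
        omega
    -- the Sylow chain above the involutions of `C`
    obtain ⟨T, S, hIT, hTN, hTS, hT2, hTcard, hSN⟩ := exists_sylow_chain N (invSub C hcomm)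
      ((invSub_le C hcomm).trans hCN) (invSub_isPGroup C hcomm)
      (k := 3) (m := 7) (by rw [hNcard]; norm_num) (by norm_num)
    have hSne : (S : Subgroup G) ≠ ⊥ := by
      intro h
      have := hScard S
      rw [h, Subgroup.card_bot] at this
      omega
    obtain ⟨z, hzS, hz2, hzc⟩ := exists_central_orderOf_eq (S : Subgroup G) S.2 hSne
    have hy1T : y1 ∈ T := hIT ⟨hy1C, hy1sq⟩
    have hy3T : y3 ∈ T := hIT ⟨hy3C, hy3sq⟩
    have hzN : z ∈ N := by
      rw [← ht3, mem_centralizer_iff]
      intro m hm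
      rw [Set.mem_singleton_iff] at hm
      subst hm
      exact (hzc _ (hTS hy3T)).symm
    have hzT : z ∈ T := by
      rw [← hSN]
      exact ⟨hzS, hzN⟩
    have hzC : z ∈ C := by
      rw [← ht1.2, Subgroup.mem_inf]
      refine ⟨hzN, ?_⟩
      rw [mem_centralizer_iff]
      intro m hm
      rw [Set.mem_singleton_iff] at hm
      subst hm
      exact (hzc _ (hTS hy1T)).symm
    -- an element of `T` outside `C`
    obtain ⟨g, hgT, hgC⟩ : ∃ g ∈ T, g ∉ C := by
      by_contra h
      push Not at h
      have := h2C T h hT2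
      rw [hTcard] at this
      omega
    rcases types z hzC hz2 with ⟨-, hH⟩ | ⟨-, hH⟩
    · have hSN' : (S : Subgroup G) ≤ N := by
        intro s hs
        rw [← hH, mem_centralizer_iff]
        intro m hm
        rw [Set.mem_singleton_iff] at hm
        subst hm
        exact hzc s hs
      have := Subgroup.card_dvd_of_le hSN'
      rw [hScard S, hNcard] at this
      omega
    · apply hgC
      rw [← hH, Subgroup.mem_inf]
      refine ⟨hTN hgT, ?_⟩
      rw [mem_centralizer_iff]
      intro m hm
      rw [Set.mem_singleton_iff] at hm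
      subst hm
      exact hzc g (hTS hgT)

end Cfsg.Agent.Lib.H5.Ord2016
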