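import Mathlib
import Cfsg.Agent.Lib.H5.Ord.Ord2016b

set_option autoImplicit false

/-! # Simple groups of order 2016 do not exist: the number of Sylow 7-subgroups -/

namespace Cfsg.Agent.Lib.H5.Ord2016

open Subgroup MulAction Cfsg.Agent.Lib.H5 Cfsg.Agent.Lib.H5.SylPrime

variable {G : Type*} [Group G] [Finite G] [IsSimpleGroup G]

theorem not_thirtysix (hG : Nat.card G = 2016) [Fact (Nat.Prime 7)] :
    Nat.card (Sylow 7 G) ≠ 36 := by
  intro hn
  let P : Sylow 7 G := default
  obtain ⟨hPcard, hPidx⟩ := sylow_card_and_index P (k := 1) (m := 288) (by rw [hG]; norm_num)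
    (by norm_num)
  rw [pow_one] at hPcard
  set N := normalizer ((P : Subgroup G) : Set G) with hN
  set C := centralizer ((P : Subgroup G) : Set G) with hC
  have hNcard : Nat.card N = 56 := by
    have := card_normalizer_mul_card_sylow P
    rw [hn, hG, ← hN] at this
    omega
  have hCN : C ≤ N := centralizer_le_normalizer _
  have h6 : C.relIndex N ∣ 6 :=
    relIndex_centralizer_normalizer_dvd_of_card_prime (P : Subgroup G) hPcard
  have h56 := card_mul_relIndex_of_le hCN
  rw [hNcard] at h56
  have hne1 : C.relIndex N ≠ 1 := by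
    intro h
    have hnp : ¬ IsPGroup 7 G := not_isPGroup_of_prime_dvd (q := 2) Nat.prime_two (by norm_num)
      (by rw [hG]; norm_num)
    exact not_normalizer_le_centralizer_of_simple (by rw [hG]; norm_num) hnp P
      (relIndex_eq_one.mp h)
  have hle : C.relIndex N ≤ 6 := Nat.le_of_dvd (by norm_num) h6
  have hpos : 0 < C.relIndex N := Nat.pos_of_ne_zero (fun h => by rw [h] at h56; omega)
  have h6' : 6 % C.relIndex N = 0 := Nat.mod_eq_zero_of_dvd h6
  interval_cases hr : C.relIndex N
  · exact hne1 rfl
  · have h28 : Nat.card C = 28 := by omega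
    exact not_thirtysix_aux hG P hPcard hNcard h28
  · omega
  · omega
  · omega
  · omega

theorem not_eight (hG : Nat.card G = 2016) [Fact (Nat.Prime 7)] :
    Nat.card (Sylow 7 G) ≠ 8 := by
  intro hn
  haveI : Fact (Nat.Prime 2) := ⟨Nat.prime_two⟩
  let P : Sylow 7 G := default
  obtain ⟨hPcard, hPidx⟩ := sylow_card_and_index P (k := 1) (m := 288) (by rw [hG]; norm_num)
    (by norm_num)
  rw [pow_one] at hPcard
  set N := normalizer ((P : Subgroup G) : Set G) with hN
  set C := centralizer ((P : Subgroup G) : Set G) with hC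
  have hNidx : N.index = 8 := by rw [hN, index_normalizer_eq_card_sylow, hn]
  have hNcard : Nat.card N = 252 := by
    have := card_normalizer_mul_card_sylow P
    rw [hn, hG, ← hN] at this
    omega
  have hNtop : N ≠ ⊤ := by
    intro h
    rw [h, Subgroup.index_top] at hNidx
    omega
  have hCN : C ≤ N := centralizer_le_normalizer _
  have h6 : C.relIndex N ∣ 6 :=
    relIndex_centralizer_normalizer_dvd_of_card_prime (P : Subgroup G) hPcard
  have h252 := card_mul_relIndex_of_le hCN
  rw [hNcard] at h252
  have h2 : 2 ∣ Nat.card C := by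
    have hle : C.relIndex N ≤ 6 := Nat.le_of_dvd (by norm_num) h6
    have hpos : 0 < C.relIndex N := Nat.pos_of_ne_zero (fun h => by rw [h] at h252; omega)
    interval_cases hr : C.relIndex N <;> omega
  obtain ⟨y0, hy0⟩ := exists_prime_orderOf_dvd_card' (G := C) 2 h2
  have hyC : (y0 : G) ∈ C := y0.2
  have hy : orderOf (y0 : G) = 2 := by rw [Subgroup.orderOf_coe]; exact hy0
  generalize (y0 : G) = y at hyC hy
  have h1 := card_fixedBy_modEq_one 7 P hPcard hyC
  have h2 := four_dvd_index_sub_card_fixedBy (by rw [hG]; norm_num) N hy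
  have h3 := card_fixedBy_le_index N y
  have h4 : Nat.card (fixedBy (G ⧸ N) y) ≠ N.index := by
    intro h
    have := eq_one_of_card_fixedBy_eq N hNtop h
    rw [this, orderOf_one] at hy
    omega
  rw [← hN] at h1
  rw [hNidx] at h2 h3 h4
  unfold Nat.ModEq at h1
  omega

end Cfsg.Agent.Lib.H5.Ord2016
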