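import Mathlib
import Cfsg.Agent.Lib.H5.Ord.Ord4080b
import Cfsg.Agent.Lib.H5.Ord.Ord1080

set_option autoImplicit false

/-! # Simple groups of order 4080, part 3: the Sylow 3-subgroups -/

namespace Cfsg.Agent.Lib.H5.Ord4080

open Subgroup MulAction Cfsg.Agent.Lib.H5 Cfsg.Agent.Lib.H5.SylPrime Cfsg.Agent.Lib.H5.GenTests
  Cfsg.Agent.Lib.H5.SmallOrd

variable {G : Type*} [Group G] [Finite G] [IsSimpleGroup G]

/-- The Sylow 3-subgroups have order `3` and there are `136` of them. -/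
theorem sylow3_data (hn : Nat.card G = 4080) [Fact (Nat.Prime 3)] (Q : Sylow 3 G) :
    Nat.card (Q : Subgroup G) = 3 ∧ Nat.card (Sylow 3 G) = 136 := by
  have hnc := not_comm hn
  have : Fact (Nat.Prime 5) := ⟨by norm_num⟩
  have hQ3 : Nat.card (Q : Subgroup G) = 3 :=
    (prime_data_explicit hnc hn (p := 3) (m := 1360) (by norm_num) (by norm_num)
      (by norm_num) Q).2.2.2.2.2.2.2.2.1
  refine ⟨hQ3, ?_⟩
  let P : Sylow 5 G := default
  obtain ⟨hP, hNc, hCc, hn5⟩ := sylow5_data hn P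
  set N := normalizer ((P : Subgroup G) : Set G) with hN
  set C := centralizer ((P : Subgroup G) : Set G) with hC
  have hCN : C ≤ N := centralizer_le_normalizer _
  have hcomm : ∀ a ∈ C, ∀ b ∈ C, a * b = b * a :=
    centralizer_comm_of_card (p := 5) (q := 3) (j := 1) (P : Subgroup G) hP (by norm_num)
      (by norm_num) (by rw [← hC, hCc]; norm_num)
  obtain ⟨w0, hw0⟩ := exists_prime_orderOf_dvd_card' (G := C) 3 (by rw [hCc]; norm_num)
  have hwC : (w0 : G) ∈ C := w0.2
  have hwo : orderOf (w0 : G) = 3 := by rw [Subgroup.orderOf_coe]; exact hw0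
  generalize (w0 : G) = w at hwC hwo
  have hw3 : w ^ 3 = 1 := by rw [← hwo]; exact pow_orderOf_eq_one w
  -- `N ≤ N_G(⟨w⟩)`
  have hconj : ∀ g ∈ N, g * w * g⁻¹ ∈ zpowers w := by
    intro g hg
    have h1 : g * w * g⁻¹ ∈ C := conj_mem_centralizer_of_mem_normalizer (P : Subgroup G) hg hwC
    have h2 : (g * w * g⁻¹) ^ 3 = 1 := by
      rw [conj_pow, hw3, mul_one, mul_inv_cancel]
    exact mem_zpowers_of_pow_three hcomm (m := 5) (by rw [hCc]) (by norm_num) hwC hwo h1 h2
  set M := normalizer ((zpowers w : Subgroup G) : Set G) with hM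
  have hNM : N ≤ M := by
    intro g hg
    apply mem_normalizer_zpowers_of_conj (hconj g hg)
    have := hconj g⁻¹ (N.inv_mem hg)
    rwa [inv_inv] at this
  have hPC : (P : Subgroup G) ≤ C := le_centralizer_of_card_prime _ hP
  have hk5 := relIndex_normalizer_modEq_one' P (hPC.trans (hCN.trans hNM))
  rw [← hN] at hk5
  have hk := card_mul_relIndex_of_le hNM
  rw [hNc] at hk
  -- `⟨w⟩` is a Sylow 3-subgroup
  have hzc : Nat.card (zpowers w) = 3 := by rw [Nat.card_zpowers, hwo]
  have hp3 : IsPGroup 3 (zpowers w) := IsPGroup.of_card (n := 1) (by rw [hzc]; norm_num)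
  obtain ⟨Q0, hQ0⟩ := hp3.exists_le_sylow
  obtain ⟨h1, h2, h3, -, -, -, -, -, hQ0c, hNd, -⟩ :=
    prime_data_explicit hnc hn (p := 3) (m := 1360) (by norm_num) (by norm_num) (by norm_num) Q0
  have hQ0eq : (Q0 : Subgroup G) = zpowers w :=
    (Subgroup.eq_of_le_of_card_ge hQ0 (by rw [hQ0c, hzc])).symm
  rw [hQ0eq, ← hM] at hNd
  set k := N.relIndex M with hkdef
  set n3 := Nat.card (Sylow 3 G) with hn3
  have hkn : k * n3 = 136 := by
    have : 30 * (k * n3) = 30 * 136 := by rw [← mul_assoc, hk, hNd]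
    omega
  have hkd : k ∣ 136 := Dvd.intro _ hkn
  have hmem : k ∈ (Nat.divisors 136).filter (fun d => d % 5 = 1) := by
    rw [Finset.mem_filter, Nat.mem_divisors]
    exact ⟨⟨hkd, by norm_num⟩, hk5⟩
  have hfil : (Nat.divisors 136).filter (fun d => d % 5 = 1) = {1, 136} := by decide
  rw [hfil] at hmem
  simp only [Finset.mem_insert, Finset.mem_singleton] at hmem
  rcases hmem with h | h
  · rw [h] at hkn; omega
  · rw [h] at hkn
    exfalso
    apply h3
    omega

end Cfsg.Agent.Lib.H5.Ord4080
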