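import Mathlib
import Cfsg.Agent.Lib.H5.Ord.GenTests3
import Cfsg.Agent.Lib.H5.Ord.InvSelf
import Cfsg.Agent.Lib.H5.Ord.InvData

set_option autoImplicit false

/-! # No simple group of order 720, part 1: the Sylow 5-subgroups -/

namespace Cfsg.Agent.Lib.H5.Ord720

open Subgroup MulAction Cfsg.Agent.Lib.H5 Cfsg.Agent.Lib.H5.SylPrime Cfsg.Agent.Lib.H5.GenTests

variable {G : Type*} [Group G] [Finite G] [IsSimpleGroup G]

theorem not_comm (hn : Nat.card G = 720) : ¬ IsMulCommutative G :=
  not_isMulCommutative_of_card_not_prime (by rw [hn]; norm_num)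

theorem six_le_index (hn : Nat.card G = 720) {H : Subgroup G} (hH : H ≠ ⊤) : 6 ≤ H.index := by
  by_contra hlt
  have h5 : H.index ≤ 5 := by omega
  have h1 := two_mul_card_dvd_factorial_index (not_comm hn) H hH
  have h2 : (H.index).factorial ∣ (5 : ℕ).factorial := Nat.factorial_dvd_factorial h5
  have := h1.trans h2
  rw [hn] at this
  revert this
  decide

theorem eq_top_of_card (hn : Nat.card G = 720) {H : Subgroup G} (hH : 720 < 6 * Nat.card H) :
    H = ⊤ := by
  by_contra hne
  have h6 := six_le_index hn hne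
  have := H.card_mul_index
  rw [hn] at this
  nlinarith

/-- The Sylow 5-subgroups: `|N(P)| = 20`, `C(P) = P`, `n_5 = 36`. -/
theorem sylow5_data (hn : Nat.card G = 720) [Fact (Nat.Prime 5)] (P : Sylow 5 G) :
    Nat.card (P : Subgroup G) = 5 ∧ Nat.card (normalizer ((P : Subgroup G) : Set G)) = 20 ∧
      Nat.card (centralizer ((P : Subgroup G) : Set G)) = 5 ∧ Nat.card (Sylow 5 G) = 36 := by
  have hnc := not_comm hn
  have hG2 : 2 < Nat.card G := by rw [hn]; norm_num
  haveI : Fact (Nat.Prime 2) := ⟨Nat.prime_two⟩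
  obtain ⟨h1, h2, h3, h4, h5, h6, h7, h8, hP, hNd, hNtop, -, hcr, -⟩ :=
    prime_data_explicit hnc hn (p := 5) (m := 144) (by norm_num) (by norm_num) (by norm_num) P
  have hmem : Nat.card (Sylow 5 G) ∈ (Nat.divisors 144).filter (fun d => d % 5 = 1) := by
    rw [Finset.mem_filter, Nat.mem_divisors]
    exact ⟨⟨h1, by norm_num⟩, h2⟩
  have hfil : (Nat.divisors 144).filter (fun d => d % 5 = 1) = {1, 6, 16, 36} := by decide
  rw [hfil] at hmem
  simp only [Finset.mem_insert, Finset.mem_singleton] at hmem
  set N := normalizer ((P : Subgroup G) : Set G) with hN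
  set C := centralizer ((P : Subgroup G) : Set G) with hC
  have hidx : N.index = Nat.card (Sylow 5 G) := index_normalizer_eq_card_sylow P
  set r := C.relIndex N with hr
  set c := Nat.card C with hc
  have hr4 : r ≤ 4 := Nat.le_of_dvd (by norm_num) h5
  rcases hmem with hd | hd | hd | hd
  · exact absurd hd h3
  · exfalso
    rw [hd] at h4
    revert h4
    decide
  · exfalso
    rw [hd] at h7
    interval_cases r <;> omega
  · rw [hd] at h7 hNd hidx
    have hNc : Nat.card N = 20 := by omega
    have hr24 : r = 2 ∨ r = 4 := by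
      interval_cases r <;> omega
    rcases hr24 with hr2 | hr4'
    · exfalso
      have hc10 : c = 10 := by rw [hr2] at h7; omega
      have hCN : C ≤ N := centralizer_le_normalizer _
      have hcomm := centralizer_comm_of_card (P : Subgroup G) hP (q := 2) (j := 1) (by norm_num)
        (by norm_num) (by rw [← hC, ← hc, hc10]; norm_num)
      obtain ⟨y, hy⟩ := exists_prime_orderOf_dvd_card' (G := C) 2 (by rw [← hc, hc10]; norm_num)
      have hyC : (y : G) ∈ C := y.2
      have hyo : orderOf (y : G) = 2 := by rw [Subgroup.orderOf_coe]; exact hy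
      obtain ⟨f, r', hf5, hf4, hflt, -, -, hmul, -, -⟩ :=
        inv_data hG2 P hP hNtop hcomm hyC hyo
      rw [← hN] at hf4 hflt
      rw [← hN, ← hC] at hmul
      rw [hidx] at hf4 hflt
      rw [hNc] at hmul
      have hf : f = 16 := by omega
      subst hf
      set H := centralizer ({(y : G)} : Set G) with hH
      have hHdvd : Nat.card H ∣ 720 := hn ▸ Subgroup.card_subgroup_dvd_card H
      have ha := ncard_A1_add_one_le hyo C hcomm
      obtain ⟨j, hj1, hj2⟩ := card_invSub C hcomm
      have hj : j ≤ 1 := by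
        by_contra h
        push Not at h
        have h4 : 2 ^ 2 ∣ 2 ^ j := pow_dvd_pow 2 h
        have := h4.trans hj2
        rw [← hc, hc10] at this
        omega
      have hcard2 : Nat.card (invSub C hcomm) ≤ 2 := by
        rw [hj1]
        calc 2 ^ j ≤ 2 ^ 1 := Nat.pow_le_pow_right (by norm_num) hj
          _ = 2 := by norm_num
      have hb := ncard_A2_add_card_le (y : G) hCN
      rw [hNc, ← hc, hc10] at hb
      have hb5 := dvd_ncard_A2 (P : Subgroup G) hP (y : G)
      rw [← hN, ← hC] at hb5
      set a := (A1 (y : G) C).ncard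
      set b := (A2 (y : G) N C).ncard
      set h := Nat.card H
      have ha1 : a ≤ 1 := by omega
      have hb10 : b ≤ 10 := by omega
      obtain ⟨b', hb'⟩ := hb5
      have hb'2 : b' ≤ 2 := by omega
      have h80 : h ∣ 80 := by
        have h320 : h ∣ 320 := Dvd.intro _ hmul
        have := Nat.dvd_gcd h320 hHdvd
        have hg : Nat.gcd 320 720 = 80 := by decide
        rwa [hg] at this
      have hle : h ≤ 80 := Nat.le_of_dvd (by norm_num) h80
      rw [hb'] at hmul
      interval_cases a <;> interval_cases b'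
      · omega
      · have : h = 64 := by omega
        rw [this] at hHdvd; omega
      · have : h = 32 := by omega
        rw [this] at hHdvd; omega
      · omega
      · omega
      · omega
    · have hc5 : c = 5 := by rw [hr4'] at h7; omega
      exact ⟨hP, hNc, hc5, hd⟩

/-- An involution `t` which is a square and has a centralizer of order `16`. -/
theorem exists_tu (hn : Nat.card G = 720) :
    ∃ t u : G, u * u = t ∧ orderOf t = 2 ∧ Nat.card (centralizer ({t} : Set G)) = 16 := by
  haveI : Fact (Nat.Prime 5) := ⟨by norm_num⟩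
  haveI : Fact (Nat.Prime 2) := ⟨Nat.prime_two⟩
  have hG2 : 2 < Nat.card G := by rw [hn]; norm_num
  let P : Sylow 5 G := default
  obtain ⟨hP, hNc, hCc, hS⟩ := sylow5_data hn P
  have hCeq : centralizer ((P : Subgroup G) : Set G) = (P : Subgroup G) :=
    centralizer_eq_of_card (P : Subgroup G) hP hCc
  set N := normalizer ((P : Subgroup G) : Set G) with hN
  -- a subgroup of order 4 of N
  obtain ⟨K, hK⟩ := Sylow.exists_subgroup_card_pow_prime (G := N) 2 (n := 2)
    (by rw [hNc]; norm_num)
  have hK4 : Nat.card K = 4 := by rw [hK]; norm_num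
  -- an element of order 4
  have hex : ∃ k : N, k ∈ K ∧ orderOf k = 4 := by
    by_contra hcon
    push Not at hcon
    have hsq : ∀ k : N, k ∈ K → k * k = 1 := by
      intro k hk
      have hdvd : orderOf k ∣ 4 := by
        have := orderOf_dvd_natCard (⟨k, hk⟩ : K)
        rwa [hK4, Subgroup.orderOf_mk] at this
      have hne := hcon k hk
      have hmem : orderOf k ∈ Nat.divisors 4 := by simp [hdvd]
      have hd : Nat.divisors 4 = {1, 2, 4} := by decide
      rw [hd] at hmem
      simp only [Finset.mem_insert, Finset.mem_singleton] at hmem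
      rcases hmem with h1 | h2 | h4
      · rw [orderOf_eq_one_iff.mp h1, one_mul]
      · rw [← pow_two, ← h2, pow_orderOf_eq_one]
      · exact absurd h4 hne
    -- two distinct non-identity elements
    have hKnt : Nontrivial K := by
      rw [← Finite.one_lt_card_iff_nontrivial, hK4]; norm_num
    obtain ⟨k₁, hk₁⟩ := exists_ne (1 : K)
    have hex2 : ∃ k₂ : K, k₂ ≠ 1 ∧ k₂ ≠ k₁ := by
      by_contra hcon2
      push Not at hcon2
      have hsub : (Set.univ : Set K) ⊆ {1, k₁} := by
        intro k _
        by_cases h1 : k = 1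
        · rw [h1]; exact Set.mem_insert _ _
        · rw [hcon2 k h1]; exact Set.mem_insert_of_mem _ rfl
      have h2 := Set.ncard_le_ncard hsub (Set.toFinite _)
      rw [Set.ncard_univ, hK4] at h2
      have h3 : ({1, k₁} : Set K).ncard ≤ 2 := by
        calc _ ≤ ({k₁} : Set K).ncard + 1 := Set.ncard_insert_le _ _
          _ = 2 := by rw [Set.ncard_singleton]
      omega
    obtain ⟨k₂, hk₂1, hk₂ne⟩ := hex2
    -- both invert P
    have hinv : ∀ k : K, k ≠ 1 → ∀ x ∈ (P : Subgroup G), ((k : N) : G) * x * ((k : N) : G)⁻¹ = x⁻¹ := by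
      intro k hk1
      have hkk : ((k : N) : G) * ((k : N) : G) = 1 := by
        have := hsq (k : N) k.2
        have h2 := congrArg (Subtype.val : N → G) this
        simpa using h2
      have hko : orderOf ((k : N) : G) = 2 := by
        apply orderOf_eq_prime
        · rw [pow_two]; exact hkk
        · intro h1
          apply hk1
          apply Subtype.ext
          apply Subtype.ext
          simpa using h1
      apply conj_eq_inv_of_not_mem_centralizer (P : Subgroup G) hP (k : N).2
      · rw [hkk]; exact one_mem _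
      · rw [hCeq]
        exact inv_not_mem_of_odd (by norm_num) (P : Subgroup G) hP hko
    have h1 := hinv k₁ hk₁
    have h2 := hinv k₂ hk₂1
    set g₁ : G := ((k₁ : N) : G) with hg₁
    set g₂ : G := ((k₂ : N) : G) with hg₂
    have hprod : g₁ * g₂ ∈ centralizer ((P : Subgroup G) : Set G) := by
      rw [mem_centralizer_iff]
      intro x hx
      have e2 := h2 x hx
      have e1 := h1 x⁻¹ (inv_mem hx)
      rw [inv_inv] at e1
      -- (g₁ g₂) x (g₁ g₂)⁻¹ = x
      have : g₁ * g₂ * x * (g₁ * g₂)⁻¹ = x := by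
        calc g₁ * g₂ * x * (g₁ * g₂)⁻¹ = g₁ * (g₂ * x * g₂⁻¹) * g₁⁻¹ := by group
          _ = x := by rw [e2, e1]
      calc x * (g₁ * g₂) = (g₁ * g₂ * x * (g₁ * g₂)⁻¹) * (g₁ * g₂) := by rw [this]
        _ = g₁ * g₂ * x := by group
    rw [hCeq] at hprod
    have hp5 : (g₁ * g₂) ^ 5 = 1 := by
      have := orderOf_dvd_natCard (⟨g₁ * g₂, hprod⟩ : (P : Subgroup G))
      rw [hP, Subgroup.orderOf_mk] at this
      exact orderOf_dvd_iff_pow_eq_one.mp this
    have hp4 : (g₁ * g₂) ^ 4 = 1 := by
      have hmem : (k₁ * k₂ : K) = k₁ * k₂ := rfl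
      have := orderOf_dvd_natCard (k₁ * k₂ : K)
      rw [hK4] at this
      have h4 : (k₁ * k₂ : K) ^ 4 = 1 := orderOf_dvd_iff_pow_eq_one.mp this
      have h5 := congrArg (fun z : K => ((z : N) : G)) h4
      simpa using h5
    have hone : g₁ * g₂ = 1 := by
      calc g₁ * g₂ = (g₁ * g₂) ^ 5 * ((g₁ * g₂) ^ 4)⁻¹ := by group
        _ = 1 := by rw [hp5, hp4, inv_one, mul_one]
    have hg1g1 : g₁ * g₁ = 1 := by
      have := hsq (k₁ : N) k₁.2
      have h2 := congrArg (Subtype.val : N → G) this
      simpa using h2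
    have : g₂ = g₁ := by
      calc g₂ = (g₁ * g₁) * g₂ := by rw [hg1g1, one_mul]
        _ = g₁ * (g₁ * g₂) := by group
        _ = g₁ := by rw [hone, mul_one]
    apply hk₂ne
    apply Subtype.ext
    apply Subtype.ext
    exact this
  obtain ⟨k, hkK, hko⟩ := hex
  set u : G := (k : G) with hu
  have huo : orderOf u = 4 := by rw [hu, Subgroup.orderOf_coe]; exact hko
  have huN : u ∈ N := k.2
  have hto : orderOf (u * u) = 2 := by
    rw [← pow_two, orderOf_pow, huo]
    norm_num
  have htN : u * u ∈ N := N.mul_mem huN huN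
  obtain ⟨hf1, hf5, hf4, hmul⟩ := inv_selfcentralizing hG2 5 (by norm_num) P hP hCeq htN hto
  rw [← hN] at hf1 hf5 hf4 hmul
  have hidx : N.index = 36 := by
    rw [hN, ← hS]; exact index_normalizer_eq_card_sylow P
  rw [hidx] at hf5 hf4
  rw [hNc] at hmul
  have hdvd : Nat.card (centralizer ({u * u} : Set G)) ∣ 720 :=
    hn ▸ Subgroup.card_subgroup_dvd_card _
  refine ⟨u * u, u, rfl, hto, ?_⟩
  set f := Nat.card (fixedBy (G ⧸ N) (u * u))
  set h := Nat.card (centralizer ({u * u} : Set G))
  have hf48 : f = 4 ∨ f = 8 := by omega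
  rcases hf48 with h4 | h8
  · rw [h4] at hmul; omega
  · exfalso
    rw [h8] at hmul
    have : h = 32 := by omega
    rw [this] at hdvd
    omega

/-- Elements of order `5` are self-centralizing. -/
theorem card_centralizer_five (hn : Nat.card G = 720) {z : G} (hz : orderOf z = 5) :
    Nat.card (centralizer ({z} : Set G)) = 5 := by
  haveI : Fact (Nat.Prime 5) := ⟨by norm_num⟩
  have hzc : Nat.card (zpowers z) = 5 := by rw [Nat.card_zpowers, hz]
  have hp : IsPGroup 5 (zpowers z) := IsPGroup.of_card (n := 1) (by rw [hzc]; norm_num)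
  obtain ⟨P, hzP⟩ := hp.exists_le_sylow
  obtain ⟨hP, -, hCc, -⟩ := sylow5_data hn P
  have hPz : (P : Subgroup G) = zpowers z :=
    (Subgroup.eq_of_le_of_card_ge hzP (by rw [hP, hzc])).symm
  have : centralizer ({z} : Set G) = centralizer ((P : Subgroup G) : Set G) := by
    rw [hPz, zpowers_eq_closure, centralizer_closure]
  rw [this, hCc]

end Cfsg.Agent.Lib.H5.Ord720
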