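import Mathlib
import Cfsg.Agent.Lib.H5.Ord.Ord720a

set_option autoImplicit false

/-! # No simple group of order 720, part 2: basic facts on the Sylow 2- and 3-subgroups -/

namespace Cfsg.Agent.Lib.H5.Ord720

open Subgroup MulAction Cfsg.Agent.Lib.H5 Cfsg.Agent.Lib.H5.SylPrime

variable {G : Type*} [Group G] [Finite G] [IsSimpleGroup G]

theorem card_sylow3_subgroup (hn : Nat.card G = 720) [Fact (Nat.Prime 3)] (P : Sylow 3 G) :
    Nat.card (P : Subgroup G) = 9 ∧ (P : Subgroup G).index = 80 := by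
  have := sylow_card_and_index P (k := 2) (m := 80) (by rw [hn]; norm_num) (by norm_num)
  simpa using this

theorem card_sylow2_subgroup (hn : Nat.card G = 720) [Fact (Nat.Prime 2)] (S : Sylow 2 G) :
    Nat.card (S : Subgroup G) = 16 ∧ (S : Subgroup G).index = 45 := by
  have := sylow_card_and_index S (k := 4) (m := 45) (by rw [hn]; norm_num) (by norm_num)
  simpa using this

theorem sylow3_comm (hn : Nat.card G = 720) [Fact (Nat.Prime 3)] (P : Sylow 3 G) {a b : G}
    (ha : a ∈ P) (hb : b ∈ P) : a * b = b * a := by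
  have hc : Nat.card (P : Subgroup G) = 3 ^ 2 := by rw [(card_sylow3_subgroup hn P).1]; norm_num
  have hcm : IsMulCommutative (P : Subgroup G) := IsPGroup.isMulCommutative_of_card_eq_prime_sq hc
  have := hcm.is_comm.comm (⟨a, ha⟩ : (P : Subgroup G)) ⟨b, hb⟩
  exact congrArg Subtype.val this

/-- The normalizer of a subgroup of order `5` has order `20`. -/
theorem card_normalizer_five (hn : Nat.card G = 720) {Z : Subgroup G} (hZ : Nat.card Z = 5) :
    Nat.card (normalizer (Z : Set G)) = 20 := by
  have : Fact (Nat.Prime 5) := ⟨by norm_num⟩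
  have hp : IsPGroup 5 Z := IsPGroup.of_card (n := 1) (by rw [hZ]; norm_num)
  obtain ⟨P, hZP⟩ := hp.exists_le_sylow
  obtain ⟨hP, hN, -, -⟩ := sylow5_data hn P
  have hPZ : (P : Subgroup G) = Z := (Subgroup.eq_of_le_of_card_ge hZP (by rw [hP, hZ])).symm
  rw [← hPZ, hN]

/-- The number of Sylow 3-subgroups is `10` or `40`. -/
theorem card_sylow3 (hn : Nat.card G = 720) [Fact (Nat.Prime 3)] :
    Nat.card (Sylow 3 G) = 10 ∨ Nat.card (Sylow 3 G) = 40 := by
  have : Fact (Nat.Prime 5) := ⟨by norm_num⟩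
  obtain ⟨P⟩ : Nonempty (Sylow 3 G) := inferInstance
  obtain ⟨hPc, hPi⟩ := card_sylow3_subgroup hn P
  have hmem := card_sylow_mem_filter_divisors P (by norm_num : (80 : ℕ) ≠ 0) hPi
  have hfil : (Nat.divisors 80).filter (fun d => d % 3 = 1) = {1, 4, 10, 16, 40} := by decide
  rw [hfil] at hmem
  simp only [Finset.mem_insert, Finset.mem_singleton] at hmem
  set N := normalizer ((P : Subgroup G) : Set G) with hN
  have hNmul := card_normalizer_mul_card_sylow P
  rw [hn, ← hN] at hNmul
  have hidx : N.index = Nat.card (Sylow 3 G) := index_normalizer_eq_card_sylow P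
  have hNtop : N ≠ ⊤ := by
    intro htop
    have hnorm : (P : Subgroup G).Normal := normalizer_eq_top_iff.mp htop
    rcases hnorm.eq_bot_or_eq_top with hb | ht
    · rw [hb, Subgroup.card_bot] at hPc; omega
    · rw [ht, Subgroup.card_top, hn] at hPc; omega
  rcases hmem with h | h | h | h | h
  · exfalso
    rw [h] at hidx
    exact hNtop (Subgroup.index_eq_one.mp hidx)
  · exfalso
    have := six_le_index hn hNtop
    omega
  · exact Or.inl h
  · exfalso
    rw [h] at hNmul
    have hNc : Nat.card N = 45 := by omega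
    -- the Sylow 5-subgroup of N is normal
    obtain ⟨Q⟩ : Nonempty (Sylow 5 N) := inferInstance
    obtain ⟨hQc, hQi⟩ := sylow_card_and_index Q (k := 1) (m := 9) (by rw [hNc]; norm_num) (by norm_num)
    have hmem5 := card_sylow_mem_filter_divisors Q (by norm_num : (9 : ℕ) ≠ 0) hQi
    have hfil5 : (Nat.divisors 9).filter (fun d => d % 5 = 1) = {1} := by decide
    rw [hfil5, Finset.mem_singleton] at hmem5
    have : Subsingleton (Sylow 5 N) := (Nat.card_eq_one_iff_unique.mp hmem5).1
    have hQn : (Q : Subgroup N).Normal := Sylow.normal_of_subsingleton Q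
    set Z : Subgroup G := (Q : Subgroup N).map N.subtype with hZ
    have hZc : Nat.card Z = 5 := by
      rw [hZ, Subgroup.card_subtype, hQc]; norm_num
    have hNZ : N ≤ normalizer (Z : Set G) := by
      have h1 := le_normalizer_map (H := (Q : Subgroup N)) N.subtype
      rw [normalizer_eq_top_iff.mpr hQn, ← MonoidHom.range_eq_map, Subgroup.range_subtype] at h1
      exact h1
    have := Subgroup.card_dvd_of_le hNZ
    rw [card_normalizer_five hn hZc, hNc] at this
    omega
  · exact Or.inr h

/-- Every Sylow 2-subgroup is the centralizer of an involution which is a square. -/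
theorem sylow2_eq_centralizer (hn : Nat.card G = 720) [Fact (Nat.Prime 2)] (S : Sylow 2 G) :
    ∃ t u : G, u * u = t ∧ orderOf t = 2 ∧ centralizer ({t} : Set G) = (S : Subgroup G) := by
  obtain ⟨t₀, u₀, hu₀, ht₀, hc₀⟩ := exists_tu hn
  have hp : IsPGroup 2 (centralizer ({t₀} : Set G)) :=
    IsPGroup.of_card (n := 4) (by rw [hc₀]; norm_num)
  obtain ⟨S₀, hS₀⟩ := hp.exists_le_sylow
  have hS₀eq : centralizer ({t₀} : Set G) = (S₀ : Subgroup G) :=
    Subgroup.eq_of_le_of_card_ge hS₀ (by rw [hc₀, (card_sylow2_subgroup hn S₀).1])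
  obtain ⟨g, hg⟩ := MulAction.exists_smul_eq G S₀ S
  refine ⟨g * t₀ * g⁻¹, g * u₀ * g⁻¹, ?_, ?_, ?_⟩
  · rw [← hu₀]; group
  · have := (MulAut.conj g).orderOf_eq t₀
    simp only [MulAut.conj_apply] at this
    rw [this, ht₀]
  · ext x
    rw [← hg, Sylow.coe_subgroup_smul, Subgroup.mem_pointwise_smul_iff_inv_smul_mem,
      MulAut.smul_def, MulAut.conj_inv_apply, ← hS₀eq, mem_centralizer_singleton_iff,
      mem_centralizer_singleton_iff]
    constructor
    · intro h
      calc g⁻¹ * x * g * t₀ = g⁻¹ * (x * (g * t₀ * g⁻¹)) * g := by group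
        _ = g⁻¹ * ((g * t₀ * g⁻¹) * x) * g := by rw [h]
        _ = t₀ * (g⁻¹ * x * g) := by group
    · intro h
      calc x * (g * t₀ * g⁻¹) = g * ((g⁻¹ * x * g) * t₀) * g⁻¹ := by group
        _ = g * (t₀ * (g⁻¹ * x * g)) * g⁻¹ := by rw [h]
        _ = g * t₀ * g⁻¹ * x := by group

omit [Finite G] [IsSimpleGroup G] in
/-- An element whose centralizer is a `2`-group commutes with no element of order `3`. -/
theorem not_commute_of_card_centralizer {t d : G} {k : ℕ}
    (ht : Nat.card (centralizer ({t} : Set G)) = 2 ^ k) (hd : 3 ∣ orderOf d) : t * d ≠ d * t := by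
  intro hc
  have hmem : d ∈ centralizer ({t} : Set G) := by
    rw [mem_centralizer_singleton_iff]
    exact hc.symm
  have := orderOf_dvd_natCard (⟨d, hmem⟩ : centralizer ({t} : Set G))
  rw [ht, Subgroup.orderOf_mk] at this
  have h3 : 3 ∣ 2 ^ k := hd.trans this
  have := Nat.Prime.dvd_of_dvd_pow Nat.prime_three h3
  omega

end Cfsg.Agent.Lib.H5.Ord720
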