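import Mathlib
import Cfsg.Agent.Lib.H5.Ord.Ord720b
import Cfsg.Agent.Lib.H5.Ord.SylChain

set_option autoImplicit false

/-! # No simple group of order 720, part 3: the centralizer of the intersection of two Sylow
3-subgroups has order 36 and a normal four-subgroup -/

namespace Cfsg.Agent.Lib.H5.Ord720

open Subgroup MulAction Cfsg.Agent.Lib.H5 Cfsg.Agent.Lib.H5.SylPrime

section general

variable {G : Type*} [Group G] [Finite G]

/-- Sylow subgroups of `G` contained in a subgroup `M` are conjugate under `M`. -/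
theorem exists_mem_smul_eq_of_le {p : ℕ} [Fact p.Prime] {M : Subgroup G} {P Q : Sylow p G}
    (hP : (P : Subgroup G) ≤ M) (hQ : (Q : Subgroup G) ≤ M) : ∃ c ∈ M, c • P = Q := by
  obtain ⟨c, hc⟩ := MulAction.exists_smul_eq M (P.subtype hP) (Q.subtype hQ)
  rw [Sylow.smul_subtype] at hc
  exact ⟨c, c.2, Sylow.subtype_injective hc⟩

/-- A `p`-element normalizing a Sylow `p`-subgroup lies in it. -/
theorem mem_sylow_of_mem_normalizer {p : ℕ} [Fact p.Prime] (P : Sylow p G) {x : G}
    (hx : IsPGroup p (zpowers x)) (hxN : x ∈ normalizer ((P : Subgroup G) : Set G)) : x ∈ P := by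
  have := IsPGroup.inf_normalizer_sylow hx P
  have h1 : x ∈ zpowers x ⊓ normalizer (P : Set G) := ⟨mem_zpowers x, hxN⟩
  rw [this] at h1
  exact h1.2

end general

variable {G : Type*} [Group G] [Finite G] [IsSimpleGroup G]

/-- The intersection of two distinct Sylow 3-subgroups, if non-trivial, has order 3. -/
theorem card_inf_sylow3 (hn : Nat.card G = 720) {P Q : Sylow 3 G} (hPQ : P ≠ Q)
    (hD : (P : Subgroup G) ⊓ (Q : Subgroup G) ≠ ⊥) :
    Nat.card ((P : Subgroup G) ⊓ (Q : Subgroup G) : Subgroup G) = 3 := by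
  set D : Subgroup G := (P : Subgroup G) ⊓ (Q : Subgroup G) with hDdef
  have hd : Nat.card D ∣ 9 := by
    have := Subgroup.card_dvd_of_le (inf_le_left : D ≤ P)
    rwa [(card_sylow3_subgroup hn P).1] at this
  have hmem : Nat.card D ∈ Nat.divisors 9 := by simp [hd]
  have hdiv : Nat.divisors 9 = {1, 3, 9} := by decide
  rw [hdiv] at hmem
  simp only [Finset.mem_insert, Finset.mem_singleton] at hmem
  rcases hmem with h1 | h3 | h9
  · exact absurd (Subgroup.card_eq_one.mp h1) hD
  · exact h3
  · exfalso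
    have hDP : D = (P : Subgroup G) :=
      Subgroup.eq_of_le_of_card_ge inf_le_left (by rw [h9, (card_sylow3_subgroup hn P).1])
    have hPQ' : (P : Subgroup G) ≤ Q := hDP ▸ (inf_le_right : D ≤ Q)
    have : (P : Subgroup G) = Q := Subgroup.eq_of_le_of_card_ge hPQ'
      (by rw [(card_sylow3_subgroup hn P).1, (card_sylow3_subgroup hn Q).1])
    exact hPQ (Sylow.ext this)

/-- A proper subgroup containing two distinct Sylow 3-subgroups has order `36`, `72` or `90`. -/
theorem two_sylow3_in_proper (hn : Nat.card G = 720) {M : Subgroup G} (hM : M ≠ ⊤)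
    {P Q : Sylow 3 G} (hPQ : P ≠ Q) (hP : (P : Subgroup G) ≤ M) (hQ : (Q : Subgroup G) ≤ M) :
    (Nat.card M = 36 ∧ Nat.card (Sylow 3 M) = 4) ∨ Nat.card M = 72 ∨ Nat.card M = 90 := by
  have h6 := six_le_index hn hM
  have hmi := M.card_mul_index
  rw [hn] at hmi
  have h9 : 9 ∣ Nat.card M := by
    have := Subgroup.card_dvd_of_le hP
    rwa [(card_sylow3_subgroup hn P).1] at this
  have hne : P.subtype hP ≠ Q.subtype hQ := fun he => hPQ (Sylow.subtype_injective he)
  have hn1 : Nat.card (Sylow 3 M) ≠ 1 := by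
    intro h1
    have : Subsingleton (Sylow 3 M) := (Nat.card_eq_one_iff_unique.mp h1).1
    exact hne (Subsingleton.elim _ _)
  have hmod := card_sylow_modEq_one 3 M
  have hdvd := Sylow.card_dvd_index (P.subtype hP)
  have hP'c : Nat.card ((P.subtype hP : Sylow 3 M) : Subgroup M) = 9 := by
    rw [Sylow.coe_subtype, Nat.card_congr (subgroupOfEquivOfLe hP).toEquiv]
    exact (card_sylow3_subgroup hn P).1
  have hP'i := ((P.subtype hP : Sylow 3 M) : Subgroup M).card_mul_index
  rw [hP'c] at hP'i
  obtain ⟨k, hk⟩ := h9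
  have hidx : ((P.subtype hP : Sylow 3 M) : Subgroup M).index = k := by
    rw [hk] at hP'i
    omega
  rw [hidx] at hdvd
  have hk80 : k * M.index = 80 := by
    rw [hk] at hmi
    nlinarith
  have hk13 : k ≤ 13 := by nlinarith
  have hkpos : 0 < k := by
    rcases Nat.eq_zero_or_pos k with h0 | h0
    · rw [h0] at hk80; omega
    · exact h0
  have hnle : Nat.card (Sylow 3 M) ≤ k := Nat.le_of_dvd hkpos hdvd
  have hmod' : Nat.card (Sylow 3 M) % 3 = 1 := hmod
  have hkd : k ∣ 80 := Dvd.intro _ hk80
  generalize Nat.card (Sylow 3 M) = n at *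
  have hcases : (k = 4 ∧ n = 4) ∨ k = 8 ∨ k = 10 := by
    obtain ⟨q, hq⟩ := hdvd
    interval_cases k <;> first | omega | skip
    all_goals
      interval_cases n <;> omega
  rcases hcases with ⟨h4, hn4⟩ | h8 | h10
  · left; exact ⟨by omega, hn4⟩
  · right; left; omega
  · right; right; omega

theorem sylow3_le_centralizer_inf (hn : Nat.card G = 720) (P Q : Sylow 3 G) :
    (P : Subgroup G) ≤ centralizer (((P : Subgroup G) ⊓ (Q : Subgroup G) : Subgroup G) : Set G) := by
  intro x hx
  rw [mem_centralizer_iff]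
  intro d hd
  exact sylow3_comm hn P hd.1 hx

theorem sylow3_le_centralizer_inf' (hn : Nat.card G = 720) (P Q : Sylow 3 G) :
    (Q : Subgroup G) ≤ centralizer (((P : Subgroup G) ⊓ (Q : Subgroup G) : Subgroup G) : Set G) := by
  intro x hx
  rw [mem_centralizer_iff]
  intro d hd
  exact sylow3_comm hn Q hd.2 hx

/-- An element of order `3` in the intersection. -/
theorem exists_mem_inf_orderOf (hn : Nat.card G = 720) {P Q : Sylow 3 G} (hPQ : P ≠ Q)
    (hD : (P : Subgroup G) ⊓ (Q : Subgroup G) ≠ ⊥) :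
    ∃ d : G, d ∈ (P : Subgroup G) ⊓ (Q : Subgroup G) ∧ orderOf d = 3 := by
  have hD3 := card_inf_sylow3 hn hPQ hD
  obtain ⟨d, hd⟩ := exists_prime_orderOf_dvd_card'
    (G := ((P : Subgroup G) ⊓ (Q : Subgroup G) : Subgroup G)) 3 (by rw [hD3])
  exact ⟨(d : G), d.2, by rw [Subgroup.orderOf_coe]; exact hd⟩

theorem centralizer_inf_ne_top (hn : Nat.card G = 720) {P Q : Sylow 3 G} (hPQ : P ≠ Q)
    (hD : (P : Subgroup G) ⊓ (Q : Subgroup G) ≠ ⊥) :
    centralizer (((P : Subgroup G) ⊓ (Q : Subgroup G) : Subgroup G) : Set G) ≠ ⊤ := by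
  intro htop
  have hD3 := card_inf_sylow3 hn hPQ hD
  set D : Subgroup G := (P : Subgroup G) ⊓ (Q : Subgroup G) with hDdef
  have hDn : D.Normal := by
    constructor
    intro d hd g
    have hg : g ∈ centralizer (D : Set G) := htop ▸ Subgroup.mem_top g
    rw [mem_centralizer_iff] at hg
    have := hg d hd
    rw [← this, mul_inv_cancel_right]
    exact hd
  rcases hDn.eq_bot_or_eq_top with hb | ht
  · exact hD hb
  · rw [ht, Subgroup.card_top, hn] at hD3
    omega

/-- The centralizer of the intersection of two distinct Sylow 3-subgroups has order `36`. -/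
theorem card_centralizer_inf (hn : Nat.card G = 720) {P Q : Sylow 3 G} (hPQ : P ≠ Q)
    (hD : (P : Subgroup G) ⊓ (Q : Subgroup G) ≠ ⊥) :
    Nat.card (centralizer (((P : Subgroup G) ⊓ (Q : Subgroup G) : Subgroup G) : Set G)) = 36 ∧
      Nat.card (Sylow 3 (centralizer
        (((P : Subgroup G) ⊓ (Q : Subgroup G) : Subgroup G) : Set G))) = 4 := by
  classical
  set D : Subgroup G := (P : Subgroup G) ⊓ (Q : Subgroup G) with hDdef
  set C := centralizer (D : Set G) with hC
  obtain ⟨d, hdD, hdo⟩ := exists_mem_inf_orderOf hn hPQ hD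
  rcases two_sylow3_in_proper hn (centralizer_inf_ne_top hn hPQ hD) hPQ
    (sylow3_le_centralizer_inf hn P Q) (sylow3_le_centralizer_inf' hn P Q) with h36 | h72 | h90
  · exact h36
  · exfalso
    obtain ⟨K, hK⟩ := Sylow.exists_subgroup_card_pow_prime (G := C) 2 (n := 3)
      (by rw [h72]; norm_num)
    set W₈ : Subgroup G := K.map C.subtype with hW₈
    have hW₈c : Nat.card W₈ = 8 := by rw [hW₈, Subgroup.card_subtype, hK]; norm_num
    have hW₈C : W₈ ≤ C := Subgroup.map_subtype_le K
    have hp : IsPGroup 2 W₈ := IsPGroup.of_card (n := 3) (by rw [hW₈c]; norm_num)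
    obtain ⟨S, hS⟩ := hp.exists_le_sylow
    obtain ⟨t', u', hu', ht', hSeq⟩ := sylow2_eq_centralizer hn S
    have hSc := (card_sylow2_subgroup hn S).1
    have ht'1 : t' ≠ 1 := by
      intro h1
      rw [h1, orderOf_one] at ht'
      omega
    have ht'2 : t' * t' = 1 := by
      rw [← pow_two, ← ht', pow_orderOf_eq_one]
    have huo : orderOf u' = 4 := by
      have := orderOf_eq_prime_pow (x := u') (p := 2) (n := 1)
        (by rw [pow_one, pow_two, hu']; exact ht'1)
        (by
          have : u' ^ 2 ^ (1 + 1) = (u' * u') * (u' * u') := by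
            norm_num
            simp only [pow_succ, pow_zero, one_mul, mul_assoc]
          rw [this, hu', ht'2])
      simpa using this
    have hUc : Nat.card (zpowers u') = 4 := by rw [Nat.card_zpowers, huo]
    have hUS : zpowers u' ≤ (S : Subgroup G) := by
      rw [zpowers_le, ← hSeq, mem_centralizer_singleton_iff, ← hu', mul_assoc]
    obtain ⟨x, hxW, hxU, hx1⟩ := exists_mem_inf_ne_one (S : Subgroup G) W₈ (zpowers u') hS hUS
      (by rw [hSc, hW₈c, hUc]; norm_num)
    have ht'W : t' ∈ W₈ := by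
      rw [mem_zpowers_iff_mem_range_orderOf, huo] at hxU
      simp only [Finset.mem_image, Finset.mem_range] at hxU
      obtain ⟨j, hj, rfl⟩ := hxU
      have hu4 : u' ^ 4 = 1 := by rw [← huo]; exact pow_orderOf_eq_one u'
      interval_cases j
      · simp at hx1
      · have := W₈.mul_mem hxW hxW
        rwa [pow_one, hu'] at this
      · rwa [pow_two, hu'] at hxW
      · have := W₈.mul_mem hxW hxW
        have e : u' ^ 3 * u' ^ 3 = t' := by
          calc u' ^ 3 * u' ^ 3 = u' ^ 4 * (u' * u') := by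
                simp only [pow_succ, pow_zero, one_mul, mul_assoc]
            _ = t' := by rw [hu4, one_mul, hu']
        rwa [e] at this
    have ht'C : t' ∈ C := hW₈C ht'W
    rw [hC, mem_centralizer_iff] at ht'C
    have hcomm := ht'C d hdD
    exact not_commute_of_card_centralizer (t := t') (d := d) (k := 4)
      (by rw [hSeq, hSc]; norm_num) (by rw [hdo]) hcomm.symm
  · exfalso
    have : Fact (Nat.Prime 5) := ⟨by norm_num⟩
    obtain ⟨z, hz⟩ := exists_prime_orderOf_dvd_card' (G := C) 5 (by rw [h90]; norm_num)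
    have hzo : orderOf (z : G) = 5 := by rw [Subgroup.orderOf_coe]; exact hz
    have hzC : (z : G) ∈ centralizer (D : Set G) := z.2
    rw [mem_centralizer_iff] at hzC
    have hd5 : d ∈ centralizer ({(z : G)} : Set G) := by
      rw [mem_centralizer_singleton_iff]
      exact hzC d hdD
    have := orderOf_dvd_natCard (⟨d, hd5⟩ : centralizer ({(z : G)} : Set G))
    rw [card_centralizer_five hn hzo, Subgroup.orderOf_mk, hdo] at this
    omega

/-- A subgroup of order `36` with four Sylow 3-subgroups has a normal subgroup of order `4`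
complementing a Sylow 3-subgroup (Burnside's transfer theorem). -/
theorem exists_normal_four (hn : Nat.card G = 720) {M : Subgroup G} (hMc : Nat.card M = 36)
    (hM4 : Nat.card (Sylow 3 M) = 4) {P : Sylow 3 G} (hP : (P : Subgroup G) ≤ M) :
    ∃ W : Subgroup G, W ≤ M ∧ Nat.card W = 4 ∧ M ≤ normalizer (W : Set G) ∧
      ∀ c ∈ M, ∃ w ∈ W, ∃ x ∈ (P : Subgroup G), c = w * x := by
  have hP'c : Nat.card ((P.subtype hP : Sylow 3 M) : Subgroup M) = 9 := by
    rw [Sylow.coe_subtype, Nat.card_congr (subgroupOfEquivOfLe hP).toEquiv]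
    exact (card_sylow3_subgroup hn P).1
  have hNc : Nat.card (normalizer (((P.subtype hP : Sylow 3 M) : Subgroup M) : Set M)) = 9 := by
    have := card_normalizer_mul_card_sylow (P.subtype hP : Sylow 3 M)
    rw [hM4, hMc] at this
    omega
  have heq : ((P.subtype hP : Sylow 3 M) : Subgroup M) =
      normalizer (((P.subtype hP : Sylow 3 M) : Subgroup M) : Set M) :=
    Subgroup.eq_of_le_of_card_ge le_normalizer (by rw [hNc, hP'c])
  have hNC : normalizer (((P.subtype hP : Sylow 3 M) : Subgroup M) : Set M) ≤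
      centralizer (((P.subtype hP : Sylow 3 M) : Subgroup M) : Set M) := by
    intro x hx
    rw [← heq] at hx
    rw [mem_centralizer_iff]
    intro y hy
    have hx' : (x : G) ∈ P := by
      rw [Sylow.coe_subtype] at hx
      exact mem_subgroupOf.mp hx
    have hy' : (y : G) ∈ P := by
      have hy2 : y ∈ ((P.subtype hP : Sylow 3 M) : Subgroup M) := hy
      rw [Sylow.coe_subtype] at hy2
      exact mem_subgroupOf.mp hy2
    exact Subtype.ext (sylow3_comm hn P hy' hx')
  have hcomp := MonoidHom.ker_transferSylow_isComplement' (P.subtype hP : Sylow 3 M) hNC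
  set T := (MonoidHom.transferSylow (P.subtype hP : Sylow 3 M) hNC).ker with hT
  have hTc : Nat.card T = 4 := by
    have := hcomp.card_mul_card
    rw [hP'c, hMc] at this
    omega
  have hTn : T.Normal := MonoidHom.normal_ker _
  refine ⟨T.map M.subtype, Subgroup.map_subtype_le T, ?_, ?_, ?_⟩
  · rw [Subgroup.card_subtype]
    exact hTc
  · have h1 := le_normalizer_map (H := T) M.subtype
    rw [normalizer_eq_top_iff.mpr hTn, ← MonoidHom.range_eq_map, Subgroup.range_subtype] at h1
    exact h1
  · intro c hc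
    obtain ⟨⟨w, x⟩, hwx, -⟩ := (Subgroup.isComplement_iff_existsUnique.mp hcomp) ⟨c, hc⟩
    refine ⟨((w : M) : G), Subgroup.mem_map.mpr ⟨(w : M), w.2, rfl⟩, ((x : M) : G), ?_, ?_⟩
    · have hx2 : (x : M) ∈ (P : Subgroup G).subgroupOf M := x.2
      exact mem_subgroupOf.mp hx2
    · have := congrArg (Subtype.val : M → G) hwx
      simpa using this.symm

end Cfsg.Agent.Lib.H5.Ord720
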