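import Mathlib
import Cfsg.Agent.Lib.H2.SylowTI
import Cfsg.Agent.Lib.H4.S3T.PGL
import Cfsg.Agent.Lib.H2.SLMapEquiv
import Cfsg.Agent.Lib.H29.ExcIso

set_option autoImplicit false
set_option linter.unusedSectionVars false

/-! # From trivially intersecting Sylow subgroups to a sharply 3-transitive action, and to
`PSL₂(F)` in characteristic two -/

namespace Cfsg.Agent.Lib.H5.TISharp3

open Subgroup MulAction Cfsg.Agent.Lib.H2.SylowTI Cfsg.Agent.Lib.H4.S3T

section count

/-- Counting a pairwise disjoint family of subsets each of size at least `k`. -/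
theorem card_mul_le_ncard_of_disjoint {α ι : Type*} [Finite α] [Finite ι] (B : ι → Set α) (k : ℕ)
    (A : Set α) (hk : ∀ i, k ≤ (B i).ncard) (hB : ∀ i, B i ⊆ A)
    (hd : ∀ i j, i ≠ j → Disjoint (B i) (B j)) : Nat.card ι * k ≤ A.ncard := by
  classical
  have : Fintype α := Fintype.ofFinite _
  have : Fintype ι := Fintype.ofFinite _
  let B' : ι → Finset α := fun i => (B i).toFinset
  have hB' : ∀ i, k ≤ (B' i).card := by
    intro i
    have := hk i
    rwa [Set.ncard_eq_toFinset_card'] at this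
  have hdisj : ∀ i ∈ (Finset.univ : Finset ι), ∀ j ∈ (Finset.univ : Finset ι), i ≠ j →
      Disjoint (B' i) (B' j) := by
    intro i _ j _ hij
    rw [Set.disjoint_toFinset]
    exact hd i j hij
  have hcard : Nat.card ι * k ≤ (Finset.univ.biUnion B').card := by
    rw [Finset.card_biUnion hdisj, Nat.card_eq_fintype_card, ← Finset.card_univ, ← smul_eq_mul,
      ← Finset.sum_const]
    exact Finset.sum_le_sum (fun i _ => hB' i)
  refine hcard.trans ?_
  rw [← Set.ncard_coe_finset]
  apply Set.ncard_le_ncard _ (Set.toFinite A)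
  intro g hg
  simp only [Finset.coe_biUnion, Finset.coe_univ, Set.mem_univ, Set.iUnion_true,
    Set.mem_iUnion] at hg
  obtain ⟨i, hi⟩ := hg
  apply hB i
  simpa [B'] using hi

end count

variable {G : Type*} [Group G] [Finite G] {p : ℕ} [Fact p.Prime]

variable (hTI : ∀ P Q : Sylow p G, P ≠ Q → (P : Subgroup G) ⊓ (Q : Subgroup G) = ⊥)
  {m : ℕ} (hm : ∀ P : Sylow p G, Nat.card (P : Subgroup G) = m)
  (hn : Nat.card (Sylow p G) = m + 1) (hG : Nat.card G = (m + 1) * m * (m - 1))
  (hfree : ∀ S T : Sylow p G, S ≠ T → ∀ g u : G, g • S = S → g • T = T → u ∈ S →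
    g * u = u * g → g = 1 ∨ u = 1)

include hTI hm hn hG in
theorem card_two_point_stab' {S T : Sylow p G} (hST : S ≠ T) :
    Nat.card (stabilizer G S ⊓ stabilizer G T : Subgroup G) = m - 1 := by
  have h := card_two_point_stab hTI hm hn hST
  rw [hG] at h
  have hpos : 0 < (m + 1) * m := by
    rcases Nat.eq_zero_or_pos m with h0 | h0
    · exfalso
      rw [h0] at hG
      simp only [zero_add, mul_zero, zero_mul] at hG
      exact Nat.card_pos.ne' hG
    · positivity
  apply Nat.eq_of_mul_eq_mul_right hpos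
  rw [h]
  ring

include hTI hm hn hfree in
theorem eq_one_of_three_fixed {S T R : Sylow p G} (hST : S ≠ T)
    (hSR : S ≠ R) (hTR : T ≠ R) {g : G} (hS : g • S = S) (hT : g • T = T) (hR : g • R = R) :
    g = 1 := by
  obtain ⟨u, hu, hue⟩ := exists_mem_smul_eq hTI hm hn hST hSR
  have hcomm := comm_of_fixed hTI hST hS hT hu (by rw [hue]; exact hR)
  rcases hfree S T hST g u hS hT hu hcomm with h1 | h1
  · exact h1
  · exfalso
    rw [h1, one_smul] at hue
    exact hTR hue

include hTI hm hn hG hfree in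
/-- the two-point stabilizer is transitive on the remaining points -/
theorem exists_stab_smul_eq {S T R R' : Sylow p G} (hST : S ≠ T)
    (hSR : S ≠ R) (hTR : T ≠ R) (hSR' : S ≠ R') (hTR' : T ≠ R') :
    ∃ z : G, z • S = S ∧ z • T = T ∧ z • R = R' := by
  classical
  set H : Subgroup G := stabilizer G S ⊓ stabilizer G T with hH
  have hHc : Nat.card H = m - 1 := card_two_point_stab' hTI hm hn hG hST
  have hinj : Set.InjOn (fun z : G => z • R) (H : Set G) := by
    intro z hz z' hz' hzz
    have hzz' : z • R = z' • R := hzz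
    have hzm := Subgroup.mem_inf.mp hz
    have hzm' := Subgroup.mem_inf.mp hz'
    have h1 : (z'⁻¹ * z) • R = R := by rw [mul_smul, hzz', inv_smul_smul]
    have h2 : (z'⁻¹ * z) • S = S := by
      rw [mul_smul, mem_stabilizer_iff.mp hzm.1, inv_smul_eq_iff, mem_stabilizer_iff.mp hzm'.1]
    have h3 : (z'⁻¹ * z) • T = T := by
      rw [mul_smul, mem_stabilizer_iff.mp hzm.2, inv_smul_eq_iff, mem_stabilizer_iff.mp hzm'.2]
    have := eq_one_of_three_fixed hTI hm hn hfree hST hSR hTR h2 h3 h1
    exact (inv_mul_eq_one.mp this).symm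
  have hsub : (fun z : G => z • R) '' (H : Set G) ⊆ ({S, T} : Set (Sylow p G))ᶜ := by
    rintro _ ⟨z, hz, rfl⟩
    have hzm := Subgroup.mem_inf.mp hz
    simp only [Set.mem_compl_iff, Set.mem_insert_iff, Set.mem_singleton_iff, not_or]
    constructor
    · intro hh
      apply hSR
      have : z • R = z • S := by rw [hh, mem_stabilizer_iff.mp hzm.1]
      exact (smul_left_cancel z this).symm
    · intro hh
      apply hTR
      have : z • R = z • T := by rw [hh, mem_stabilizer_iff.mp hzm.2]
      exact (smul_left_cancel z this).symm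
  have hH7 : (H : Set G).ncard = m - 1 := by
    rw [← hHc]
    exact (Nat.card_coe_set_eq (H : Set G)).symm
  have hcard : (({S, T} : Set (Sylow p G))ᶜ).ncard ≤
      ((fun z : G => z • R) '' (H : Set G)).ncard := by
    rw [hinj.ncard_image, Set.ncard_compl, hn, Set.ncard_pair hST, hH7]
    omega
  have heq := Set.eq_of_subset_of_ncard_le hsub hcard (Set.toFinite _)
  have hmem : R' ∈ ({S, T} : Set (Sylow p G))ᶜ := by
    simp only [Set.mem_compl_iff, Set.mem_insert_iff, Set.mem_singleton_iff, not_or]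
    exact ⟨fun hh => hSR' hh.symm, fun hh => hTR' hh.symm⟩
  rw [← heq] at hmem
  obtain ⟨z, hz, hze⟩ := hmem
  have hzm := Subgroup.mem_inf.mp hz
  exact ⟨z, mem_stabilizer_iff.mp hzm.1, mem_stabilizer_iff.mp hzm.2, hze⟩

include hTI hm hn hG hfree in
/-- The action on trivially intersecting Sylow subgroups is sharply 3-transitive when
`|Syl| = |P| + 1`, `|G| = (m+1) m (m-1)` and no non-identity element of a two-point stabilizer
commutes with a non-identity element of the Sylow subgroup. -/
theorem sharp3_of_ti : Sharp3 G (Sylow p G) := by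
  constructor
  · intro u v w u' v' w' huv huw hvw huv' huw' hvw'
    have h2 := two_pretransitive hTI hm hn
    rw [is_two_pretransitive_iff] at h2
    obtain ⟨g1, hg1u, hg1v⟩ := h2 huv huv'
    have h1 : u' ≠ g1 • w := by
      intro hh
      rw [← hg1u] at hh
      exact huw (smul_left_cancel g1 hh)
    have h2' : v' ≠ g1 • w := by
      intro hh
      rw [← hg1v] at hh
      exact hvw (smul_left_cancel g1 hh)
    obtain ⟨z, hzu, hzv, hzw⟩ := exists_stab_smul_eq hTI hm hn hG hfree huv' h1 h2' huw' hvw'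
    refine ⟨z * g1, ?_, ?_, ?_⟩
    · rw [mul_smul, hg1u, hzu]
    · rw [mul_smul, hg1v, hzv]
    · rw [mul_smul, hzw]
  · intro g u v w huv huw hvw h1 h2 h3
    exact eq_one_of_three_fixed hTI hm hn hfree huv huw hvw h1 h2 h3

section iso

/-- in a field with `2 ^ n` elements every unit is a square -/
theorem exists_sq_of_card_two_pow {K : Type*} [Field K] [Fintype K] {n : ℕ}
    (hK : Fintype.card K = 2 ^ (n + 1)) (r : Kˣ) : ∃ k : Kˣ, k ^ Fintype.card (Fin 2) = r := by
  classical
  refine ⟨r ^ (2 ^ n), ?_⟩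
  rw [Fintype.card_fin, ← pow_mul]
  have h7 : r ^ (2 ^ (n + 1) - 1) = 1 := by
    have := pow_card_eq_one (x := r)
    rwa [Fintype.card_units, hK] at this
  have hpos : 1 ≤ 2 ^ (n + 1) := Nat.one_le_two_pow
  calc r ^ (2 ^ n * 2) = r ^ (2 ^ (n + 1) - 1 + 1) := by
        congr 1
        rw [pow_succ]
        omega
    _ = r ^ (2 ^ (n + 1) - 1) * r := by rw [pow_succ]
    _ = r := by rw [h7, one_mul]

/-- A finite group acting sharply 3-transitively on `2 ^ (n+1) + 1` points is `PSL₂(F)`,
`|F| = 2 ^ (n+1)`. -/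
theorem nonempty_mulEquiv_psl2_of_sharp3 {G : Type*} [Group G] [Finite G] {X : Type*}
    [MulAction G X] [Finite X] [Nonempty X] (h : Sharp3 G X) {n : ℕ}
    (hX : Nat.card X = 2 ^ (n + 1) + 1) {F : Type*} [Field F] [Fintype F]
    (hF : Fintype.card F = 2 ^ (n + 1)) :
    Nonempty (G ≃* Matrix.ProjectiveSpecialLinearGroup (Fin 2) F) := by
  classical
  have : Fintype X := Fintype.ofFinite _
  have hc9 : Fintype.card X = 2 ^ (n + 1) + 1 := by
    rw [← Nat.card_eq_fintype_card, hX]
  obtain ⟨S⟩ : Nonempty X := inferInstance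
  have hpos : 2 ≤ 2 ^ (n + 1) := by
    calc 2 = 2 ^ 1 := by norm_num
      _ ≤ 2 ^ (n + 1) := Nat.pow_le_pow_right (by norm_num) (by omega)
  obtain ⟨fld, ⟨φ⟩⟩ := exists_PGL h (by
      rw [hc9, pow_succ]
      exact ⟨2 ^ n, by ring⟩) (by rw [hc9]; omega) S
  let _ := fld
  have hK : Fintype.card (Pts S) = 2 ^ (n + 1) := by
    rw [Fintype.card_subtype_compl, Fintype.card_subtype_eq, hc9]
    omega
  have hbij : Function.Bijective
      (Matrix.ProjectiveSpecialLinearGroup.toPGL (n := Fin 2) (R := Pts S)) :=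
    ⟨Matrix.ProjectiveSpecialLinearGroup.toPGL_injective,
      Matrix.ProjectiveSpecialLinearGroup.toPGL_surj_of_roots (exists_sq_of_card_two_pow hK)⟩
  let e1 : Matrix.ProjectiveSpecialLinearGroup (Fin 2) (Pts S) ≃*
      Matrix.ProjGenLinGroup (Fin 2) (Pts S) := MulEquiv.ofBijective _ hbij
  let r : Pts S ≃+* F := FiniteField.ringEquivOfCardEq (hK.trans hF.symm)
  obtain ⟨e2⟩ := Cfsg.Agent.Lib.H29.ExcIso.quot_center_congr
    (Cfsg.Agent.Lib.H2.slMapEquiv (n := Fin 2) r)
  exact ⟨(φ.trans e1.symm).trans e2⟩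

end iso

end Cfsg.Agent.Lib.H5.TISharp3
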