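import Mathlib
import Cfsg.Agent.Lib.H5.Ord.Ord4080c
import Cfsg.Agent.Lib.H5.Ord.TISharp3
import Cfsg.Agent.Lib.H5.Ord.Ord720c
import Cfsg.Agent.Lib.H2.SimpleAct
import Cfsg.Agent.Lib.H5.ConjCount

set_option autoImplicit false

/-! # Simple groups of order 4080, part 4: counting elements -/

namespace Cfsg.Agent.Lib.H5.Ord4080

open Subgroup MulAction Cfsg.Agent.Lib.H5 Cfsg.Agent.Lib.H5.SylPrime Cfsg.Agent.Lib.H5.GenTests
  Cfsg.Agent.Lib.H5.SmallOrd Cfsg.Agent.Lib.H2.SimpleAct Cfsg.Agent.Lib.H2.SylowTI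
  Cfsg.Agent.Lib.H5.TISharp3

section general

variable {G : Type*} [Group G]

theorem orderOf_eq_prime_of_mem [Finite G] {p : ℕ} [Fact p.Prime] {P : Subgroup G}
    (hP : Nat.card P = p) {g : G} (hg : g ∈ P) (hg1 : g ≠ 1) : orderOf g = p := by
  have h := orderOf_dvd_natCard (⟨g, hg⟩ : P)
  rw [hP, Subgroup.orderOf_mk] at h
  rcases (Nat.dvd_prime Fact.out).mp h with h1 | h1
  · exact absurd (orderOf_eq_one_iff.mp h1) hg1
  · exact h1

end general

variable {G : Type*} [Group G] [Finite G] [IsSimpleGroup G]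

theorem ncard_seventeen_ge (hn : Nat.card G = 4080) :
    1920 ≤ {g : G | orderOf g = 17}.ncard := by
  have : Fact (Nat.Prime 17) := ⟨by norm_num⟩
  have hc : ∀ P : Sylow 17 G, Nat.card (P : Subgroup G) = 17 := fun P => (sylow17_data hn P).1
  have h := ti_card_le (p := 17) 17 hc
    (fun P Q hPQ => inf_eq_bot_of_card_prime (hc P) hPQ) {g : G | orderOf g = 17}
    (fun P g hg hg1 => orderOf_eq_prime_of_mem (hc P) hg hg1)
  let P : Sylow 17 G := default
  rw [(sylow17_data hn P).2.2.2] at h
  exact h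

theorem ncard_three_ge (hn : Nat.card G = 4080) :
    272 ≤ {g : G | orderOf g = 3}.ncard := by
  have : Fact (Nat.Prime 3) := ⟨by norm_num⟩
  have hc : ∀ P : Sylow 3 G, Nat.card (P : Subgroup G) = 3 := fun P => (sylow3_data hn P).1
  have h := ti_card_le (p := 3) 3 hc
    (fun P Q hPQ => inf_eq_bot_of_card_prime (hc P) hPQ) {g : G | orderOf g = 3}
    (fun P g hg hg1 => orderOf_eq_prime_of_mem (hc P) hg hg1)
  let P : Sylow 3 G := default
  rw [(sylow3_data hn P).2] at h
  exact h

theorem ncard_five_ge (hn : Nat.card G = 4080) :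
    1632 ≤ {g : G | g ^ 15 = 1 ∧ g ^ 3 ≠ 1}.ncard := by
  have : Fact (Nat.Prime 5) := ⟨by norm_num⟩
  have : Fact (Nat.Prime 3) := ⟨by norm_num⟩
  let B : Sylow 5 G → Set G :=
    fun P => {g : G | g ∈ centralizer ((P : Subgroup G) : Set G) ∧ g ^ 3 ≠ 1}
  have h := card_mul_le_ncard_of_disjoint B 12 {g : G | g ^ 15 = 1 ∧ g ^ 3 ≠ 1} ?_ ?_ ?_
  · let P : Sylow 5 G := default
    rw [(sylow5_data hn P).2.2.2] at h
    exact h
  · -- each part has at least 12 elements
    intro P
    obtain ⟨hP, hNc, hCc, -⟩ := sylow5_data hn P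
    set C := centralizer ((P : Subgroup G) : Set G) with hC
    have hcomm : ∀ a ∈ C, ∀ b ∈ C, a * b = b * a :=
      centralizer_comm_of_card (p := 5) (q := 3) (j := 1) (P : Subgroup G) hP (by norm_num)
        (by norm_num) (by rw [← hC, hCc]; norm_num)
    obtain ⟨w0, hw0⟩ := exists_prime_orderOf_dvd_card' (G := C) 3 (by rw [hCc]; norm_num)
    have hwC : (w0 : G) ∈ C := w0.2
    have hwo : orderOf (w0 : G) = 3 := by rw [Subgroup.orderOf_coe]; exact hw0
    generalize (w0 : G) = w at hwC hwo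
    have hsub : (C : Set G) ⊆ B P ∪ (zpowers w : Set G) := by
      intro g hg
      by_cases h3 : g ^ 3 = 1
      · right
        exact mem_zpowers_of_pow_three hcomm (m := 5) (by rw [hCc]) (by norm_num) hwC hwo hg h3
      · left
        exact ⟨hg, h3⟩
    have h1 := Set.ncard_le_ncard hsub (Set.toFinite _)
    have h2 := Set.ncard_union_le (B P) (zpowers w : Set G)
    have e1 : ((C : Set G)).ncard = 15 := by rw [← Nat.card_coe_set_eq]; exact hCc
    have e2 : ((zpowers w : Set G)).ncard = 3 := by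
      rw [← Nat.card_coe_set_eq]
      show Nat.card (zpowers w) = 3
      rw [Nat.card_zpowers, hwo]
    omega
  · -- each part consists of elements of order 5 or 15
    rintro P g ⟨hg, h3⟩
    refine ⟨?_, h3⟩
    have := pow_card_eq_one' (G := centralizer ((P : Subgroup G) : Set G)) (x := ⟨g, hg⟩)
    rw [(sylow5_data hn P).2.2.1] at this
    exact congrArg Subtype.val this
  · -- the parts are disjoint
    intro P P' hPP'
    rw [Set.disjoint_left]
    rintro g ⟨hg, h3⟩ ⟨hg', -⟩
    have key : ∀ Q : Sylow 5 G, g ∈ centralizer ((Q : Subgroup G) : Set G) → g ^ 3 ∈ Q := by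
      intro Q hgQ
      have h15 : g ^ 15 = 1 := by
        have := pow_card_eq_one' (G := centralizer ((Q : Subgroup G) : Set G)) (x := ⟨g, hgQ⟩)
        rw [(sylow5_data hn Q).2.2.1] at this
        exact congrArg Subtype.val this
      have h5 : (g ^ 3) ^ 5 = 1 := by rw [← pow_mul]; exact h15
      have ho : orderOf (g ^ 3) = 5 := by
        rcases (Nat.dvd_prime (by norm_num : Nat.Prime 5)).mp (orderOf_dvd_of_pow_eq_one h5)
          with h1 | h1
        · exact absurd (orderOf_eq_one_iff.mp h1) h3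
        · exact h1
      have hpg : IsPGroup 5 (zpowers (g ^ 3)) :=
        IsPGroup.of_card (n := 1) (by rw [Nat.card_zpowers, ho]; norm_num)
      apply Cfsg.Agent.Lib.H5.Ord720.mem_sylow_of_mem_normalizer Q hpg
      exact centralizer_le_normalizer _ (pow_mem hgQ 3)
    have h1 := key P hg
    have h2 := key P' hg'
    have hmem : g ^ 3 ∈ (P : Subgroup G) ⊓ (P' : Subgroup G) := ⟨h1, h2⟩
    rw [inf_eq_bot_of_card_prime (sylow5_data hn P).1 hPP', Subgroup.mem_bot] at hmem
    exact h3 hmem

/-- at most 255 elements have even order -/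
theorem ncard_even_le (hn : Nat.card G = 4080) : {g : G | 2 ∣ orderOf g}.ncard ≤ 255 := by
  have h17 := ncard_seventeen_ge hn
  have h3 := ncard_three_ge hn
  have h5 := ncard_five_ge hn
  set E : Set G := {g : G | 2 ∣ orderOf g} with hE
  set A17 : Set G := {g : G | orderOf g = 17} with hA17
  set A3 : Set G := {g : G | orderOf g = 3} with hA3
  set A5 : Set G := {g : G | g ^ 15 = 1 ∧ g ^ 3 ≠ 1} with hA5
  have hd1 : Disjoint E A17 := by
    rw [Set.disjoint_left]
    intro g hgE hg7
    simp only [hE, hA17, Set.mem_ofPred_eq] at hgE hg7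
    rw [hg7] at hgE
    omega
  have hd2 : Disjoint (E ∪ A17) A3 := by
    rw [Set.disjoint_left]
    intro g hg hg3
    simp only [hA3, Set.mem_ofPred_eq] at hg3
    rcases hg with hgE | hg7
    · simp only [hE, Set.mem_ofPred_eq] at hgE
      rw [hg3] at hgE
      omega
    · simp only [hA17, Set.mem_ofPred_eq] at hg7
      omega
  have hd3 : Disjoint (E ∪ A17 ∪ A3) A5 := by
    rw [Set.disjoint_left]
    intro g hg hg5
    simp only [hA5, Set.mem_ofPred_eq] at hg5
    have h15 : orderOf g ∣ 15 := orderOf_dvd_of_pow_eq_one hg5.1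
    rcases hg with (hgE | hg7) | hg3
    · simp only [hE, Set.mem_ofPred_eq] at hgE
      have := dvd_trans hgE h15
      omega
    · simp only [hA17, Set.mem_ofPred_eq] at hg7
      rw [hg7] at h15
      omega
    · simp only [hA3, Set.mem_ofPred_eq] at hg3
      apply hg5.2
      rw [← hg3]
      exact pow_orderOf_eq_one g
  have hd4 : Disjoint (E ∪ A17 ∪ A3 ∪ A5) {1} := by
    rw [Set.disjoint_singleton_right]
    rintro (((hgE | hg7) | hg3) | hg5)
    · simp only [hE, Set.mem_ofPred_eq, orderOf_one] at hgE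
      omega
    · simp only [hA17, Set.mem_ofPred_eq, orderOf_one] at hg7
      omega
    · simp only [hA3, Set.mem_ofPred_eq, orderOf_one] at hg3
      omega
    · simp only [hA5, Set.mem_ofPred_eq, one_pow] at hg5
      exact hg5.2 rfl
  have hcard : (E ∪ A17 ∪ A3 ∪ A5 ∪ {1}).ncard = E.ncard + A17.ncard + A3.ncard + A5.ncard + 1 := by
    rw [Set.ncard_union_eq hd4 (Set.toFinite _) (Set.toFinite _),
      Set.ncard_union_eq hd3 (Set.toFinite _) (Set.toFinite _),
      Set.ncard_union_eq hd2 (Set.toFinite _) (Set.toFinite _),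
      Set.ncard_union_eq hd1 (Set.toFinite _) (Set.toFinite _), Set.ncard_singleton]
  have hle : (E ∪ A17 ∪ A3 ∪ A5 ∪ {1}).ncard ≤ 4080 := by
    rw [← hn, ← Set.ncard_univ]
    exact Set.ncard_le_ncard (Set.subset_univ _) (Set.toFinite _)
  omega

/-- every element of even order is an involution with centralizer of order `16` -/
theorem even_data (hn : Nat.card G = 4080) {g : G} (hg : 2 ∣ orderOf g) :
    orderOf g = 2 ∧ Nat.card (centralizer ({g} : Set G)) = 16 := by
  obtain ⟨t, ht, htc⟩ := exists_s hn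
  have hmul := ncard_conj_mul_card_centralizer t
  rw [hn] at hmul
  have hE := ncard_even_le hn
  have hsub : {g : G | IsConj t g} ⊆ {g : G | 2 ∣ orderOf g} := by
    intro g hg
    simp only [Set.mem_ofPred_eq] at hg ⊢
    rw [← orderOf_eq_of_isConj hg, ht]
  have hle := Set.ncard_le_ncard hsub (Set.toFinite _)
  have hc16 : Nat.card (centralizer ({t} : Set G)) = 16 := by
    rcases htc with h8 | h16
    · rw [h8] at hmul
      omega
    · exact h16
  rw [hc16] at hmul
  have heq : {g : G | IsConj t g} = {g : G | 2 ∣ orderOf g} :=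
    Set.eq_of_subset_of_ncard_le hsub (by omega) (Set.toFinite _)
  have hgm : g ∈ {g : G | IsConj t g} := by rw [heq]; exact hg
  simp only [Set.mem_ofPred_eq] at hgm
  refine ⟨by rw [← orderOf_eq_of_isConj hgm, ht], ?_⟩
  rw [card_centralizer_of_isConj hgm, hc16]

end Cfsg.Agent.Lib.H5.Ord4080
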