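import Mathlib
import Cfsg.Agent.Lib.H5.Ord.Ord4080d

set_option autoImplicit false

/-! # Simple groups of order 4080, part 5: the Sylow 2-subgroups and the isomorphism with
`PSL₂(𝔽₁₆)` -/

namespace Cfsg.Agent.Lib.H5.Ord4080

open Subgroup MulAction Cfsg.Agent.Lib.H5 Cfsg.Agent.Lib.H5.SylPrime Cfsg.Agent.Lib.H5.GenTests
  Cfsg.Agent.Lib.H5.SmallOrd Cfsg.Agent.Lib.H2.SimpleAct Cfsg.Agent.Lib.H2.SylowTI
  Cfsg.Agent.Lib.H5.TISharp3 Cfsg.Agent.Lib.H4.S3T

variable {G : Type*} [Group G] [Finite G] [IsSimpleGroup G]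

theorem card_sylow2_subgroup (hn : Nat.card G = 4080) [Fact (Nat.Prime 2)] (S : Sylow 2 G) :
    Nat.card (S : Subgroup G) = 16 := by
  have := (sylow_card_and_index S (k := 4) (m := 255) (by rw [hn]; norm_num) (by norm_num)).1
  simpa using this

/-- non-identity elements of a Sylow 2-subgroup are involutions -/
theorem orderOf_of_mem_sylow2 (hn : Nat.card G = 4080) [Fact (Nat.Prime 2)] (S : Sylow 2 G)
    {s : G} (hs : s ∈ S) (hs1 : s ≠ 1) : orderOf s = 2 := by
  apply (even_data hn _).1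
  obtain ⟨k, hk⟩ := (IsPGroup.iff_orderOf.mp S.2) ⟨s, hs⟩
  rw [Subgroup.orderOf_mk] at hk
  rcases Nat.eq_zero_or_pos k with h0 | h0
  · rw [h0, pow_zero] at hk
    exact absurd (orderOf_eq_one_iff.mp hk) hs1
  · rw [hk]
    exact dvd_pow_self 2 h0.ne'

theorem sylow2_sq (hn : Nat.card G = 4080) [Fact (Nat.Prime 2)] (S : Sylow 2 G) {s : G}
    (hs : s ∈ S) : s * s = 1 := by
  by_cases hs1 : s = 1
  · rw [hs1, one_mul]
  · rw [← pow_two, ← orderOf_of_mem_sylow2 hn S hs hs1, pow_orderOf_eq_one]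

theorem sylow2_comm (hn : Nat.card G = 4080) [Fact (Nat.Prime 2)] (S : Sylow 2 G) {a b : G}
    (ha : a ∈ S) (hb : b ∈ S) : a * b = b * a := by
  have h1 := sylow2_sq hn S ha
  have h2 := sylow2_sq hn S hb
  have h3 := sylow2_sq hn S (mul_mem ha hb)
  have ha' : a⁻¹ = a := inv_eq_of_mul_eq_one_left h1
  have hb' : b⁻¹ = b := inv_eq_of_mul_eq_one_left h2
  have hab : (a * b)⁻¹ = a * b := inv_eq_of_mul_eq_one_left h3
  rw [mul_inv_rev, ha', hb'] at hab
  exact hab.symm

/-- a Sylow 2-subgroup is the centralizer of each of its involutions -/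
theorem sylow2_eq_centralizer (hn : Nat.card G = 4080) [Fact (Nat.Prime 2)] (S : Sylow 2 G)
    {t : G} (ht : t ∈ S) (ht1 : t ≠ 1) : (S : Subgroup G) = centralizer ({t} : Set G) := by
  apply Subgroup.eq_of_le_of_card_ge
  · intro s hs
    rw [mem_centralizer_iff]
    intro z hz
    rw [Set.mem_singleton_iff.mp hz]
    exact sylow2_comm hn S ht hs
  · rw [(even_data hn (by rw [orderOf_of_mem_sylow2 hn S ht ht1])).2, card_sylow2_subgroup hn S]

theorem sylow2_inf (hn : Nat.card G = 4080) [Fact (Nat.Prime 2)] (S T : Sylow 2 G)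
    (hST : S ≠ T) : (S : Subgroup G) ⊓ (T : Subgroup G) = ⊥ := by
  rw [eq_bot_iff]
  intro t ht
  rw [Subgroup.mem_bot]
  by_contra ht1
  obtain ⟨htS, htT⟩ := Subgroup.mem_inf.mp ht
  apply hST
  apply Sylow.ext
  rw [sylow2_eq_centralizer hn S htS ht1, sylow2_eq_centralizer hn T htT ht1]

theorem card_sylow2 (hn : Nat.card G = 4080) [Fact (Nat.Prime 2)] :
    Nat.card (Sylow 2 G) = 17 := by
  obtain ⟨S⟩ : Nonempty (Sylow 2 G) := inferInstance
  have hle : Nat.card (Sylow 2 G) * (16 - 1) ≤ {g : G | 2 ∣ orderOf g}.ncard := by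
    apply ti_card_le 16 (fun P => card_sylow2_subgroup hn P) (sylow2_inf hn)
    intro P g hg hg1
    simp only [Set.mem_ofPred_eq]
    rw [orderOf_of_mem_sylow2 hn P hg hg1]
  have hE := ncard_even_le hn
  have hI := index_normalizer_eq_card_sylow S
  have hn1 : Nat.card (Sylow 2 G) ≠ 1 :=
    card_sylow_ne_one_of_simple (by rw [hn]; norm_num)
      (Cfsg.Agent.S0493.not_isPGroup_of_card hn (k := 4) (m := 255) (by norm_num) (by norm_num)
        (by norm_num))
  have h17 : Nat.card (Sylow 2 G) ≤ 17 := by omega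
  have h17' : 17 ≤ Nat.card (Sylow 2 G) := by
    rw [← hI]
    apply seventeen_le_index hn
    intro htop
    rw [htop, index_top] at hI
    exact hn1 hI.symm
  omega

theorem sharp3 (hn : Nat.card G = 4080) [Fact (Nat.Prime 2)] : Sharp3 G (Sylow 2 G) := by
  apply sharp3_of_ti (sylow2_inf hn) (m := 16) (fun P => card_sylow2_subgroup hn P)
    (card_sylow2 hn) (by rw [hn])
  intro S T hST g u hgS hgT hu hcomm
  by_contra hcon
  push Not at hcon
  obtain ⟨hg1, hu1⟩ := hcon
  have huo := orderOf_of_mem_sylow2 hn S hu hu1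
  have hmem : g ∈ stabilizer G S ⊓ stabilizer G T := Subgroup.mem_inf.mpr ⟨hgS, hgT⟩
  have hc15 := card_two_point_stab' (sylow2_inf hn) (m := 16)
    (fun P => card_sylow2_subgroup hn P) (card_sylow2 hn) (by rw [hn]) hST
  have hord : orderOf g ∣ 15 := by
    have := orderOf_dvd_natCard (⟨g, hmem⟩ : (stabilizer G S ⊓ stabilizer G T : Subgroup G))
    rw [hc15] at this
    rwa [Subgroup.orderOf_mk] at this
  have hcop : (orderOf g).Coprime (orderOf u) := by
    rw [huo]
    exact Nat.Coprime.coprime_dvd_left hord (by norm_num)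
  have hmulo := (show Commute g u from hcomm).orderOf_mul_eq_mul_orderOf_of_coprime hcop
  rw [huo] at hmulo
  have h2 := (even_data hn (g := g * u) (by rw [hmulo]; exact Dvd.intro_left _ rfl)).1
  rw [hmulo] at h2
  have : orderOf g = 1 := by omega
  exact hg1 (orderOf_eq_one_iff.mp this)

/-- A simple group of order `4080` is isomorphic to `PSL₂(F)`, `|F| = 16`. -/
theorem main (hn : Nat.card G = 4080) {F : Type*} [Field F] [Fintype F]
    (hF : Fintype.card F = 16) :
    Nonempty (G ≃* Matrix.ProjectiveSpecialLinearGroup (Fin 2) F) := by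
  have : Fact (Nat.Prime 2) := ⟨by norm_num⟩
  exact nonempty_mulEquiv_psl2_of_sharp3 (sharp3 hn) (n := 3) (by rw [card_sylow2 hn]; norm_num)
    (by rw [hF]; norm_num)

end Cfsg.Agent.Lib.H5.Ord4080
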