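import Mathlib
import Cfsg.Agent.Lib.H5.Ord.Ord720c

set_option autoImplicit false

/-! # No simple group of order 720, part 4: two Sylow 3-subgroups cannot meet non-trivially.
Structure of the normal four-subgroup `W` of `C = C_G(P ∩ Q)` -/

namespace Cfsg.Agent.Lib.H5.Ord720

open Subgroup MulAction Cfsg.Agent.Lib.H5 Cfsg.Agent.Lib.H5.SylPrime

variable {G : Type*} [Group G] [Finite G] [IsSimpleGroup G]

/-- The configuration: two Sylow 3-subgroups with intersection `D ≠ 1`, `C = C_G(D)` and a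
normal subgroup `W` of order `4` of `C` with `C = W P`. -/
structure Cfg (P Q : Sylow 3 G) (D C W : Subgroup G) : Prop where
  hPQ : P ≠ Q
  hDdef : D = (P : Subgroup G) ⊓ (Q : Subgroup G)
  hD : D ≠ ⊥
  hCdef : C = centralizer (D : Set G)
  hWC : W ≤ C
  hW4 : Nat.card W = 4
  hCN : C ≤ normalizer (W : Set G)
  hfac : ∀ c ∈ C, ∃ w ∈ W, ∃ x ∈ (P : Subgroup G), c = w * x

/-- Such a configuration exists as soon as two Sylow 3-subgroups meet non-trivially. -/
theorem exists_cfg (hn : Nat.card G = 720) {P Q : Sylow 3 G} (hPQ : P ≠ Q)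
    (hD : (P : Subgroup G) ⊓ (Q : Subgroup G) ≠ ⊥) :
    ∃ W : Subgroup G, Cfg P Q ((P : Subgroup G) ⊓ (Q : Subgroup G))
      (centralizer (((P : Subgroup G) ⊓ (Q : Subgroup G) : Subgroup G) : Set G)) W := by
  obtain ⟨h36, h4⟩ := card_centralizer_inf hn hPQ hD
  obtain ⟨W, hWC, hW4, hCN, hfac⟩ := exists_normal_four hn h36 h4
    (sylow3_le_centralizer_inf hn P Q)
  exact ⟨W, ⟨hPQ, rfl, hD, rfl, hWC, hW4, hCN, hfac⟩⟩

namespace Cfg

variable {P Q : Sylow 3 G} {D C W : Subgroup G}

section basic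

variable (hn : Nat.card G = 720) (cfg : Cfg P Q D C W)

include cfg

theorem D_le_P : D ≤ (P : Subgroup G) := cfg.hDdef ▸ inf_le_left

theorem D_le_Q : D ≤ (Q : Subgroup G) := cfg.hDdef ▸ inf_le_right

include hn

theorem card_D : Nat.card D = 3 := by
  have := card_inf_sylow3 hn cfg.hPQ (cfg.hDdef ▸ cfg.hD)
  rw [← cfg.hDdef] at this
  exact this

theorem card_C : Nat.card C = 36 := by
  have := (card_centralizer_inf hn cfg.hPQ (cfg.hDdef ▸ cfg.hD)).1
  rw [← cfg.hDdef, ← cfg.hCdef] at this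
  exact this

theorem P_le_C : (P : Subgroup G) ≤ C := by
  have := sylow3_le_centralizer_inf hn P Q
  rw [← cfg.hDdef, ← cfg.hCdef] at this
  exact this

theorem Q_le_C : (Q : Subgroup G) ≤ C := by
  have := sylow3_le_centralizer_inf' hn P Q
  rw [← cfg.hDdef, ← cfg.hCdef] at this
  exact this

omit hn in
theorem D_central {d c : G} (hd : d ∈ D) (hc : c ∈ C) : d * c = c * d := by
  rw [cfg.hCdef, mem_centralizer_iff] at hc
  exact hc d hd

theorem exists_d : ∃ d : G, d ∈ D ∧ orderOf d = 3 := by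
  obtain ⟨d, hd, hdo⟩ := exists_mem_inf_orderOf hn cfg.hPQ (cfg.hDdef ▸ cfg.hD)
  rw [← cfg.hDdef] at hd
  exact ⟨d, hd, hdo⟩

/-- `W ∩ P = 1` -/
theorem eq_one_of_mem_W_P {x : G} (hxW : x ∈ W) (hxP : x ∈ P) : x = 1 := by
  have h1 := orderOf_dvd_natCard (⟨x, hxW⟩ : W)
  have h2 := orderOf_dvd_natCard (⟨x, hxP⟩ : (P : Subgroup G))
  rw [cfg.hW4, Subgroup.orderOf_mk] at h1
  rw [(card_sylow3_subgroup hn P).1, Subgroup.orderOf_mk] at h2
  have := Nat.dvd_gcd h1 h2
  have hg : Nat.gcd 4 9 = 1 := by decide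
  rw [hg, Nat.dvd_one] at this
  exact orderOf_eq_one_iff.mp this

/-- `W` does not centralize `P`. -/
theorem not_W_centralizes_P : ¬ ∀ w ∈ W, ∀ x ∈ (P : Subgroup G), w * x = x * w := by
  intro hcomm
  obtain ⟨c, hcC, hc⟩ := exists_mem_smul_eq_of_le (cfg.P_le_C hn) (cfg.Q_le_C hn)
  obtain ⟨w, hw, x, hx, rfl⟩ := cfg.hfac c hcC
  apply cfg.hPQ
  have hxP : x • P = P := Sylow.smul_eq_iff_mem_normalizer.mpr (le_normalizer hx)
  have hwP : w • P = P := by
    rw [Sylow.smul_eq_iff_mem_normalizer]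
    apply Subgroup.mem_normalizer_fintype
    intro n hn'
    have : w * n * w⁻¹ = n := by rw [hcomm w hw n hn', mul_inv_cancel_right]
    rw [this]
    exact hn'
  rw [← hc]
  change P = (w * x) • P
  rw [mul_smul, hxP, hwP]

/-- The cube of an element of `P` lies in `D`. -/
theorem pow_three_mem {y : G} (hy : y ∈ P) : y ^ 3 ∈ D := by
  have hDP := cfg.D_le_P
  have hnorm : (D.subgroupOf (P : Subgroup G)).Normal := by
    constructor
    intro n hn' g
    have : g * n * g⁻¹ = n := by
      apply Subtype.ext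
      have := sylow3_comm hn P g.2 n.2
      simp only [Subgroup.coe_mul, Subgroup.coe_inv]
      rw [this, mul_inv_cancel_right]
    rw [this]
    exact hn'
  have hidx : (D.subgroupOf (P : Subgroup G)).index = 3 := by
    have := card_mul_relIndex_of_le hDP
    rw [cfg.card_D hn, (card_sylow3_subgroup hn P).1] at this
    have h3 : D.relIndex (P : Subgroup G) = 3 := by omega
    exact h3
  have := Subgroup.pow_index_mem (D.subgroupOf (P : Subgroup G)) (⟨y, hy⟩ : (P : Subgroup G))
  rw [hidx] at this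
  exact mem_subgroupOf.mp this

/-- An element of `P` outside `D` does not centralize `W`. -/
theorem exists_not_commute {y : G} (hy : y ∈ P) (hyD : y ∉ D) : ∃ a ∈ W, y * a * y⁻¹ ≠ a := by
  by_contra hcon
  push Not at hcon
  apply cfg.not_W_centralizes_P hn
  set K : Subgroup G := (P : Subgroup G) ⊓ centralizer (W : Set G) with hK
  have hDK : D ≤ K := by
    intro d hd
    refine Subgroup.mem_inf.mpr ⟨cfg.D_le_P hd, ?_⟩
    rw [mem_centralizer_iff]
    intro w hw
    exact (cfg.D_central hd (cfg.hWC hw)).symm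
  have hyK : y ∈ K := by
    refine Subgroup.mem_inf.mpr ⟨hy, ?_⟩
    rw [mem_centralizer_iff]
    intro w hw
    have := hcon w hw
    calc w * y = (y * w * y⁻¹) * y := by rw [this]
      _ = y * w := by group
  have hKd : Nat.card K ∣ 9 := by
    have := Subgroup.card_dvd_of_le (inf_le_left : K ≤ P)
    rwa [(card_sylow3_subgroup hn P).1] at this
  have hK9 : Nat.card K = 9 := by
    have hmem : Nat.card K ∈ Nat.divisors 9 := by simp [hKd]
    have hdiv : Nat.divisors 9 = {1, 3, 9} := by decide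
    rw [hdiv] at hmem
    simp only [Finset.mem_insert, Finset.mem_singleton] at hmem
    have h3 := Subgroup.card_dvd_of_le hDK
    rw [cfg.card_D hn] at h3
    rcases hmem with h1 | h3' | h9
    · rw [h1] at h3; omega
    · exfalso
      have : D = K := Subgroup.eq_of_le_of_card_ge hDK (by rw [h3', cfg.card_D hn])
      exact hyD (this ▸ hyK)
    · exact h9
  have hKP : K = (P : Subgroup G) :=
    Subgroup.eq_of_le_of_card_ge inf_le_left (by rw [hK9, (card_sylow3_subgroup hn P).1])
  intro w hw x hx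
  have hxK : x ∈ K := hKP ▸ hx
  have := (mem_centralizer_iff.mp hxK.2) w hw
  exact this

/-- For `y ∈ P \ D`, `W = {1, a, y a y⁻¹, y² a y⁻²}`: all non-identity elements of `W` are
involutions and none is fixed by `y`. -/
theorem W_structure {y : G} (hy : y ∈ P) (hyD : y ∉ D) :
    (∀ w ∈ W, w * w = 1) ∧ ∀ w ∈ W, w ≠ 1 → y * w * y⁻¹ ≠ w := by
  obtain ⟨a, haW, hab⟩ := cfg.exists_not_commute hn hy hyD
  have hyC : y ∈ C := cfg.P_le_C hn hy
  have hyN : y ∈ normalizer (W : Set G) := cfg.hCN hyC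
  have hconj : ∀ w ∈ W, y * w * y⁻¹ ∈ W := fun w hw => (mem_normalizer_iff.mp hyN w).mp hw
  have hy3 : y ^ 3 ∈ D := cfg.pow_three_mem hn hy
  obtain ⟨b, hb⟩ : ∃ b, b = y * a * y⁻¹ := ⟨_, rfl⟩
  obtain ⟨c, hc⟩ : ∃ c, c = y * b * y⁻¹ := ⟨_, rfl⟩
  rw [← hb] at hab
  have hbW : b ∈ W := hb ▸ hconj a haW
  have hcW : c ∈ W := hc ▸ hconj b hbW
  have hca : y * c * y⁻¹ = a := by
    have h1 : y * c * y⁻¹ = y ^ 3 * a * (y ^ 3)⁻¹ := by
      rw [hc, hb]
      simp only [pow_succ, pow_zero, one_mul, mul_inv_rev, mul_assoc]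
    have h2 := cfg.D_central hy3 (cfg.hWC haW)
    rw [h1, h2, mul_inv_cancel_right]
  have ha1 : a ≠ 1 := by
    rintro rfl
    apply hab
    rw [hb]; group
  have hb1 : b ≠ 1 := by
    intro h1
    apply ha1
    have : a = y⁻¹ * b * y := by rw [hb]; group
    rw [this, h1]; group
  have hc1 : c ≠ 1 := by
    intro h1
    apply hb1
    have : b = y⁻¹ * c * y := by rw [hc]; group
    rw [this, h1]; group
  have hbc : b ≠ c := by
    intro h
    have h1 : y * b * y⁻¹ = b := by rw [← hc]; exact h.symm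
    have h2 : a = y⁻¹ * b * y := by rw [hb]; group
    have h3 : y⁻¹ * b * y = b := by
      calc y⁻¹ * b * y = y⁻¹ * (y * b * y⁻¹) * y := by rw [h1]
        _ = b := by group
    exact hab (h2.trans h3).symm
  have hca' : c ≠ a := by
    intro h
    have : b = a := by
      calc b = y * a * y⁻¹ := hb
        _ = y * c * y⁻¹ := by rw [h]
        _ = a := hca
    exact hab this
  have hsub : ({1, a, b, c} : Set G) ⊆ (W : Set G) := by
    intro x hx
    simp only [Set.mem_insert_iff, Set.mem_singleton_iff] at hx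
    rcases hx with rfl | rfl | rfl | rfl
    · exact W.one_mem
    · exact haW
    · exact hbW
    · exact hcW
  have hcard : ({1, a, b, c} : Set G).ncard = 4 := by
    rw [Set.ncard_insert_of_notMem, Set.ncard_insert_of_notMem, Set.ncard_pair hbc]
    · simp only [Set.mem_insert_iff, Set.mem_singleton_iff, not_or]
      exact ⟨hab.symm, hca'.symm⟩
    · simp only [Set.mem_insert_iff, Set.mem_singleton_iff, not_or]
      exact ⟨ha1.symm, hb1.symm, hc1.symm⟩
  have hW4' : (W : Set G).ncard = 4 := by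
    rw [← cfg.hW4]
    exact (Nat.card_coe_set_eq (W : Set G)).symm
  have hWeq : ({1, a, b, c} : Set G) = (W : Set G) :=
    Set.eq_of_subset_of_ncard_le hsub (by rw [hcard, hW4']) (Set.toFinite _)
  have hmem : ∀ w ∈ W, w = 1 ∨ w = a ∨ w = b ∨ w = c := by
    intro w hw
    have : w ∈ ({1, a, b, c} : Set G) := by rw [hWeq]; exact hw
    simpa only [Set.mem_insert_iff, Set.mem_singleton_iff] using this
  have hoab : orderOf b = orderOf a := by
    have := (MulAut.conj y).orderOf_eq a
    simp only [MulAut.conj_apply] at this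
    rw [hb, this]
  have hobc : orderOf c = orderOf b := by
    have := (MulAut.conj y).orderOf_eq b
    simp only [MulAut.conj_apply] at this
    rw [hc, this]
  obtain ⟨e, he⟩ := exists_prime_orderOf_dvd_card' (G := W) 2 (by rw [cfg.hW4]; norm_num)
  have heo : orderOf (e : G) = 2 := by rw [Subgroup.orderOf_coe]; exact he
  have hoa : orderOf a = 2 := by
    rcases hmem e e.2 with h | h | h | h
    · rw [h, orderOf_one] at heo; omega
    · rw [← h]; exact heo
    · rw [← hoab, ← h]; exact heo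
    · rw [← hoab, ← hobc, ← h]; exact heo
  have hsq : ∀ x : G, orderOf x = 2 → x * x = 1 := by
    intro x hx
    rw [← pow_two, ← hx, pow_orderOf_eq_one]
  constructor
  · intro w hw
    rcases hmem w hw with rfl | rfl | rfl | rfl
    · exact one_mul 1
    · exact hsq _ hoa
    · exact hsq _ (hoab.trans hoa)
    · exact hsq _ (hobc.trans (hoab.trans hoa))
  · intro w hw hw1
    rcases hmem w hw with rfl | rfl | rfl | rfl
    · exact absurd rfl hw1
    · rw [← hb]; exact hab
    · rw [← hc]; exact hbc.symm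
    · rw [hca]; exact hca'.symm

theorem exists_y : ∃ y : G, y ∈ P ∧ y ∉ D := by
  by_contra hcon
  push Not at hcon
  have hle : (P : Subgroup G) ≤ D := fun y hy => hcon y hy
  have := Subgroup.card_dvd_of_le hle
  rw [cfg.card_D hn, (card_sylow3_subgroup hn P).1] at this
  omega

theorem W_sq {w : G} (hw : w ∈ W) : w * w = 1 := by
  obtain ⟨y, hy, hyD⟩ := cfg.exists_y hn
  exact (cfg.W_structure hn hy hyD).1 w hw

theorem W_inv {w : G} (hw : w ∈ W) : w⁻¹ = w :=
  inv_eq_of_mul_eq_one_left (cfg.W_sq hn hw)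

theorem W_comm {a b : G} (ha : a ∈ W) (hb : b ∈ W) : a * b = b * a := by
  have h1 := cfg.W_sq hn (W.mul_mem ha hb)
  have h2 := cfg.W_sq hn ha
  have h3 := cfg.W_sq hn hb
  calc a * b = a * (a * b * (a * b)) * b := by rw [h1, mul_one]
    _ = (a * a) * (b * a) * (b * b) := by group
    _ = b * a := by rw [h2, h3, one_mul, mul_one]

theorem W_moved {y w : G} (hy : y ∈ P) (hyD : y ∉ D) (hw : w ∈ W) (hw1 : w ≠ 1) :
    y * w * y⁻¹ ≠ w :=
  (cfg.W_structure hn hy hyD).2 w hw hw1

theorem sq_not_mem {y : G} (hy : y ∈ P) (hyD : y ∉ D) : y * y ∉ D := by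
  intro h
  apply hyD
  have h3 := cfg.pow_three_mem hn hy
  have : y = y ^ 3 * (y * y)⁻¹ := by
    simp only [pow_succ, pow_zero, one_mul, mul_inv_rev, mul_assoc, mul_inv_cancel_left,
      mul_inv_cancel, mul_one]
  rw [this]
  exact D.mul_mem h3 (D.inv_mem h)

/-- The normalizer of `W` has order `72`. -/
theorem card_normalizer_W : Nat.card (normalizer (W : Set G)) = 72 := by
  have h36 : 36 ∣ Nat.card (normalizer (W : Set G)) := by
    have := Subgroup.card_dvd_of_le cfg.hCN
    rwa [cfg.card_C hn] at this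
  have h8 : 2 ^ (2 + 1) ∣ Nat.card (normalizer (W : Set G)) :=
    Sylow.prime_pow_dvd_card_normalizer (by rw [hn]; norm_num) (by rw [cfg.hW4]; norm_num)
  have h72 : 72 ∣ Nat.card (normalizer (W : Set G)) := by
    have := Nat.lcm_dvd h8 h36
    have hl : Nat.lcm (2 ^ (2 + 1)) 36 = 72 := by decide
    rwa [hl] at this
  have htop : normalizer (W : Set G) ≠ ⊤ := by
    intro htop
    have hnorm : W.Normal := normalizer_eq_top_iff.mp htop
    have h4 := cfg.hW4
    rcases hnorm.eq_bot_or_eq_top with hb | ht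
    · rw [hb, Subgroup.card_bot] at h4
      omega
    · rw [ht, Subgroup.card_top, hn] at h4
      omega
  have h6 := six_le_index hn htop
  have hmi := (normalizer (W : Set G)).card_mul_index
  rw [hn] at hmi
  obtain ⟨k, hk⟩ := h72
  rw [hk] at hmi ⊢
  have hk1 : k = 1 := by
    have hk0 : k ≠ 0 := by
      rintro rfl
      omega
    by_contra hk1
    have : 2 ≤ k := by omega
    nlinarith
  rw [hk1]

/-- `C` is normalized by `N_G(W)`. -/
theorem conj_mem_C {h c : G} (hh : h ∈ normalizer (W : Set G)) (hc : c ∈ C) :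
    h * c * h⁻¹ ∈ C := by
  have hrel : C.relIndex (normalizer (W : Set G)) = 2 := by
    have := card_mul_relIndex_of_le cfg.hCN
    rw [cfg.card_C hn, cfg.card_normalizer_W hn] at this
    omega
  have hnorm : (C.subgroupOf (normalizer (W : Set G))).Normal :=
    Subgroup.normal_of_index_eq_two hrel
  have := hnorm.conj_mem ⟨c, cfg.hCN hc⟩ (mem_subgroupOf.mpr hc) ⟨h, hh⟩
  exact mem_subgroupOf.mp this

end basic

end Cfg

end Cfsg.Agent.Lib.H5.Ord720
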