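import Mathlib
import Cfsg.Agent.Lib.H5.Ord.Ord720b
import Cfsg.Agent.Lib.H2.SylowTI
import Cfsg.Agent.Lib.H2.SimpleAct
import Cfsg.Agent.Lib.H4.Idx2.StarG

set_option autoImplicit false

/-! # No simple group of order 720, part 5: the case of ten Sylow 3-subgroups intersecting
trivially (the group would be sharply triply transitive of degree ten) -/

namespace Cfsg.Agent.Lib.H5.Ord720

open Subgroup MulAction Cfsg.Agent.Lib.H5 Cfsg.Agent.Lib.H2.SylowTI Cfsg.Agent.Lib.H2.SimpleAct
open Cfsg.Agent.Lib.H4.S3T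

variable {G : Type*} [Group G] [Finite G] [IsSimpleGroup G]

section TI

variable (hn : Nat.card G = 720)
  (hTI : ∀ P Q : Sylow 3 G, P ≠ Q → (P : Subgroup G) ⊓ (Q : Subgroup G) = ⊥)
  (h10 : Nat.card (Sylow 3 G) = 9 + 1)

include hn hTI h10

theorem ti_card_two_point_stab {P Q : Sylow 3 G} (hPQ : P ≠ Q) :
    Nat.card (stabilizer G P ⊓ stabilizer G Q : Subgroup G) = 8 := by
  have := card_two_point_stab hTI (fun P => (card_sylow3_subgroup hn P).1) h10 hPQ
  rw [hn] at this
  omega

theorem ti_eq_one_of_forall_smul {g : G} (hg : ∀ R : Sylow 3 G, g • R = R) : g = 1 := by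
  obtain ⟨P, Q, hPQ⟩ : ∃ P Q : Sylow 3 G, P ≠ Q := by
    have : Nontrivial (Sylow 3 G) := by
      rw [← Finite.one_lt_card_iff_nontrivial, h10]
      norm_num
    exact exists_pair_ne _
  obtain ⟨g₀, hg₀⟩ := MulAction.exists_smul_eq G P Q
  exact eq_one_of_forall_smul (g₀ := g₀) (a₀ := P) (by rw [hg₀]; exact fun h => hPQ h.symm) hg

/-- an involution fixing two Sylow 3-subgroups centralizes no non-identity element of either -/
theorem ti_centralizer_trivial {P Q : Sylow 3 G} (hPQ : P ≠ Q) {i : G}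
    (hi1 : i ≠ 1) (hi2 : i * i = 1) (hiP : i • P = P) (hiQ : i • Q = Q) {y : G} (hy : y ∈ P)
    (hc : i * y = y * i) : y = 1 := by
  classical
  have hm : ∀ P : Sylow 3 G, Nat.card (P : Subgroup G) = 9 := fun P => (card_sylow3_subgroup hn P).1
  set K : Subgroup G := (P : Subgroup G) ⊓ centralizer {i} with hK
  have hyK : y ∈ K := by
    refine Subgroup.mem_inf.mpr ⟨hy, ?_⟩
    rw [mem_centralizer_iff]
    intro z hz
    rw [Set.mem_singleton_iff.mp hz]
    exact hc
  have hKd : Nat.card K ∣ 9 := by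
    have := Subgroup.card_dvd_of_le (inf_le_left : K ≤ P)
    rwa [hm P] at this
  have hKP : (K : Set G) ⊆ (P : Set G) := fun z hz => hz.1
  have hfix : {R : Sylow 3 G | i • R = R} = insert P ((fun x : G => x • Q) '' (K : Set G)) := by
    ext R
    simp only [Set.mem_ofPred_eq, Set.mem_insert_iff, Set.mem_image]
    constructor
    · intro hR
      by_cases hRP : R = P
      · exact Or.inl hRP
      · right
        obtain ⟨x, hx, hxe⟩ := exists_mem_smul_eq hTI hm h10 hPQ (fun hh => hRP hh.symm)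
        refine ⟨x, Subgroup.mem_inf.mpr ⟨hx, ?_⟩, hxe⟩
        rw [mem_centralizer_iff]
        intro z hz
        rw [Set.mem_singleton_iff.mp hz]
        exact comm_of_fixed hTI hPQ hiP hiQ hx (by rw [hxe]; exact hR)
    · rintro (rfl | ⟨x, hxK, rfl⟩)
      · exact hiP
      · have hxc : i * x = x * i := by
          have := (mem_centralizer_iff.mp hxK.2) i (Set.mem_singleton i)
          exact this
        rw [← mul_smul, hxc, mul_smul, hiQ]
  have hfc : {R : Sylow 3 G | i • R = R}.ncard = Nat.card K + 1 := by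
    rw [hfix, Set.ncard_insert_of_notMem, ((smul_injOn hTI hPQ).mono hKP).ncard_image]
    · rw [← Nat.card_coe_set_eq]; rfl
    · rintro ⟨x, hxK, hxe⟩
      exact smul_ne_self hPQ hxK.1 hxe
  have h4 := four_dvd_moved (Ω := Sylow 3 G) (by rw [hn]; norm_num) hi2
  rw [hfc, h10] at h4
  have hK1 : Nat.card K = 1 := by
    have hmem : Nat.card K ∈ Nat.divisors 9 := by simp [hKd]
    have hd : Nat.divisors 9 = {1, 3, 9} := by decide
    rw [hd] at hmem
    simp only [Finset.mem_insert, Finset.mem_singleton] at hmem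
    rcases hmem with h1 | h3 | h9
    · exact h1
    · exfalso
      rw [h3] at h4
      omega
    · exfalso
      apply hi1
      apply ti_eq_one_of_forall_smul hn hTI h10
      have huniv : {R : Sylow 3 G | i • R = R} = Set.univ := by
        rw [Set.eq_univ_iff_ncard, hfc, h9, h10]
      intro R
      have : R ∈ {R : Sylow 3 G | i • R = R} := by rw [huniv]; exact Set.mem_univ _
      exact this
  have hKbot : K = ⊥ := Subgroup.card_eq_one.mp hK1
  rw [hKbot] at hyK
  exact Subgroup.mem_bot.mp hyK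

theorem ti_eq_one_of_three_fixed {P Q R : Sylow 3 G} (hPQ : P ≠ Q)
    (hPR : P ≠ R) (hQR : Q ≠ R) {g : G} (hP : g • P = P) (hQ : g • Q = Q) (hR : g • R = R) :
    g = 1 := by
  by_contra hg1
  have hm : ∀ P : Sylow 3 G, Nat.card (P : Subgroup G) = 9 := fun P => (card_sylow3_subgroup hn P).1
  have hmem : g ∈ stabilizer G P ⊓ stabilizer G Q := Subgroup.mem_inf.mpr ⟨hP, hQ⟩
  have hord : orderOf g ∣ 2 ^ 3 := by
    have := orderOf_dvd_natCard (⟨g, hmem⟩ : (stabilizer G P ⊓ stabilizer G Q : Subgroup G))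
    rw [ti_card_two_point_stab hn hTI h10 hPQ] at this
    rwa [Subgroup.orderOf_mk] at this
  have h2 : 2 ∣ orderOf g := by
    obtain ⟨j, -, hj⟩ := (Nat.dvd_prime_pow Nat.prime_two).mp hord
    rcases Nat.eq_zero_or_pos j with h0 | h0
    · rw [h0, pow_zero] at hj
      exact absurd (orderOf_eq_one_iff.mp hj) hg1
    · rw [hj]
      exact dvd_pow_self 2 (by omega)
  have hpos : orderOf g ≠ 0 := (orderOf_pos g).ne'
  have hio : orderOf (g ^ (orderOf g / 2)) = 2 := orderOf_pow_orderOf_div hpos h2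
  set i := g ^ (orderOf g / 2) with hi
  have hiP : i • P = P := (stabilizer G P).pow_mem hP _
  have hiQ : i • Q = Q := (stabilizer G Q).pow_mem hQ _
  have hiR : i • R = R := (stabilizer G R).pow_mem hR _
  have hi1 : i ≠ 1 := by
    intro h1
    rw [h1, orderOf_one] at hio
    omega
  have hi2 : i * i = 1 := by
    rw [← pow_two, ← hio, pow_orderOf_eq_one]
  obtain ⟨x, hx, hxe⟩ := exists_mem_smul_eq hTI hm h10 hPQ hPR
  have hcomm := comm_of_fixed hTI hPQ hiP hiQ hx (by rw [hxe]; exact hiR)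
  have hx1 := ti_centralizer_trivial hn hTI h10 hPQ hi1 hi2 hiP hiQ hx hcomm
  rw [hx1, one_smul] at hxe
  exact hQR hxe

/-- the two-point stabilizer is transitive on the remaining eight points -/
theorem ti_exists_stab_smul_eq {S T R R' : Sylow 3 G} (hST : S ≠ T)
    (hSR : S ≠ R) (hTR : T ≠ R) (hSR' : S ≠ R') (hTR' : T ≠ R') :
    ∃ z : G, z • S = S ∧ z • T = T ∧ z • R = R' := by
  classical
  set H : Subgroup G := stabilizer G S ⊓ stabilizer G T with hH
  have hHc : Nat.card H = 8 := ti_card_two_point_stab hn hTI h10 hST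
  have hinj : Set.InjOn (fun z : G => z • R) (H : Set G) := by
    intro z hz z' hz' hzz
    have hzz' : z • R = z' • R := hzz
    have hzm := Subgroup.mem_inf.mp hz
    have hzm' := Subgroup.mem_inf.mp hz'
    have h1 : (z'⁻¹ * z) • R = R := by rw [mul_smul, hzz', inv_smul_smul]
    have h2 : (z'⁻¹ * z) • S = S := by
      rw [mul_smul, mem_stabilizer_iff.mp hzm.1, inv_smul_eq_iff, mem_stabilizer_iff.mp hzm'.1]
    have h3 : (z'⁻¹ * z) • T = T := by
      rw [mul_smul, mem_stabilizer_iff.mp hzm.2, inv_smul_eq_iff, mem_stabilizer_iff.mp hzm'.2]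
    have := ti_eq_one_of_three_fixed hn hTI h10 hST hSR hTR h2 h3 h1
    exact (inv_mul_eq_one.mp this).symm
  have hsub : (fun z : G => z • R) '' (H : Set G) ⊆ ({S, T} : Set (Sylow 3 G))ᶜ := by
    rintro _ ⟨z, hz, rfl⟩
    have hzm := Subgroup.mem_inf.mp hz
    simp only [Set.mem_compl_iff, Set.mem_insert_iff, Set.mem_singleton_iff, not_or]
    constructor
    · intro hh
      apply hSR
      have : z • R = z • S := by rw [hh, mem_stabilizer_iff.mp hzm.1]
      exact (smul_left_cancel z this).symm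
    · intro hh
      apply hTR
      have : z • R = z • T := by rw [hh, mem_stabilizer_iff.mp hzm.2]
      exact (smul_left_cancel z this).symm
  have hH8 : (H : Set G).ncard = 8 := by
    rw [← hHc]
    exact (Nat.card_coe_set_eq (H : Set G)).symm
  have hcard : (({S, T} : Set (Sylow 3 G))ᶜ).ncard ≤ ((fun z : G => z • R) '' (H : Set G)).ncard := by
    rw [hinj.ncard_image, Set.ncard_compl, h10, Set.ncard_pair hST, hH8]
  have heq := Set.eq_of_subset_of_ncard_le hsub hcard (Set.toFinite _)
  have hmem : R' ∈ ({S, T} : Set (Sylow 3 G))ᶜ := by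
    simp only [Set.mem_compl_iff, Set.mem_insert_iff, Set.mem_singleton_iff, not_or]
    exact ⟨fun hh => hSR' hh.symm, fun hh => hTR' hh.symm⟩
  rw [← heq] at hmem
  obtain ⟨z, hz, hze⟩ := hmem
  have hzm := Subgroup.mem_inf.mp hz
  exact ⟨z, mem_stabilizer_iff.mp hzm.1, mem_stabilizer_iff.mp hzm.2, hze⟩

theorem ti_sharp3 : Sharp3 G (Sylow 3 G) := by
  have hm : ∀ P : Sylow 3 G, Nat.card (P : Subgroup G) = 9 := fun P => (card_sylow3_subgroup hn P).1
  constructor
  · intro u v w u' v' w' huv huw hvw huv' huw' hvw'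
    have h2 := two_pretransitive hTI hm h10
    rw [is_two_pretransitive_iff] at h2
    obtain ⟨g1, hg1u, hg1v⟩ := h2 huv huv'
    have h1 : u' ≠ g1 • w := by
      intro hh
      rw [← hg1u] at hh
      exact huw (smul_left_cancel g1 hh)
    have h2' : v' ≠ g1 • w := by
      intro hh
      rw [← hg1v] at hh
      exact hvw (smul_left_cancel g1 hh)
    obtain ⟨z, hzu, hzv, hzw⟩ := ti_exists_stab_smul_eq hn hTI h10 huv' h1 h2' huw' hvw'
    refine ⟨z * g1, ?_, ?_, ?_⟩
    · rw [mul_smul, hg1u, hzu]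
    · rw [mul_smul, hg1v, hzv]
    · rw [mul_smul, hzw]
  · intro g u v w huv huw hvw h1 h2 h3
    exact ti_eq_one_of_three_fixed hn hTI h10 huv huw hvw h1 h2 h3

/-- The case of trivially intersecting Sylow 3-subgroups is impossible. -/
theorem ti_false : False := by
  classical
  have : Fintype (Sylow 3 G) := Fintype.ofFinite _
  have hcard : Fintype.card (Sylow 3 G) = 10 := by
    rw [← Nat.card_eq_fintype_card, h10]
  obtain ⟨M, hM⟩ := Cfsg.Agent.Lib.H4.Idx2.exists_index_two_of_sharp3 (ti_sharp3 hn hTI h10)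
    (by rw [hcard]; decide) (by rw [hcard]; norm_num)
  have hMn : M.Normal := Subgroup.normal_of_index_eq_two hM
  rcases hMn.eq_bot_or_eq_top with hb | ht
  · rw [hb, Subgroup.index_bot, hn] at hM
    omega
  · rw [ht, Subgroup.index_top] at hM
    omega

end TI

end Cfsg.Agent.Lib.H5.Ord720
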