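import Mathlib
import Cfsg.Agent.Lib.H5.Ord.Ord720d

set_option autoImplicit false

/-! # No simple group of order 720, part 5: two Sylow 3-subgroups cannot meet non-trivially.
The involution `t` whose centralizer is a Sylow 2-subgroup containing `W` -/

namespace Cfsg.Agent.Lib.H5.Ord720

open Subgroup MulAction Cfsg.Agent.Lib.H5 Cfsg.Agent.Lib.H5.SylPrime

variable {G : Type*} [Group G] [Finite G] [IsSimpleGroup G]

/-- A Sylow 2-subgroup `S = C_G(t)` containing `W`. -/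
structure Loc (W : Subgroup G) (S : Sylow 2 G) (t : G) : Prop where
  hWS : W ≤ (S : Subgroup G)
  ht : orderOf t = 2
  hS : centralizer ({t} : Set G) = (S : Subgroup G)

namespace Cfg

variable {P Q : Sylow 3 G} {D C W : Subgroup G}

theorem exists_loc (hn : Nat.card G = 720) (cfg : Cfg P Q D C W) :
    ∃ (S : Sylow 2 G) (t : G), Loc W S t := by
  have hp : IsPGroup 2 W := IsPGroup.of_card (n := 2) (by rw [cfg.hW4]; norm_num)
  obtain ⟨S, hS⟩ := hp.exists_le_sylow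
  obtain ⟨t, u, -, ht, hSeq⟩ := sylow2_eq_centralizer hn S
  exact ⟨S, t, ⟨hS, ht, hSeq⟩⟩

section loc

variable {S : Sylow 2 G} {t : G} (hn : Nat.card G = 720) (cfg : Cfg P Q D C W) (loc : Loc W S t)

include loc

theorem t_sq : t * t = 1 := by
  rw [← pow_two, ← loc.ht, pow_orderOf_eq_one]

theorem t_ne_one : t ≠ 1 := by
  intro h1
  have := loc.ht
  rw [h1, orderOf_one] at this
  omega

theorem t_inv : t⁻¹ = t := inv_eq_of_mul_eq_one_left (t_sq loc)

theorem t_comm_S {s : G} (hs : s ∈ S) : t * s = s * t := by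
  have : s ∈ centralizer ({t} : Set G) := loc.hS ▸ hs
  rw [mem_centralizer_singleton_iff] at this
  exact this.symm

theorem t_comm_W {w : G} (hw : w ∈ W) : t * w = w * t := t_comm_S loc (loc.hWS hw)

theorem t_mem_S : t ∈ (S : Subgroup G) := by
  rw [← loc.hS, mem_centralizer_singleton_iff]

theorem t_mem_normalizer : t ∈ normalizer (W : Set G) := by
  apply Subgroup.mem_normalizer_fintype
  intro w hw
  have : t * w * t⁻¹ = w := by rw [t_comm_W loc hw, mul_inv_cancel_right]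
  rw [this]
  exact hw

include hn

theorem card_centralizer_t : Nat.card (centralizer ({t} : Set G)) = 2 ^ 4 := by
  rw [loc.hS, (card_sylow2_subgroup hn S).1]; norm_num

include cfg

theorem t_not_mem_C : t ∉ C := by
  intro htC
  obtain ⟨d, hdD, hdo⟩ := cfg.exists_d hn
  have := cfg.D_central hdD htC
  exact not_commute_of_card_centralizer (card_centralizer_t hn loc) (by rw [hdo]) this.symm

theorem t_not_mem_W : t ∉ W := fun h => t_not_mem_C hn cfg loc (cfg.hWC h)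

/-- `t` inverts `D`. -/
theorem t_inverts_D {d : G} (hd : d ∈ D) : t * d * t⁻¹ = d⁻¹ := by
  classical
  by_cases hd1 : d = 1
  · rw [hd1]; group
  have htH := t_mem_normalizer loc
  have htH' : t⁻¹ ∈ normalizer (W : Set G) := inv_mem htH
  have hdo : orderOf d = 3 := by
    have := orderOf_dvd_natCard (⟨d, hd⟩ : D)
    rw [cfg.card_D hn, Subgroup.orderOf_mk] at this
    rcases (Nat.dvd_prime Nat.prime_three).mp this with h1 | h3
    · exact absurd (orderOf_eq_one_iff.mp h1) hd1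
    · exact h3
  set d' := t * d * t⁻¹ with hd'
  have hd'o : orderOf d' = 3 := by
    have := (MulAut.conj t).orderOf_eq d
    simp only [MulAut.conj_apply] at this
    rw [hd', this, hdo]
  have hdC : d ∈ C := cfg.P_le_C hn (cfg.D_le_P hd)
  have hd'C : d' ∈ C := cfg.conj_mem_C hn htH hdC
  -- d' is central in C
  have hcent : ∀ c ∈ C, d' * c = c * d' := by
    intro c hc
    have hc' : t⁻¹ * c * t⁻¹⁻¹ ∈ C := cfg.conj_mem_C hn htH' hc
    have h1 := cfg.D_central hd hc'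
    calc d' * c = t * (d * (t⁻¹ * c * t⁻¹⁻¹)) * t⁻¹ := by rw [hd']; group
      _ = t * ((t⁻¹ * c * t⁻¹⁻¹) * d) * t⁻¹ := by rw [h1]
      _ = c * d' := by rw [hd']; group
  have hp : IsPGroup 3 (zpowers d') :=
    IsPGroup.of_card (n := 1) (by rw [Nat.card_zpowers, hd'o]; norm_num)
  have hnormP : ∀ R : Sylow 3 G, (R : Subgroup G) ≤ C → d' ∈ R := by
    intro R hRC
    apply mem_sylow_of_mem_normalizer R hp
    apply Subgroup.mem_normalizer_fintype
    intro x hx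
    have : d' * x * d'⁻¹ = x := by rw [hcent x (hRC hx), mul_inv_cancel_right]
    rw [this]
    exact hx
  have hd'D : d' ∈ D := by
    rw [cfg.hDdef]
    exact ⟨hnormP P (cfg.P_le_C hn), hnormP Q (cfg.Q_le_C hn)⟩
  have hzD : zpowers d = D := by
    apply Subgroup.eq_of_le_of_card_ge
    · rw [zpowers_le]; exact hd
    · rw [Nat.card_zpowers, hdo, cfg.card_D hn]
  rw [← hzD, mem_zpowers_iff_mem_range_orderOf, hdo] at hd'D
  simp only [Finset.mem_image, Finset.mem_range] at hd'D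
  obtain ⟨j, hj, hje⟩ := hd'D
  have hd3 : d ^ 3 = 1 := by rw [← hdo]; exact pow_orderOf_eq_one d
  interval_cases j
  · exfalso
    rw [pow_zero] at hje
    rw [← hje, orderOf_one] at hd'o
    omega
  · exfalso
    rw [pow_one] at hje
    have hcomm : t * d = d * t := by
      calc t * d = (t * d * t⁻¹) * t := by group
        _ = d * t := by rw [← hd', ← hje]
    exact not_commute_of_card_centralizer (card_centralizer_t hn loc) (by rw [hdo]) hcomm
  · rw [← hje]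
    calc d ^ 2 = d ^ 3 * d⁻¹ := by
          simp only [pow_succ, pow_zero, one_mul, mul_assoc, mul_inv_cancel, mul_one]
      _ = d⁻¹ := by rw [hd3, one_mul]

/-- Some `w ∈ W` such that `w t` normalizes `P`. -/
theorem exists_w_star : ∃ w ∈ W, (w * t) • P = P := by
  have htH := t_mem_normalizer loc
  have hRC : ((t • P : Sylow 3 G) : Subgroup G) ≤ C := by
    intro x hx
    rw [Sylow.coe_subgroup_smul, Subgroup.mem_pointwise_smul_iff_inv_smul_mem, MulAut.smul_def,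
      MulAut.conj_inv_apply] at hx
    have := cfg.conj_mem_C hn htH (cfg.P_le_C hn hx)
    have e : t * (t⁻¹ * x * t) * t⁻¹ = x := by group
    rwa [e] at this
  obtain ⟨c, hcC, hc⟩ := exists_mem_smul_eq_of_le (cfg.P_le_C hn) hRC
  obtain ⟨w, hw, x, hx, rfl⟩ := cfg.hfac c hcC
  refine ⟨w, hw, ?_⟩
  have hxP : x • P = P := Sylow.smul_eq_iff_mem_normalizer.mpr (le_normalizer hx)
  have h1 : w • P = t • P := by
    rw [← hc]
    change _ = (w * x) • P
    rw [mul_smul, hxP]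
  rw [mul_smul, ← h1, ← mul_smul, cfg.W_sq hn hw, one_smul]

/-- The conjugates `w₁ t`, `w₂ t` of `t`. -/
theorem A_claim : ∃ w₁ w₂ : G, w₁ ∈ W ∧ w₂ ∈ W ∧ w₁ ≠ 1 ∧ w₂ ≠ 1 ∧ w₁ ≠ w₂ ∧
    IsConj t (w₁ * t) ∧ IsConj t (w₂ * t) := by
  obtain ⟨w, hw, hzP⟩ := exists_w_star hn cfg loc
  set z := w * t with hz
  have hzN : z ∈ normalizer ((P : Subgroup G) : Set G) := Sylow.smul_eq_iff_mem_normalizer.mp hzP
  have htt := t_sq loc
  have hww := cfg.W_sq hn hw
  have hzz : z * z = 1 := by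
    calc z * z = w * (t * w) * t := by rw [hz]; group
      _ = w * (w * t) * t := by rw [t_comm_W loc hw]
      _ = (w * w) * (t * t) := by group
      _ = 1 := by rw [hww, htt, one_mul]
  have hzinv : z⁻¹ = z := inv_eq_of_mul_eq_one_left hzz
  have hzW : ∀ a ∈ W, z * a = a * z := by
    intro a ha
    calc z * a = w * (t * a) := by rw [hz]; group
      _ = w * (a * t) := by rw [t_comm_W loc ha]
      _ = (w * a) * t := by group
      _ = (a * w) * t := by rw [cfg.W_comm hn hw ha]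
      _ = a * z := by rw [hz]; group
  have hzD : ∀ d ∈ D, z * d * z⁻¹ = d⁻¹ := by
    intro d hd
    have h1 := t_inverts_D hn cfg loc hd
    have h2 := cfg.D_central (D.inv_mem hd) (cfg.hWC hw)
    calc z * d * z⁻¹ = w * (t * d * t⁻¹) * w⁻¹ := by rw [hz]; group
      _ = w * d⁻¹ * w⁻¹ := by rw [h1]
      _ = d⁻¹ := by rw [← h2, mul_inv_cancel_right]
  have hzconj : ∀ x ∈ (P : Subgroup G), z * x * z⁻¹ ∈ (P : Subgroup G) :=
    fun x hx => (mem_normalizer_iff.mp hzN x).mp hx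
  -- an element of P \ D commuting with z
  have hex : ∃ y : G, y ∈ P ∧ y ∉ D ∧ z * y = y * z := by
    obtain ⟨y₀, hy₀, hy₀D⟩ := cfg.exists_y hn
    set y₁ := y₀ * (z * y₀ * z⁻¹) with hy₁
    have hy₁P : y₁ ∈ (P : Subgroup G) := mul_mem hy₀ (hzconj y₀ hy₀)
    have hfix : z * y₁ * z⁻¹ = y₁ := by
      calc z * y₁ * z⁻¹ = (z * y₀ * z⁻¹) * ((z * z) * y₀ * (z * z)⁻¹) := by rw [hy₁]; group
        _ = (z * y₀ * z⁻¹) * y₀ := by rw [hzz]; group
        _ = y₁ := by rw [hy₁]; exact sylow3_comm hn P (hzconj y₀ hy₀) hy₀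
    by_cases hy₁D : y₁ ∈ D
    · exfalso
      have h1 := hzD y₁ hy₁D
      rw [hfix] at h1
      have hsq : y₁ * y₁ = 1 := by
        calc y₁ * y₁ = y₁ * y₁⁻¹ := by rw [← h1]
          _ = 1 := mul_inv_cancel _
      have h3 : y₁ ^ 3 = 1 := by
        have := orderOf_dvd_natCard (⟨y₁, hy₁D⟩ : D)
        rw [cfg.card_D hn, Subgroup.orderOf_mk] at this
        exact orderOf_dvd_iff_pow_eq_one.mp this
      have hy₁1 : y₁ = 1 := by
        calc y₁ = y₁ ^ 3 * (y₁ * y₁)⁻¹ := by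
              simp only [pow_succ, pow_zero, one_mul, mul_inv_rev, mul_assoc, mul_inv_cancel_left,
                mul_inv_cancel, mul_one]
          _ = 1 := by rw [h3, hsq, inv_one, mul_one]
      have hinv : z * y₀ * z⁻¹ = y₀⁻¹ := by
        rw [hy₁] at hy₁1
        exact (inv_eq_of_mul_eq_one_right hy₁1).symm
      -- a non-identity element of W
      have hWnt : Nontrivial W := by
        rw [← Finite.one_lt_card_iff_nontrivial, cfg.hW4]; norm_num
      obtain ⟨a, ha⟩ := exists_ne (1 : W)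
      have haW : (a : G) ∈ W := a.2
      have ha1 : (a : G) ≠ 1 := fun h => ha (Subtype.ext h)
      have hy₀N : y₀ ∈ normalizer (W : Set G) := cfg.hCN (cfg.P_le_C hn hy₀)
      have ha'W : y₀ * (a : G) * y₀⁻¹ ∈ W := (mem_normalizer_iff.mp hy₀N _).mp haW
      have e1 : z * (y₀ * (a : G) * y₀⁻¹) * z⁻¹ = y₀ * (a : G) * y₀⁻¹ := by
        rw [hzW _ ha'W, mul_inv_cancel_right]
      have e2 : z * (y₀ * (a : G) * y₀⁻¹) * z⁻¹ = y₀⁻¹ * (a : G) * y₀ := by
        have hza : z * (a : G) * z⁻¹ = (a : G) := by rw [hzW _ haW, mul_inv_cancel_right]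
        calc z * (y₀ * (a : G) * y₀⁻¹) * z⁻¹
            = (z * y₀ * z⁻¹) * (z * (a : G) * z⁻¹) * (z * y₀ * z⁻¹)⁻¹ := by group
          _ = y₀⁻¹ * (a : G) * y₀ := by rw [hinv, hza, inv_inv]
      have e3 : (y₀ * y₀) * (a : G) * (y₀ * y₀)⁻¹ = (a : G) := by
        have : y₀ * (a : G) * y₀⁻¹ = y₀⁻¹ * (a : G) * y₀ := e1.symm.trans e2
        calc (y₀ * y₀) * (a : G) * (y₀ * y₀)⁻¹ = y₀ * (y₀ * (a : G) * y₀⁻¹) * y₀⁻¹ := by group
          _ = y₀ * (y₀⁻¹ * (a : G) * y₀) * y₀⁻¹ := by rw [this]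
          _ = (a : G) := by group
      exact cfg.W_moved hn (mul_mem hy₀ hy₀) (cfg.sq_not_mem hn hy₀ hy₀D) haW ha1 e3
    · refine ⟨y₁, hy₁P, hy₁D, ?_⟩
      calc z * y₁ = (z * y₁ * z⁻¹) * z := by group
        _ = y₁ * z := by rw [hfix]
  obtain ⟨y, hy, hyD, hzy⟩ := hex
  have hy1 : y ≠ 1 := fun h => hyD (h ▸ D.one_mem)
  have hyo3 : 3 ∣ orderOf y := by
    have := orderOf_dvd_natCard (⟨y, hy⟩ : (P : Subgroup G))
    rw [(card_sylow3_subgroup hn P).1, Subgroup.orderOf_mk] at this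
    have hmem : orderOf y ∈ Nat.divisors 9 := by simp [this]
    have hdiv : Nat.divisors 9 = {1, 3, 9} := by decide
    rw [hdiv] at hmem
    simp only [Finset.mem_insert, Finset.mem_singleton] at hmem
    rcases hmem with h1 | h3 | h9
    · exact absurd (orderOf_eq_one_iff.mp h1) hy1
    · rw [h3]
    · rw [h9]; norm_num
  have hw1 : w ≠ 1 := by
    intro h1
    rw [hz, h1, one_mul] at hzy
    exact not_commute_of_card_centralizer (card_centralizer_t hn loc) hyo3 hzy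
  have hyN : y ∈ normalizer (W : Set G) := cfg.hCN (cfg.P_le_C hn hy)
  have hyinvN : y⁻¹ ∈ normalizer (W : Set G) := inv_mem hyN
  have htwz : t = w * z := by
    rw [hz, ← mul_assoc, hww, one_mul]
  have hyinvD : y⁻¹ ∉ D := fun h => hyD (by simpa using D.inv_mem h)
  have hzyinv : z * y⁻¹ = y⁻¹ * z := by
    calc z * y⁻¹ = y⁻¹ * (y * z) * y⁻¹ := by group
      _ = y⁻¹ * (z * y) * y⁻¹ := by rw [hzy]
      _ = y⁻¹ * z := by group
  have hm1 := cfg.W_moved hn hy hyD hw hw1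
  have hm2 := cfg.W_moved hn (inv_mem hy) hyinvD hw hw1
  have hm3 := cfg.W_moved hn (mul_mem hy hy) (cfg.sq_not_mem hn hy hyD) hw hw1
  have hc1 : y * w * y⁻¹ ∈ W := (mem_normalizer_iff.mp hyN w).mp hw
  have hc2 : y⁻¹ * w * y⁻¹⁻¹ ∈ W := (mem_normalizer_iff.mp hyinvN w).mp hw
  refine ⟨y * w * y⁻¹ * w, y⁻¹ * w * y⁻¹⁻¹ * w, W.mul_mem hc1 hw, W.mul_mem hc2 hw, ?_, ?_, ?_, ?_, ?_⟩
  · intro h
    apply hm1
    calc y * w * y⁻¹ = (y * w * y⁻¹ * w) * w⁻¹ := by group
      _ = w := by rw [h, one_mul, cfg.W_inv hn hw]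
  · intro h
    apply hm2
    calc y⁻¹ * w * y⁻¹⁻¹ = (y⁻¹ * w * y⁻¹⁻¹ * w) * w⁻¹ := by group
      _ = w := by rw [h, one_mul, cfg.W_inv hn hw]
  · intro h
    apply hm3
    have h' : y * w * y⁻¹ = y⁻¹ * w * y⁻¹⁻¹ := mul_right_cancel h
    calc (y * y) * w * (y * y)⁻¹ = y * (y * w * y⁻¹) * y⁻¹ := by group
      _ = y * (y⁻¹ * w * y⁻¹⁻¹) * y⁻¹ := by rw [h']
      _ = w := by group
  · rw [isConj_iff]
    refine ⟨y, ?_⟩
    calc y * t * y⁻¹ = (y * w * y⁻¹) * (y * z) * y⁻¹ := by rw [htwz]; group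
      _ = (y * w * y⁻¹) * (z * y) * y⁻¹ := by rw [hzy]
      _ = (y * w * y⁻¹) * z := by group
      _ = y * w * y⁻¹ * w * t := by rw [hz]; group
  · rw [isConj_iff]
    refine ⟨y⁻¹, ?_⟩
    calc y⁻¹ * t * y⁻¹⁻¹ = (y⁻¹ * w * y⁻¹⁻¹) * (y⁻¹ * z) * y⁻¹⁻¹ := by rw [htwz]; group
      _ = (y⁻¹ * w * y⁻¹⁻¹) * (z * y⁻¹) * y⁻¹⁻¹ := by rw [hzyinv]
      _ = (y⁻¹ * w * y⁻¹⁻¹) * z := by group
      _ = y⁻¹ * w * y⁻¹⁻¹ * w * t := by rw [hz]; group

end loc

end Cfg

end Cfsg.Agent.Lib.H5.Ord720
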