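import Mathlib
import Cfsg.Agent.Lib.H5.Ord.Ord720f

set_option autoImplicit false

/-! # No simple group of order 720, part 6: two Sylow 3-subgroups cannot meet non-trivially.
Fusion in the elementary abelian group `W × ⟨t⟩` and the final contradiction -/

namespace Cfsg.Agent.Lib.H5.Ord720

open Subgroup MulAction Cfsg.Agent.Lib.H5 Cfsg.Agent.Lib.H5.SylPrime

variable {G : Type*} [Group G] [Finite G] [IsSimpleGroup G]

namespace Cfg

variable {P Q : Sylow 3 G} {D C W : Subgroup G}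

section loc

variable {S : Sylow 2 G} {t : G} (hn : Nat.card G = 720) (cfg : Cfg P Q D C W) (loc : Loc W S t)

include hn cfg loc

/-- Two elements `w₃ t`, `w₄ t` commuting with elements of order `3`. -/
theorem B_claim : ∃ w₃ w₄ : G, w₃ ∈ W ∧ w₄ ∈ W ∧ w₃ ≠ w₄ ∧
    (∃ e : G, orderOf e = 3 ∧ (w₃ * t) * e = e * (w₃ * t)) ∧
    (∃ e : G, orderOf e = 3 ∧ (w₄ * t) * e = e * (w₄ * t)) := by
  have htt := t_sq loc
  set T₈ : Subgroup G := (S : Subgroup G) ⊓ normalizer (W : Set G) with hT₈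
  have hWT : W ≤ T₈ := le_inf loc.hWS le_normalizer
  have htT : t ∈ T₈ := ⟨t_mem_S loc, t_mem_normalizer loc⟩
  have hSc := (card_sylow2_subgroup hn S).1
  have hT8 : Nat.card T₈ = 8 := by
    have h16 : Nat.card T₈ ∣ 16 := hSc ▸ Subgroup.card_dvd_of_le (inf_le_left : T₈ ≤ S)
    have h72 : Nat.card T₈ ∣ 72 :=
      cfg.card_normalizer_W hn ▸ Subgroup.card_dvd_of_le (inf_le_right : T₈ ≤ _)
    have h8 : Nat.card T₈ ∣ 8 := by
      have := Nat.dvd_gcd h16 h72
      have hg : Nat.gcd 16 72 = 8 := by decide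
      rwa [hg] at this
    have h4 : 4 ∣ Nat.card T₈ := cfg.hW4 ▸ Subgroup.card_dvd_of_le hWT
    have hne4 : Nat.card T₈ ≠ 4 := by
      intro h
      have : W = T₈ := Subgroup.eq_of_le_of_card_ge hWT (by rw [h, cfg.hW4])
      exact t_not_mem_W hn cfg loc (this ▸ htT)
    have hle : Nat.card T₈ ≤ 8 := Nat.le_of_dvd (by norm_num) h8
    have hpos : 0 < Nat.card T₈ := Nat.card_pos
    obtain ⟨k, hk⟩ := h4
    rw [hk] at hle hne4 h8 ⊢
    have : k = 1 ∨ k = 2 := by omega
    rcases this with h | h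
    · rw [h] at hne4; omega
    · rw [h]
  -- T₈ is normal in S
  have hTS : T₈ ≤ (S : Subgroup G) := inf_le_left
  have hrelTS : T₈.relIndex (S : Subgroup G) = 2 := by
    have := card_mul_relIndex_of_le hTS
    rw [hT8, hSc] at this
    omega
  have hnormT : (T₈.subgroupOf (S : Subgroup G)).Normal := Subgroup.normal_of_index_eq_two hrelTS
  have hconjT : ∀ g ∈ (S : Subgroup G), ∀ x ∈ T₈, g * x * g⁻¹ ∈ T₈ := by
    intro g hg x hx
    have := hnormT.conj_mem ⟨x, hTS hx⟩ (mem_subgroupOf.mpr hx) ⟨g, hg⟩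
    exact mem_subgroupOf.mp this
  -- W has index 2 in T₈
  have hrelWT : (W.subgroupOf T₈).index = 2 := by
    have := card_mul_relIndex_of_le hWT
    rw [hT8, cfg.hW4] at this
    have h2 : W.relIndex T₈ = 2 := by omega
    exact h2
  have hprod : ∀ x ∈ T₈, ∀ x' ∈ T₈, x ∉ W → x' ∉ W → x * x' ∈ W := by
    intro x hx x' hx' hxW hx'W
    have := (Subgroup.mul_mem_iff_of_index_two hrelWT (a := (⟨x, hx⟩ : T₈))
      (b := (⟨x', hx'⟩ : T₈))).mpr
      ⟨fun h => absurd (mem_subgroupOf.mp h) hxW, fun h => absurd (mem_subgroupOf.mp h) hx'W⟩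
    exact mem_subgroupOf.mp this
  -- an element of S outside T₈
  have hexg : ∃ g : G, g ∈ (S : Subgroup G) ∧ g ∉ T₈ := by
    by_contra hcon
    push Not at hcon
    have hle : (S : Subgroup G) ≤ T₈ := fun g hg => hcon g hg
    have := Subgroup.card_dvd_of_le hle
    rw [hT8, hSc] at this
    omega
  obtain ⟨g, hgS, hgT⟩ := hexg
  have hgN : g ∉ normalizer (W : Set G) := fun h => hgT ⟨hgS, h⟩
  -- the key property of elements of W moved out of W
  obtain ⟨d, hdD, hdo⟩ := cfg.exists_d hn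
  have key : ∀ a ∈ W, g * a * g⁻¹ ∉ W → g * a * g⁻¹ * t ∈ W ∧
      ∃ e : G, orderOf e = 3 ∧ (g * a * g⁻¹ * t * t) * e = e * (g * a * g⁻¹ * t * t) := by
    intro a ha hna
    have hxT : g * a * g⁻¹ ∈ T₈ := hconjT g hgS a (hWT ha)
    refine ⟨hprod _ hxT t htT hna (t_not_mem_W hn cfg loc), g * d * g⁻¹, ?_, ?_⟩
    · have := (MulAut.conj g).orderOf_eq d
      simp only [MulAut.conj_apply] at this
      rw [this, hdo]
    · have hcomm := cfg.D_central hdD (cfg.hWC ha)
      rw [mul_assoc (g * a * g⁻¹), htt, mul_one]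
      calc g * a * g⁻¹ * (g * d * g⁻¹) = g * (a * d) * g⁻¹ := by group
        _ = g * (d * a) * g⁻¹ := by rw [hcomm]
        _ = g * d * g⁻¹ * (g * a * g⁻¹) := by group
  -- a first element of W moved out of W
  have hex0 : ∃ a₀ ∈ W, g * a₀ * g⁻¹ ∉ W := by
    by_contra hcon
    push Not at hcon
    exact hgN (Subgroup.mem_normalizer_fintype hcon)
  obtain ⟨a₀, ha₀, hna₀⟩ := hex0
  have ha₀1 : a₀ ≠ 1 := by
    rintro rfl
    apply hna₀
    simp
  -- a second one
  have hex1 : ∃ a₁ ∈ W, a₁ ≠ a₀ ∧ g * a₁ * g⁻¹ ∉ W := by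
    -- an element a' of W different from 1 and a₀
    have hex' : ∃ a' ∈ W, a' ≠ 1 ∧ a' ≠ a₀ := by
      by_contra hcon
      push Not at hcon
      have hsub : (W : Set G) ⊆ {1, a₀} := by
        intro x hx
        by_cases h1 : x = 1
        · rw [h1]; exact Set.mem_insert _ _
        · rw [hcon x hx h1]; exact Set.mem_insert_of_mem _ rfl
      have h2 := Set.ncard_le_ncard hsub (Set.toFinite _)
      have hW4' : (W : Set G).ncard = 4 := by
        rw [← cfg.hW4]
        exact (Nat.card_coe_set_eq (W : Set G)).symm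
      have h3 : ({1, a₀} : Set G).ncard ≤ 2 := by
        calc _ ≤ ({a₀} : Set G).ncard + 1 := Set.ncard_insert_le _ _
          _ = 2 := by rw [Set.ncard_singleton]
      omega
    obtain ⟨a', ha', ha'1, ha'0⟩ := hex'
    by_cases h1 : g * a' * g⁻¹ ∈ W
    · refine ⟨a₀ * a', W.mul_mem ha₀ ha', ?_, ?_⟩
      · intro h
        apply ha'1
        calc a' = a₀⁻¹ * (a₀ * a') := by group
          _ = 1 := by rw [h, inv_mul_cancel]
      · intro h2
        apply hna₀
        have : g * a₀ * g⁻¹ = (g * (a₀ * a') * g⁻¹) * (g * a' * g⁻¹)⁻¹ := by group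
        rw [this]
        exact W.mul_mem h2 (W.inv_mem h1)
    · exact ⟨a', ha', ha'0, h1⟩
  obtain ⟨a₁, ha₁, ha₁0, hna₁⟩ := hex1
  obtain ⟨h3W, e3, he3, hc3⟩ := key a₀ ha₀ hna₀
  obtain ⟨h4W, e4, he4, hc4⟩ := key a₁ ha₁ hna₁
  refine ⟨g * a₀ * g⁻¹ * t, g * a₁ * g⁻¹ * t, h3W, h4W, ?_, ⟨e3, he3, hc3⟩, ⟨e4, he4, hc4⟩⟩
  intro h
  apply ha₁0
  have h' : g * a₀ * g⁻¹ = g * a₁ * g⁻¹ := mul_right_cancel h
  have h'' : g * a₀ = g * a₁ := mul_right_cancel h'
  exact (mul_left_cancel h'').symm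

/-- The final contradiction. -/
theorem false_of_cfg : False := by
  obtain ⟨w₁, w₂, hw₁, hw₂, hw₁1, hw₂1, hw₁₂, hc₁, hc₂⟩ := A_claim hn cfg loc
  obtain ⟨w₃, w₄, hw₃, hw₄, hw₃₄, ⟨e₃, he₃, hc₃⟩, ⟨e₄, he₄, hc₄⟩⟩ := B_claim hn cfg loc
  have h16 := card_centralizer_t hn loc
  -- conjugates of t have centralizers of order 16
  have hcard : ∀ x : G, IsConj t x → Nat.card (centralizer ({x} : Set G)) = 2 ^ 4 := by
    intro x hx
    obtain ⟨c, hc⟩ := isConj_iff.mp hx
    rw [← h16, ← hc]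
    have hinj : (centralizer ({c * t * c⁻¹} : Set G)) =
        (centralizer ({t} : Set G)).map (MulAut.conj c).toMonoidHom := by
      ext y
      rw [Subgroup.mem_map, mem_centralizer_singleton_iff]
      constructor
      · intro hy
        refine ⟨c⁻¹ * y * c, ?_, ?_⟩
        · rw [mem_centralizer_singleton_iff]
          calc c⁻¹ * y * c * t = c⁻¹ * (y * (c * t * c⁻¹)) * c := by group
            _ = c⁻¹ * ((c * t * c⁻¹) * y) * c := by rw [hy]
            _ = t * (c⁻¹ * y * c) := by group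
        · simp only [MulEquiv.coe_toMonoidHom, MulAut.conj_apply]
          group
      · rintro ⟨y', hy', rfl⟩
        rw [mem_centralizer_singleton_iff] at hy'
        simp only [MulEquiv.coe_toMonoidHom, MulAut.conj_apply]
        calc c * y' * c⁻¹ * (c * t * c⁻¹) = c * (y' * t) * c⁻¹ := by group
          _ = c * (t * y') * c⁻¹ := by rw [hy']
          _ = c * t * c⁻¹ * (c * y' * c⁻¹) := by group
    rw [hinj]
    exact Subgroup.card_map_of_injective (MulAut.conj c).injective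
  -- so no conjugate of t commutes with an element of order 3
  have hno : ∀ w : G, IsConj t (w * t) → ∀ e : G, orderOf e = 3 → (w * t) * e ≠ e * (w * t) := by
    intro w hw e he
    exact not_commute_of_card_centralizer (hcard _ hw) (by rw [he])
  have h31 : w₃ ≠ 1 := by
    rintro rfl
    rw [one_mul] at hc₃
    exact not_commute_of_card_centralizer h16 (by rw [he₃]) hc₃
  have h41 : w₄ ≠ 1 := by
    rintro rfl
    rw [one_mul] at hc₄
    exact not_commute_of_card_centralizer h16 (by rw [he₄]) hc₄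
  have h13 : w₁ ≠ w₃ := fun h => hno w₁ hc₁ e₃ he₃ (h ▸ hc₃)
  have h14 : w₁ ≠ w₄ := fun h => hno w₁ hc₁ e₄ he₄ (h ▸ hc₄)
  have h23 : w₂ ≠ w₃ := fun h => hno w₂ hc₂ e₃ he₃ (h ▸ hc₃)
  have h24 : w₂ ≠ w₄ := fun h => hno w₂ hc₂ e₄ he₄ (h ▸ hc₄)
  have hsub : ({1, w₁, w₂, w₃, w₄} : Set G) ⊆ (W : Set G) := by
    intro x hx
    simp only [Set.mem_insert_iff, Set.mem_singleton_iff] at hx
    rcases hx with rfl | rfl | rfl | rfl | rfl
    · exact W.one_mem
    · exact hw₁
    · exact hw₂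
    · exact hw₃
    · exact hw₄
  have hcard5 : ({1, w₁, w₂, w₃, w₄} : Set G).ncard = 5 := by
    rw [Set.ncard_insert_of_notMem, Set.ncard_insert_of_notMem, Set.ncard_insert_of_notMem,
      Set.ncard_pair hw₃₄]
    · simp only [Set.mem_insert_iff, Set.mem_singleton_iff, not_or]
      exact ⟨h23, h24⟩
    · simp only [Set.mem_insert_iff, Set.mem_singleton_iff, not_or]
      exact ⟨hw₁₂, h13, h14⟩
    · simp only [Set.mem_insert_iff, Set.mem_singleton_iff, not_or]
      exact ⟨hw₁1.symm, hw₂1.symm, h31.symm, h41.symm⟩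
  have hW4' : (W : Set G).ncard = 4 := by
    rw [← cfg.hW4]
    exact (Nat.card_coe_set_eq (W : Set G)).symm
  have := Set.ncard_le_ncard hsub (Set.toFinite _)
  rw [hcard5, hW4'] at this
  omega

end loc

end Cfg

/-- Two distinct Sylow 3-subgroups of a simple group of order `720` intersect trivially. -/
theorem sylow3_inf (hn : Nat.card G = 720) (P Q : Sylow 3 G) (hPQ : P ≠ Q) :
    (P : Subgroup G) ⊓ (Q : Subgroup G) = ⊥ := by
  by_contra hD
  obtain ⟨W, cfg⟩ := exists_cfg hn hPQ hD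
  obtain ⟨S, t, loc⟩ := cfg.exists_loc hn
  exact Cfg.false_of_cfg hn cfg loc

end Cfsg.Agent.Lib.H5.Ord720
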