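import Mathlib
import Cfsg.Agent.Lib.H5.Ord.Ord720g
import Cfsg.Agent.Lib.H5.Ord.Ord720e
import Cfsg.Agent.S0985

set_option autoImplicit false

/-! # No simple group of order 720 -/

namespace Cfsg.Agent.Lib.H5.SmallOrd

open Subgroup MulAction Cfsg.Agent.Lib.H5 Cfsg.Agent.Lib.H5.SylPrime Cfsg.Agent.Lib.H5.Ord720

variable {G : Type*} [Group G] [Finite G] [IsSimpleGroup G]

theorem not_720 : Nat.card G ≠ 720 := by
  intro hn
  have hTI := sylow3_inf hn
  rcases card_sylow3 hn with h10 | h40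
  · exact ti_false hn hTI (by rw [h10])
  · have hmod : ¬ Nat.card (Sylow 3 G) ≡ 1 [MOD 3 ^ 2] := by
      rw [h40]; decide
    obtain ⟨P, R, hPR, hle⟩ := Cfsg.Agent.S0985.result 3 2 hmod
    have hbot := hTI P R hPR
    have hmul := card_mul_relIndex_of_le (inf_le_right : (R : Subgroup G) ⊓ (P : Subgroup G) ≤ P)
    rw [Subgroup.inf_relIndex_right, inf_comm, hbot, Subgroup.card_bot,
      (card_sylow3_subgroup hn P).1] at hmul
    have : (R : Subgroup G).relIndex (P : Subgroup G) ≤ 3 := by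
      have h3 : (3 : ℕ) ^ (2 - 1) = 3 := by norm_num
      rw [h3] at hle
      exact hle
    omega

end Cfsg.Agent.Lib.H5.SmallOrd
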