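import Mathlib
import Cfsg.Agent.Lib.H5.Ord.GenTests3

set_option autoImplicit false
set_option maxHeartbeats 1600000

/-! # Orders of non-abelian simple groups: the range 0..99 (generated) -/

namespace Cfsg.Agent.Lib.H5.Sieve496

open Cfsg.Agent.Lib.H5.GenTests

theorem chunk0 {G : Type*} [Group G] [Finite G] [IsSimpleGroup G]
    (hG : ¬ IsMulCommutative G) (h1 : 0 ≤ Nat.card G) (h2 : Nat.card G ≤ 99) :
    Nat.card G = 60 ∨ Nat.card G = 168 ∨ Nat.card G = 360 ∨ Nat.card G = 504 ∨
      Nat.card G = 660 ∨ Nat.card G = 1092 := by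
  obtain ⟨n, hn⟩ : ∃ n, Nat.card G = n := ⟨_, rfl⟩
  rw [hn] at h1 h2 ⊢
  interval_cases n
  · exact absurd hn Nat.card_pos.ne'
  · have := (Nat.card_eq_one_iff_unique.1 hn).1
    exact absurd ⟨⟨fun a b => Subsingleton.elim _ _⟩⟩ hG
  · exact absurd hn (ne_ppow hG 2 1 (by norm_num))
  · exact absurd hn (ne_ppow hG 3 1 (by norm_num))
  · exact absurd hn (ne_ppow hG 2 2 (by norm_num))
  · exact absurd hn (ne_ppow hG 5 1 (by norm_num))
  · have : Fact (Nat.Prime 3) := ⟨by norm_num⟩
    exact absurd hn (ne_of_sylCheck hG 6 3 1 2 (by norm_num) (by norm_num) (by norm_num) (by norm_num) (by decide))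
  · exact absurd hn (ne_ppow hG 7 1 (by norm_num))
  · exact absurd hn (ne_ppow hG 2 3 (by norm_num))
  · exact absurd hn (ne_ppow hG 3 2 (by norm_num))
  · have : Fact (Nat.Prime 5) := ⟨by norm_num⟩
    exact absurd hn (ne_of_sylCheck hG 10 5 1 2 (by norm_num) (by norm_num) (by norm_num) (by norm_num) (by decide))
  · exact absurd hn (ne_ppow hG 11 1 (by norm_num))
  · have : Fact (Nat.Prime 2) := ⟨by norm_num⟩
    exact absurd hn (ne_of_sylCheck hG 12 2 2 3 (by norm_num) (by norm_num) (by norm_num) (by norm_num) (by decide))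
  · exact absurd hn (ne_ppow hG 13 1 (by norm_num))
  · have : Fact (Nat.Prime 7) := ⟨by norm_num⟩
    exact absurd hn (ne_of_sylCheck hG 14 7 1 2 (by norm_num) (by norm_num) (by norm_num) (by norm_num) (by decide))
  · have : Fact (Nat.Prime 5) := ⟨by norm_num⟩
    exact absurd hn (ne_of_sylCheck hG 15 5 1 3 (by norm_num) (by norm_num) (by norm_num) (by norm_num) (by decide))
  · exact absurd hn (ne_ppow hG 2 4 (by norm_num))
  · exact absurd hn (ne_ppow hG 17 1 (by norm_num))
  · have : Fact (Nat.Prime 3) := ⟨by norm_num⟩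
    exact absurd hn (ne_of_sylCheck hG 18 3 2 2 (by norm_num) (by norm_num) (by norm_num) (by norm_num) (by decide))
  · exact absurd hn (ne_ppow hG 19 1 (by norm_num))
  · have : Fact (Nat.Prime 5) := ⟨by norm_num⟩
    exact absurd hn (ne_of_sylCheck hG 20 5 1 4 (by norm_num) (by norm_num) (by norm_num) (by norm_num) (by decide))
  · have : Fact (Nat.Prime 7) := ⟨by norm_num⟩
    exact absurd hn (ne_of_sylCheck hG 21 7 1 3 (by norm_num) (by norm_num) (by norm_num) (by norm_num) (by decide))
  · have : Fact (Nat.Prime 11) := ⟨by norm_num⟩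
    exact absurd hn (ne_of_sylCheck hG 22 11 1 2 (by norm_num) (by norm_num) (by norm_num) (by norm_num) (by decide))
  · exact absurd hn (ne_ppow hG 23 1 (by norm_num))
  · have : Fact (Nat.Prime 3) := ⟨by norm_num⟩
    exact absurd hn (ne_of_sylCheck hG 24 3 1 8 (by norm_num) (by norm_num) (by norm_num) (by norm_num) (by decide))
  · exact absurd hn (ne_ppow hG 5 2 (by norm_num))
  · have : Fact (Nat.Prime 13) := ⟨by norm_num⟩
    exact absurd hn (ne_of_sylCheck hG 26 13 1 2 (by norm_num) (by norm_num) (by norm_num) (by norm_num) (by decide))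
  · exact absurd hn (ne_ppow hG 3 3 (by norm_num))
  · have : Fact (Nat.Prime 7) := ⟨by norm_num⟩
    exact absurd hn (ne_of_sylCheck hG 28 7 1 4 (by norm_num) (by norm_num) (by norm_num) (by norm_num) (by decide))
  · exact absurd hn (ne_ppow hG 29 1 (by norm_num))
  · exact absurd hn (Cfsg.Agent.S0493.ne_two_odd 15 (by decide))
  · exact absurd hn (ne_ppow hG 31 1 (by norm_num))
  · exact absurd hn (ne_ppow hG 2 5 (by norm_num))
  · have : Fact (Nat.Prime 11) := ⟨by norm_num⟩
    exact absurd hn (ne_of_sylCheck hG 33 11 1 3 (by norm_num) (by norm_num) (by norm_num) (by norm_num) (by decide))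
  · have : Fact (Nat.Prime 17) := ⟨by norm_num⟩
    exact absurd hn (ne_of_sylCheck hG 34 17 1 2 (by norm_num) (by norm_num) (by norm_num) (by norm_num) (by decide))
  · have : Fact (Nat.Prime 7) := ⟨by norm_num⟩
    exact absurd hn (ne_of_sylCheck hG 35 7 1 5 (by norm_num) (by norm_num) (by norm_num) (by norm_num) (by decide))
  · have : Fact (Nat.Prime 3) := ⟨by norm_num⟩
    exact absurd hn (ne_of_sylCheck hG 36 3 2 4 (by norm_num) (by norm_num) (by norm_num) (by norm_num) (by decide))
  · exact absurd hn (ne_ppow hG 37 1 (by norm_num))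
  · have : Fact (Nat.Prime 19) := ⟨by norm_num⟩
    exact absurd hn (ne_of_sylCheck hG 38 19 1 2 (by norm_num) (by norm_num) (by norm_num) (by norm_num) (by decide))
  · have : Fact (Nat.Prime 13) := ⟨by norm_num⟩
    exact absurd hn (ne_of_sylCheck hG 39 13 1 3 (by norm_num) (by norm_num) (by norm_num) (by norm_num) (by decide))
  · have : Fact (Nat.Prime 5) := ⟨by norm_num⟩
    exact absurd hn (ne_of_sylCheck hG 40 5 1 8 (by norm_num) (by norm_num) (by norm_num) (by norm_num) (by decide))
  · exact absurd hn (ne_ppow hG 41 1 (by norm_num))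
  · have : Fact (Nat.Prime 7) := ⟨by norm_num⟩
    exact absurd hn (ne_of_sylCheck hG 42 7 1 6 (by norm_num) (by norm_num) (by norm_num) (by norm_num) (by decide))
  · exact absurd hn (ne_ppow hG 43 1 (by norm_num))
  · have : Fact (Nat.Prime 11) := ⟨by norm_num⟩
    exact absurd hn (ne_of_sylCheck hG 44 11 1 4 (by norm_num) (by norm_num) (by norm_num) (by norm_num) (by decide))
  · have : Fact (Nat.Prime 5) := ⟨by norm_num⟩
    exact absurd hn (ne_of_sylCheck hG 45 5 1 9 (by norm_num) (by norm_num) (by norm_num) (by norm_num) (by decide))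
  · have : Fact (Nat.Prime 23) := ⟨by norm_num⟩
    exact absurd hn (ne_of_sylCheck hG 46 23 1 2 (by norm_num) (by norm_num) (by norm_num) (by norm_num) (by decide))
  · exact absurd hn (ne_ppow hG 47 1 (by norm_num))
  · have : Fact (Nat.Prime 2) := ⟨by norm_num⟩
    exact absurd hn (ne_of_sylCheck hG 48 2 4 3 (by norm_num) (by norm_num) (by norm_num) (by norm_num) (by decide))
  · exact absurd hn (ne_ppow hG 7 2 (by norm_num))
  · have : Fact (Nat.Prime 5) := ⟨by norm_num⟩
    exact absurd hn (ne_of_sylCheck hG 50 5 2 2 (by norm_num) (by norm_num) (by norm_num) (by norm_num) (by decide))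
  · have : Fact (Nat.Prime 17) := ⟨by norm_num⟩
    exact absurd hn (ne_of_sylCheck hG 51 17 1 3 (by norm_num) (by norm_num) (by norm_num) (by norm_num) (by decide))
  · have : Fact (Nat.Prime 13) := ⟨by norm_num⟩
    exact absurd hn (ne_of_sylCheck hG 52 13 1 4 (by norm_num) (by norm_num) (by norm_num) (by norm_num) (by decide))
  · exact absurd hn (ne_ppow hG 53 1 (by norm_num))
  · have : Fact (Nat.Prime 3) := ⟨by norm_num⟩
    exact absurd hn (ne_of_sylCheck hG 54 3 3 2 (by norm_num) (by norm_num) (by norm_num) (by norm_num) (by decide))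
  · have : Fact (Nat.Prime 11) := ⟨by norm_num⟩
    exact absurd hn (ne_of_sylCheck hG 55 11 1 5 (by norm_num) (by norm_num) (by norm_num) (by norm_num) (by decide))
  · exact absurd hn (ne_paqb hG 2 7 3 1 (by norm_num) (by norm_num))
  · have : Fact (Nat.Prime 19) := ⟨by norm_num⟩
    exact absurd hn (ne_of_sylCheck hG 57 19 1 3 (by norm_num) (by norm_num) (by norm_num) (by norm_num) (by decide))
  · have : Fact (Nat.Prime 29) := ⟨by norm_num⟩
    exact absurd hn (ne_of_sylCheck hG 58 29 1 2 (by norm_num) (by norm_num) (by norm_num) (by norm_num) (by decide))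
  · exact absurd hn (ne_ppow hG 59 1 (by norm_num))
  · norm_num
  · exact absurd hn (ne_ppow hG 61 1 (by norm_num))
  · have : Fact (Nat.Prime 31) := ⟨by norm_num⟩
    exact absurd hn (ne_of_sylCheck hG 62 31 1 2 (by norm_num) (by norm_num) (by norm_num) (by norm_num) (by decide))
  · have : Fact (Nat.Prime 7) := ⟨by norm_num⟩
    exact absurd hn (ne_of_sylCheck hG 63 7 1 9 (by norm_num) (by norm_num) (by norm_num) (by norm_num) (by decide))
  · exact absurd hn (ne_ppow hG 2 6 (by norm_num))
  · have : Fact (Nat.Prime 13) := ⟨by norm_num⟩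
    exact absurd hn (ne_of_sylCheck hG 65 13 1 5 (by norm_num) (by norm_num) (by norm_num) (by norm_num) (by decide))
  · have : Fact (Nat.Prime 11) := ⟨by norm_num⟩
    exact absurd hn (ne_of_sylCheck hG 66 11 1 6 (by norm_num) (by norm_num) (by norm_num) (by norm_num) (by decide))
  · exact absurd hn (ne_ppow hG 67 1 (by norm_num))
  · have : Fact (Nat.Prime 17) := ⟨by norm_num⟩
    exact absurd hn (ne_of_sylCheck hG 68 17 1 4 (by norm_num) (by norm_num) (by norm_num) (by norm_num) (by decide))
  · have : Fact (Nat.Prime 23) := ⟨by norm_num⟩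
    exact absurd hn (ne_of_sylCheck hG 69 23 1 3 (by norm_num) (by norm_num) (by norm_num) (by norm_num) (by decide))
  · have : Fact (Nat.Prime 7) := ⟨by norm_num⟩
    exact absurd hn (ne_of_sylCheck hG 70 7 1 10 (by norm_num) (by norm_num) (by norm_num) (by norm_num) (by decide))
  · exact absurd hn (ne_ppow hG 71 1 (by norm_num))
  · have : Fact (Nat.Prime 3) := ⟨by norm_num⟩
    exact absurd hn (ne_of_sylCheck hG 72 3 2 8 (by norm_num) (by norm_num) (by norm_num) (by norm_num) (by decide))
  · exact absurd hn (ne_ppow hG 73 1 (by norm_num))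
  · have : Fact (Nat.Prime 37) := ⟨by norm_num⟩
    exact absurd hn (ne_of_sylCheck hG 74 37 1 2 (by norm_num) (by norm_num) (by norm_num) (by norm_num) (by decide))
  · have : Fact (Nat.Prime 5) := ⟨by norm_num⟩
    exact absurd hn (ne_of_sylCheck hG 75 5 2 3 (by norm_num) (by norm_num) (by norm_num) (by norm_num) (by decide))
  · have : Fact (Nat.Prime 19) := ⟨by norm_num⟩
    exact absurd hn (ne_of_sylCheck hG 76 19 1 4 (by norm_num) (by norm_num) (by norm_num) (by norm_num) (by decide))
  · have : Fact (Nat.Prime 11) := ⟨by norm_num⟩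
    exact absurd hn (ne_of_sylCheck hG 77 11 1 7 (by norm_num) (by norm_num) (by norm_num) (by norm_num) (by decide))
  · have : Fact (Nat.Prime 13) := ⟨by norm_num⟩
    exact absurd hn (ne_of_sylCheck hG 78 13 1 6 (by norm_num) (by norm_num) (by norm_num) (by norm_num) (by decide))
  · exact absurd hn (ne_ppow hG 79 1 (by norm_num))
  · have : Fact (Nat.Prime 2) := ⟨by norm_num⟩
    exact absurd hn (ne_of_sylCheck hG 80 2 4 5 (by norm_num) (by norm_num) (by norm_num) (by norm_num) (by decide))
  · exact absurd hn (ne_ppow hG 3 4 (by norm_num))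
  · have : Fact (Nat.Prime 41) := ⟨by norm_num⟩
    exact absurd hn (ne_of_sylCheck hG 82 41 1 2 (by norm_num) (by norm_num) (by norm_num) (by norm_num) (by decide))
  · exact absurd hn (ne_ppow hG 83 1 (by norm_num))
  · have : Fact (Nat.Prime 7) := ⟨by norm_num⟩
    exact absurd hn (ne_of_sylCheck hG 84 7 1 12 (by norm_num) (by norm_num) (by norm_num) (by norm_num) (by decide))
  · have : Fact (Nat.Prime 17) := ⟨by norm_num⟩
    exact absurd hn (ne_of_sylCheck hG 85 17 1 5 (by norm_num) (by norm_num) (by norm_num) (by norm_num) (by decide))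
  · have : Fact (Nat.Prime 43) := ⟨by norm_num⟩
    exact absurd hn (ne_of_sylCheck hG 86 43 1 2 (by norm_num) (by norm_num) (by norm_num) (by norm_num) (by decide))
  · have : Fact (Nat.Prime 29) := ⟨by norm_num⟩
    exact absurd hn (ne_of_sylCheck hG 87 29 1 3 (by norm_num) (by norm_num) (by norm_num) (by norm_num) (by decide))
  · have : Fact (Nat.Prime 11) := ⟨by norm_num⟩
    exact absurd hn (ne_of_sylCheck hG 88 11 1 8 (by norm_num) (by norm_num) (by norm_num) (by norm_num) (by decide))
  · exact absurd hn (ne_ppow hG 89 1 (by norm_num))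
  · exact absurd hn (Cfsg.Agent.S0493.ne_two_odd 45 (by decide))
  · have : Fact (Nat.Prime 13) := ⟨by norm_num⟩
    exact absurd hn (ne_of_sylCheck hG 91 13 1 7 (by norm_num) (by norm_num) (by norm_num) (by norm_num) (by decide))
  · have : Fact (Nat.Prime 23) := ⟨by norm_num⟩
    exact absurd hn (ne_of_sylCheck hG 92 23 1 4 (by norm_num) (by norm_num) (by norm_num) (by norm_num) (by decide))
  · have : Fact (Nat.Prime 31) := ⟨by norm_num⟩
    exact absurd hn (ne_of_sylCheck hG 93 31 1 3 (by norm_num) (by norm_num) (by norm_num) (by norm_num) (by decide))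
  · have : Fact (Nat.Prime 47) := ⟨by norm_num⟩
    exact absurd hn (ne_of_sylCheck hG 94 47 1 2 (by norm_num) (by norm_num) (by norm_num) (by norm_num) (by decide))
  · have : Fact (Nat.Prime 19) := ⟨by norm_num⟩
    exact absurd hn (ne_of_sylCheck hG 95 19 1 5 (by norm_num) (by norm_num) (by norm_num) (by norm_num) (by decide))
  · have : Fact (Nat.Prime 2) := ⟨by norm_num⟩
    exact absurd hn (ne_of_sylCheck hG 96 2 5 3 (by norm_num) (by norm_num) (by norm_num) (by norm_num) (by decide))
  · exact absurd hn (ne_ppow hG 97 1 (by norm_num))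
  · have : Fact (Nat.Prime 7) := ⟨by norm_num⟩
    exact absurd hn (ne_of_sylCheck hG 98 7 2 2 (by norm_num) (by norm_num) (by norm_num) (by norm_num) (by decide))
  · have : Fact (Nat.Prime 11) := ⟨by norm_num⟩
    exact absurd hn (ne_of_sylCheck hG 99 11 1 9 (by norm_num) (by norm_num) (by norm_num) (by norm_num) (by decide))

end Cfsg.Agent.Lib.H5.Sieve496
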