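import Mathlib
import Cfsg.Agent.Lib.H5.Ord.GenTests3

set_option autoImplicit false
set_option maxHeartbeats 1600000

/-! # Orders of non-abelian simple groups: the range 100..199 (generated) -/

namespace Cfsg.Agent.Lib.H5.Sieve496

open Cfsg.Agent.Lib.H5.GenTests

theorem chunk1 {G : Type*} [Group G] [Finite G] [IsSimpleGroup G]
    (hG : ¬ IsMulCommutative G) (h1 : 100 ≤ Nat.card G) (h2 : Nat.card G ≤ 199) :
    Nat.card G = 60 ∨ Nat.card G = 168 ∨ Nat.card G = 360 ∨ Nat.card G = 504 ∨
      Nat.card G = 660 ∨ Nat.card G = 1092 := by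
  obtain ⟨n, hn⟩ : ∃ n, Nat.card G = n := ⟨_, rfl⟩
  rw [hn] at h1 h2 ⊢
  interval_cases n
  · have : Fact (Nat.Prime 5) := ⟨by norm_num⟩
    exact absurd hn (ne_of_sylCheck hG 100 5 2 4 (by norm_num) (by norm_num) (by norm_num) (by norm_num) (by decide))
  · exact absurd hn (ne_ppow hG 101 1 (by norm_num))
  · have : Fact (Nat.Prime 17) := ⟨by norm_num⟩
    exact absurd hn (ne_of_sylCheck hG 102 17 1 6 (by norm_num) (by norm_num) (by norm_num) (by norm_num) (by decide))
  · exact absurd hn (ne_ppow hG 103 1 (by norm_num))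
  · have : Fact (Nat.Prime 13) := ⟨by norm_num⟩
    exact absurd hn (ne_of_sylCheck hG 104 13 1 8 (by norm_num) (by norm_num) (by norm_num) (by norm_num) (by decide))
  · have : Fact (Nat.Prime 7) := ⟨by norm_num⟩
    exact absurd hn (ne_of_ncfpCheck hG 105 7 15 (by norm_num) (by norm_num) (by norm_num) (by decide))
  · have : Fact (Nat.Prime 53) := ⟨by norm_num⟩
    exact absurd hn (ne_of_sylCheck hG 106 53 1 2 (by norm_num) (by norm_num) (by norm_num) (by norm_num) (by decide))
  · exact absurd hn (ne_ppow hG 107 1 (by norm_num))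
  · have : Fact (Nat.Prime 3) := ⟨by norm_num⟩
    exact absurd hn (ne_of_sylCheck hG 108 3 3 4 (by norm_num) (by norm_num) (by norm_num) (by norm_num) (by decide))
  · exact absurd hn (ne_ppow hG 109 1 (by norm_num))
  · have : Fact (Nat.Prime 11) := ⟨by norm_num⟩
    exact absurd hn (ne_of_sylCheck hG 110 11 1 10 (by norm_num) (by norm_num) (by norm_num) (by norm_num) (by decide))
  · have : Fact (Nat.Prime 37) := ⟨by norm_num⟩
    exact absurd hn (ne_of_sylCheck hG 111 37 1 3 (by norm_num) (by norm_num) (by norm_num) (by norm_num) (by decide))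
  · have : Fact (Nat.Prime 2) := ⟨by norm_num⟩
    exact absurd hn (ne_of_sylCheck hG 112 2 4 7 (by norm_num) (by norm_num) (by norm_num) (by norm_num) (by decide))
  · exact absurd hn (ne_ppow hG 113 1 (by norm_num))
  · have : Fact (Nat.Prime 19) := ⟨by norm_num⟩
    exact absurd hn (ne_of_sylCheck hG 114 19 1 6 (by norm_num) (by norm_num) (by norm_num) (by norm_num) (by decide))
  · have : Fact (Nat.Prime 23) := ⟨by norm_num⟩
    exact absurd hn (ne_of_sylCheck hG 115 23 1 5 (by norm_num) (by norm_num) (by norm_num) (by norm_num) (by decide))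
  · have : Fact (Nat.Prime 29) := ⟨by norm_num⟩
    exact absurd hn (ne_of_sylCheck hG 116 29 1 4 (by norm_num) (by norm_num) (by norm_num) (by norm_num) (by decide))
  · have : Fact (Nat.Prime 13) := ⟨by norm_num⟩
    exact absurd hn (ne_of_sylCheck hG 117 13 1 9 (by norm_num) (by norm_num) (by norm_num) (by norm_num) (by decide))
  · have : Fact (Nat.Prime 59) := ⟨by norm_num⟩
    exact absurd hn (ne_of_sylCheck hG 118 59 1 2 (by norm_num) (by norm_num) (by norm_num) (by norm_num) (by decide))
  · have : Fact (Nat.Prime 17) := ⟨by norm_num⟩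
    exact absurd hn (ne_of_sylCheck hG 119 17 1 7 (by norm_num) (by norm_num) (by norm_num) (by norm_num) (by decide))
  · have : Fact (Nat.Prime 3) := ⟨by norm_num⟩
    exact absurd hn (ne_of_ncfpCheck hG 120 3 40 (by norm_num) (by norm_num) (by norm_num) (by decide))
  · exact absurd hn (ne_ppow hG 11 2 (by norm_num))
  · have : Fact (Nat.Prime 61) := ⟨by norm_num⟩
    exact absurd hn (ne_of_sylCheck hG 122 61 1 2 (by norm_num) (by norm_num) (by norm_num) (by norm_num) (by decide))
  · have : Fact (Nat.Prime 41) := ⟨by norm_num⟩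
    exact absurd hn (ne_of_sylCheck hG 123 41 1 3 (by norm_num) (by norm_num) (by norm_num) (by norm_num) (by decide))
  · have : Fact (Nat.Prime 31) := ⟨by norm_num⟩
    exact absurd hn (ne_of_sylCheck hG 124 31 1 4 (by norm_num) (by norm_num) (by norm_num) (by norm_num) (by decide))
  · exact absurd hn (ne_ppow hG 5 3 (by norm_num))
  · have : Fact (Nat.Prime 7) := ⟨by norm_num⟩
    exact absurd hn (ne_of_sylCheck hG 126 7 1 18 (by norm_num) (by norm_num) (by norm_num) (by norm_num) (by decide))
  · exact absurd hn (ne_ppow hG 127 1 (by norm_num))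
  · exact absurd hn (ne_ppow hG 2 7 (by norm_num))
  · have : Fact (Nat.Prime 43) := ⟨by norm_num⟩
    exact absurd hn (ne_of_sylCheck hG 129 43 1 3 (by norm_num) (by norm_num) (by norm_num) (by norm_num) (by decide))
  · have : Fact (Nat.Prime 13) := ⟨by norm_num⟩
    exact absurd hn (ne_of_sylCheck hG 130 13 1 10 (by norm_num) (by norm_num) (by norm_num) (by norm_num) (by decide))
  · exact absurd hn (ne_ppow hG 131 1 (by norm_num))
  · have : Fact (Nat.Prime 11) := ⟨by norm_num⟩
    exact absurd hn (ne_of_ncfpCheck hG 132 11 12 (by norm_num) (by norm_num) (by norm_num) (by decide))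
  · have : Fact (Nat.Prime 19) := ⟨by norm_num⟩
    exact absurd hn (ne_of_sylCheck hG 133 19 1 7 (by norm_num) (by norm_num) (by norm_num) (by norm_num) (by decide))
  · have : Fact (Nat.Prime 67) := ⟨by norm_num⟩
    exact absurd hn (ne_of_sylCheck hG 134 67 1 2 (by norm_num) (by norm_num) (by norm_num) (by norm_num) (by decide))
  · have : Fact (Nat.Prime 5) := ⟨by norm_num⟩
    exact absurd hn (ne_of_sylCheck hG 135 5 1 27 (by norm_num) (by norm_num) (by norm_num) (by norm_num) (by decide))
  · have : Fact (Nat.Prime 17) := ⟨by norm_num⟩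
    exact absurd hn (ne_of_sylCheck hG 136 17 1 8 (by norm_num) (by norm_num) (by norm_num) (by norm_num) (by decide))
  · exact absurd hn (ne_ppow hG 137 1 (by norm_num))
  · have : Fact (Nat.Prime 23) := ⟨by norm_num⟩
    exact absurd hn (ne_of_sylCheck hG 138 23 1 6 (by norm_num) (by norm_num) (by norm_num) (by norm_num) (by decide))
  · exact absurd hn (ne_ppow hG 139 1 (by norm_num))
  · have : Fact (Nat.Prime 7) := ⟨by norm_num⟩
    exact absurd hn (ne_of_sylCheck hG 140 7 1 20 (by norm_num) (by norm_num) (by norm_num) (by norm_num) (by decide))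
  · have : Fact (Nat.Prime 47) := ⟨by norm_num⟩
    exact absurd hn (ne_of_sylCheck hG 141 47 1 3 (by norm_num) (by norm_num) (by norm_num) (by norm_num) (by decide))
  · have : Fact (Nat.Prime 71) := ⟨by norm_num⟩
    exact absurd hn (ne_of_sylCheck hG 142 71 1 2 (by norm_num) (by norm_num) (by norm_num) (by norm_num) (by decide))
  · have : Fact (Nat.Prime 13) := ⟨by norm_num⟩
    exact absurd hn (ne_of_sylCheck hG 143 13 1 11 (by norm_num) (by norm_num) (by norm_num) (by norm_num) (by decide))
  · exact absurd hn (ne_paqb hG 2 3 4 2 (by norm_num) (by norm_num))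
  · have : Fact (Nat.Prime 29) := ⟨by norm_num⟩
    exact absurd hn (ne_of_sylCheck hG 145 29 1 5 (by norm_num) (by norm_num) (by norm_num) (by norm_num) (by decide))
  · have : Fact (Nat.Prime 73) := ⟨by norm_num⟩
    exact absurd hn (ne_of_sylCheck hG 146 73 1 2 (by norm_num) (by norm_num) (by norm_num) (by norm_num) (by decide))
  · have : Fact (Nat.Prime 7) := ⟨by norm_num⟩
    exact absurd hn (ne_of_sylCheck hG 147 7 2 3 (by norm_num) (by norm_num) (by norm_num) (by norm_num) (by decide))
  · have : Fact (Nat.Prime 37) := ⟨by norm_num⟩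
    exact absurd hn (ne_of_sylCheck hG 148 37 1 4 (by norm_num) (by norm_num) (by norm_num) (by norm_num) (by decide))
  · exact absurd hn (ne_ppow hG 149 1 (by norm_num))
  · have : Fact (Nat.Prime 5) := ⟨by norm_num⟩
    exact absurd hn (ne_of_sylCheck hG 150 5 2 6 (by norm_num) (by norm_num) (by norm_num) (by norm_num) (by decide))
  · exact absurd hn (ne_ppow hG 151 1 (by norm_num))
  · have : Fact (Nat.Prime 19) := ⟨by norm_num⟩
    exact absurd hn (ne_of_sylCheck hG 152 19 1 8 (by norm_num) (by norm_num) (by norm_num) (by norm_num) (by decide))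
  · have : Fact (Nat.Prime 17) := ⟨by norm_num⟩
    exact absurd hn (ne_of_sylCheck hG 153 17 1 9 (by norm_num) (by norm_num) (by norm_num) (by norm_num) (by decide))
  · have : Fact (Nat.Prime 11) := ⟨by norm_num⟩
    exact absurd hn (ne_of_sylCheck hG 154 11 1 14 (by norm_num) (by norm_num) (by norm_num) (by norm_num) (by decide))
  · have : Fact (Nat.Prime 31) := ⟨by norm_num⟩
    exact absurd hn (ne_of_sylCheck hG 155 31 1 5 (by norm_num) (by norm_num) (by norm_num) (by norm_num) (by decide))
  · have : Fact (Nat.Prime 13) := ⟨by norm_num⟩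
    exact absurd hn (ne_of_sylCheck hG 156 13 1 12 (by norm_num) (by norm_num) (by norm_num) (by norm_num) (by decide))
  · exact absurd hn (ne_ppow hG 157 1 (by norm_num))
  · have : Fact (Nat.Prime 79) := ⟨by norm_num⟩
    exact absurd hn (ne_of_sylCheck hG 158 79 1 2 (by norm_num) (by norm_num) (by norm_num) (by norm_num) (by decide))
  · have : Fact (Nat.Prime 53) := ⟨by norm_num⟩
    exact absurd hn (ne_of_sylCheck hG 159 53 1 3 (by norm_num) (by norm_num) (by norm_num) (by norm_num) (by decide))
  · have : Fact (Nat.Prime 2) := ⟨by norm_num⟩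
    exact absurd hn (ne_of_sylCheck hG 160 2 5 5 (by norm_num) (by norm_num) (by norm_num) (by norm_num) (by decide))
  · have : Fact (Nat.Prime 23) := ⟨by norm_num⟩
    exact absurd hn (ne_of_sylCheck hG 161 23 1 7 (by norm_num) (by norm_num) (by norm_num) (by norm_num) (by decide))
  · have : Fact (Nat.Prime 3) := ⟨by norm_num⟩
    exact absurd hn (ne_of_sylCheck hG 162 3 4 2 (by norm_num) (by norm_num) (by norm_num) (by norm_num) (by decide))
  · exact absurd hn (ne_ppow hG 163 1 (by norm_num))
  · have : Fact (Nat.Prime 41) := ⟨by norm_num⟩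
    exact absurd hn (ne_of_sylCheck hG 164 41 1 4 (by norm_num) (by norm_num) (by norm_num) (by norm_num) (by decide))
  · have : Fact (Nat.Prime 11) := ⟨by norm_num⟩
    exact absurd hn (ne_of_sylCheck hG 165 11 1 15 (by norm_num) (by norm_num) (by norm_num) (by norm_num) (by decide))
  · have : Fact (Nat.Prime 83) := ⟨by norm_num⟩
    exact absurd hn (ne_of_sylCheck hG 166 83 1 2 (by norm_num) (by norm_num) (by norm_num) (by norm_num) (by decide))
  · exact absurd hn (ne_ppow hG 167 1 (by norm_num))
  · norm_num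
  · exact absurd hn (ne_ppow hG 13 2 (by norm_num))
  · have : Fact (Nat.Prime 17) := ⟨by norm_num⟩
    exact absurd hn (ne_of_sylCheck hG 170 17 1 10 (by norm_num) (by norm_num) (by norm_num) (by norm_num) (by decide))
  · have : Fact (Nat.Prime 19) := ⟨by norm_num⟩
    exact absurd hn (ne_of_sylCheck hG 171 19 1 9 (by norm_num) (by norm_num) (by norm_num) (by norm_num) (by decide))
  · have : Fact (Nat.Prime 43) := ⟨by norm_num⟩
    exact absurd hn (ne_of_sylCheck hG 172 43 1 4 (by norm_num) (by norm_num) (by norm_num) (by norm_num) (by decide))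
  · exact absurd hn (ne_ppow hG 173 1 (by norm_num))
  · have : Fact (Nat.Prime 29) := ⟨by norm_num⟩
    exact absurd hn (ne_of_sylCheck hG 174 29 1 6 (by norm_num) (by norm_num) (by norm_num) (by norm_num) (by decide))
  · have : Fact (Nat.Prime 7) := ⟨by norm_num⟩
    exact absurd hn (ne_of_sylCheck hG 175 7 1 25 (by norm_num) (by norm_num) (by norm_num) (by norm_num) (by decide))
  · have : Fact (Nat.Prime 11) := ⟨by norm_num⟩
    exact absurd hn (ne_of_sylCheck hG 176 11 1 16 (by norm_num) (by norm_num) (by norm_num) (by norm_num) (by decide))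
  · have : Fact (Nat.Prime 59) := ⟨by norm_num⟩
    exact absurd hn (ne_of_sylCheck hG 177 59 1 3 (by norm_num) (by norm_num) (by norm_num) (by norm_num) (by decide))
  · have : Fact (Nat.Prime 89) := ⟨by norm_num⟩
    exact absurd hn (ne_of_sylCheck hG 178 89 1 2 (by norm_num) (by norm_num) (by norm_num) (by norm_num) (by decide))
  · exact absurd hn (ne_ppow hG 179 1 (by norm_num))
  · have : Fact (Nat.Prime 5) := ⟨by norm_num⟩
    exact absurd hn (ne_of_ncfpCheck hG 180 5 36 (by norm_num) (by norm_num) (by norm_num) (by decide))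
  · exact absurd hn (ne_ppow hG 181 1 (by norm_num))
  · have : Fact (Nat.Prime 7) := ⟨by norm_num⟩
    exact absurd hn (ne_of_sylCheck hG 182 7 1 26 (by norm_num) (by norm_num) (by norm_num) (by norm_num) (by decide))
  · have : Fact (Nat.Prime 61) := ⟨by norm_num⟩
    exact absurd hn (ne_of_sylCheck hG 183 61 1 3 (by norm_num) (by norm_num) (by norm_num) (by norm_num) (by decide))
  · have : Fact (Nat.Prime 23) := ⟨by norm_num⟩
    exact absurd hn (ne_of_sylCheck hG 184 23 1 8 (by norm_num) (by norm_num) (by norm_num) (by norm_num) (by decide))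
  · have : Fact (Nat.Prime 37) := ⟨by norm_num⟩
    exact absurd hn (ne_of_sylCheck hG 185 37 1 5 (by norm_num) (by norm_num) (by norm_num) (by norm_num) (by decide))
  · have : Fact (Nat.Prime 31) := ⟨by norm_num⟩
    exact absurd hn (ne_of_sylCheck hG 186 31 1 6 (by norm_num) (by norm_num) (by norm_num) (by norm_num) (by decide))
  · have : Fact (Nat.Prime 17) := ⟨by norm_num⟩
    exact absurd hn (ne_of_sylCheck hG 187 17 1 11 (by norm_num) (by norm_num) (by norm_num) (by norm_num) (by decide))
  · have : Fact (Nat.Prime 47) := ⟨by norm_num⟩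
    exact absurd hn (ne_of_sylCheck hG 188 47 1 4 (by norm_num) (by norm_num) (by norm_num) (by norm_num) (by decide))
  · have : Fact (Nat.Prime 7) := ⟨by norm_num⟩
    exact absurd hn (ne_of_sylCheck hG 189 7 1 27 (by norm_num) (by norm_num) (by norm_num) (by norm_num) (by decide))
  · have : Fact (Nat.Prime 19) := ⟨by norm_num⟩
    exact absurd hn (ne_of_sylCheck hG 190 19 1 10 (by norm_num) (by norm_num) (by norm_num) (by norm_num) (by decide))
  · exact absurd hn (ne_ppow hG 191 1 (by norm_num))
  · have : Fact (Nat.Prime 2) := ⟨by norm_num⟩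
    exact absurd hn (ne_of_sylCheck hG 192 2 6 3 (by norm_num) (by norm_num) (by norm_num) (by norm_num) (by decide))
  · exact absurd hn (ne_ppow hG 193 1 (by norm_num))
  · have : Fact (Nat.Prime 97) := ⟨by norm_num⟩
    exact absurd hn (ne_of_sylCheck hG 194 97 1 2 (by norm_num) (by norm_num) (by norm_num) (by norm_num) (by decide))
  · have : Fact (Nat.Prime 13) := ⟨by norm_num⟩
    exact absurd hn (ne_of_sylCheck hG 195 13 1 15 (by norm_num) (by norm_num) (by norm_num) (by norm_num) (by decide))
  · have : Fact (Nat.Prime 7) := ⟨by norm_num⟩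
    exact absurd hn (ne_of_sylCheck hG 196 7 2 4 (by norm_num) (by norm_num) (by norm_num) (by norm_num) (by decide))
  · exact absurd hn (ne_ppow hG 197 1 (by norm_num))
  · have : Fact (Nat.Prime 11) := ⟨by norm_num⟩
    exact absurd hn (ne_of_sylCheck hG 198 11 1 18 (by norm_num) (by norm_num) (by norm_num) (by norm_num) (by decide))
  · exact absurd hn (ne_ppow hG 199 1 (by norm_num))

end Cfsg.Agent.Lib.H5.Sieve496
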