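import Mathlib
import Cfsg.Agent.Lib.H24.BrauerP4

set_option autoImplicit false

/-! # No simple groups of order 612, 1040 (Brauer's degree equation, `e = 2`) -/

namespace Cfsg.Agent.Lib.H5.SmallOrd

theorem not_612 {G : Type*} [Group G] [Finite G] [IsSimpleGroup G] : Nat.card G ≠ 612 := by
  intro hG
  haveI : Fact (Nat.Prime 17) := ⟨by norm_num⟩
  have hdiv : ∀ d, d ∣ 36 → d % 17 = 1 → d = 1 ∨ d = 18 := by
    intro d hd hmod
    have hle : d ≤ 36 := Nat.le_of_dvd (by norm_num) hd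
    interval_cases d <;> omega
  obtain ⟨ι, S, b, d, εz, x, hεz, hxd, hS, hsq, hdeg, hx, hdsq⟩ :=
    Cfsg.Agent.Lib.H24.BrP.simple_data (G := G) (p := 17) (m := 36) (n₀ := 18) (e₀ := 2) (t := 8)
      (by rw [hG]) (by norm_num) (by norm_num) (by norm_num) hdiv (by norm_num) (by norm_num)
  push_cast at hsq hx
  have hall : ∀ i ∈ S, b i = 1 ∧ d i = 18 := by
    intro i hi
    obtain ⟨hb0, hdd, hd1, m', hm'⟩ := hS i hi
    have hbsq : b i ^ 2 ≤ 1 := by
      have := Finset.single_le_sum (f := fun i => b i ^ 2) (fun j _ => sq_nonneg (b j)) hi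
      rw [hsq] at this
      linarith
    have hdle : d i ^ 2 ≤ 612 := by
      have := Finset.single_le_sum (f := fun i => d i ^ 2) (fun j _ => Nat.zero_le _) hi
      omega
    have hd24 : d i ≤ 24 := by nlinarith
    have hb : b i = 1 ∨ b i = -1 := by
      have : -1 ≤ b i ∧ b i ≤ 1 := by constructor <;> nlinarith
      omega
    rw [hG] at hdd
    obtain ⟨n, hn⟩ : ∃ n, n = d i := ⟨_, rfl⟩
    rw [← hn] at hdd hd1 hm' hd24 ⊢
    push_cast at hm'
    interval_cases n <;> omega
  have h1 : ∑ i ∈ S, b i ^ 2 = (S.card : ℤ) := by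
    rw [Finset.sum_congr rfl fun i hi => by rw [(hall i hi).1], Finset.sum_const]
    simp
  have h2 : ∑ i ∈ S, b i * (d i : ℤ) = 18 * (S.card : ℤ) := by
    rw [Finset.sum_congr rfl fun i hi => by rw [(hall i hi).1, (hall i hi).2], Finset.sum_const]
    simp
    ring
  rw [h1] at hsq
  rw [h2, hsq] at hdeg
  rw [hG] at hxd
  have hx19 : x = 19 := by
    rcases hεz with h | h <;> rw [h] at hdeg <;> omega
  rw [hx19] at hxd
  omega

theorem not_1040 {G : Type*} [Group G] [Finite G] [IsSimpleGroup G] : Nat.card G ≠ 1040 := by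
  intro hG
  haveI : Fact (Nat.Prime 13) := ⟨by norm_num⟩
  have hdiv : ∀ d, d ∣ 80 → d % 13 = 1 → d = 1 ∨ d = 40 := by
    intro d hd hmod
    have hle : d ≤ 80 := Nat.le_of_dvd (by norm_num) hd
    interval_cases d <;> omega
  obtain ⟨ι, S, b, d, εz, x, hεz, hxd, hS, hsq, hdeg, hx, hdsq⟩ :=
    Cfsg.Agent.Lib.H24.BrP.simple_data (G := G) (p := 13) (m := 80) (n₀ := 40) (e₀ := 2) (t := 6)
      (by rw [hG]) (by norm_num) (by norm_num) (by norm_num) hdiv (by norm_num) (by norm_num)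
  push_cast at hsq hx
  have hall : ∀ i ∈ S, False := by
    intro i hi
    obtain ⟨hb0, hdd, hd1, m', hm'⟩ := hS i hi
    have hbsq : b i ^ 2 ≤ 1 := by
      have := Finset.single_le_sum (f := fun i => b i ^ 2) (fun j _ => sq_nonneg (b j)) hi
      rw [hsq] at this
      linarith
    have hdle : d i ^ 2 ≤ 1040 := by
      have := Finset.single_le_sum (f := fun i => d i ^ 2) (fun j _ => Nat.zero_le _) hi
      omega
    have hd32 : d i ≤ 32 := by nlinarith
    have hb : b i = 1 ∨ b i = -1 := by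
      have : -1 ≤ b i ∧ b i ≤ 1 := by constructor <;> nlinarith
      omega
    rw [hG] at hdd
    obtain ⟨n, hn⟩ : ∃ n, n = d i := ⟨_, rfl⟩
    rw [← hn] at hdd hd1 hm' hd32
    push_cast at hm'
    interval_cases n <;> omega
  have h1 : ∑ i ∈ S, b i ^ 2 = 0 := by
    apply Finset.sum_eq_zero
    intro i hi
    exact (hall i hi).elim
  rw [h1] at hsq
  omega

end Cfsg.Agent.Lib.H5.SmallOrd
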