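import Mathlib
import Cfsg.Agent.Lib.H5.Ord.GenTests3
import Cfsg.Agent.Lib.H5.Ord.Ord1008
import Cfsg.Agent.Lib.H5.Ord.Ord1080
import Cfsg.Agent.Lib.H5.Ord.Small2

set_option autoImplicit false
set_option maxHeartbeats 1600000

/-! # Orders of non-abelian simple groups: the range 1000..1092 (generated) -/

namespace Cfsg.Agent.Lib.H5.Sieve496

open Cfsg.Agent.Lib.H5.GenTests

theorem chunk10 {G : Type*} [Group G] [Finite G] [IsSimpleGroup G]
    (hG : ¬ IsMulCommutative G) (h1 : 1000 ≤ Nat.card G) (h2 : Nat.card G ≤ 1092) :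
    Nat.card G = 60 ∨ Nat.card G = 168 ∨ Nat.card G = 360 ∨ Nat.card G = 504 ∨
      Nat.card G = 660 ∨ Nat.card G = 1092 := by
  obtain ⟨n, hn⟩ : ∃ n, Nat.card G = n := ⟨_, rfl⟩
  rw [hn] at h1 h2 ⊢
  interval_cases n
  · have : Fact (Nat.Prime 5) := ⟨by norm_num⟩
    exact absurd hn (ne_of_sylCheck hG 1000 5 3 8 (by norm_num) (by norm_num) (by norm_num) (by norm_num) (by decide))
  · have : Fact (Nat.Prime 13) := ⟨by norm_num⟩
    exact absurd hn (ne_of_sylCheck hG 1001 13 1 77 (by norm_num) (by norm_num) (by norm_num) (by norm_num) (by decide))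
  · have : Fact (Nat.Prime 167) := ⟨by norm_num⟩
    exact absurd hn (ne_of_sylCheck hG 1002 167 1 6 (by norm_num) (by norm_num) (by norm_num) (by norm_num) (by decide))
  · have : Fact (Nat.Prime 59) := ⟨by norm_num⟩
    exact absurd hn (ne_of_sylCheck hG 1003 59 1 17 (by norm_num) (by norm_num) (by norm_num) (by norm_num) (by decide))
  · have : Fact (Nat.Prime 251) := ⟨by norm_num⟩
    exact absurd hn (ne_of_sylCheck hG 1004 251 1 4 (by norm_num) (by norm_num) (by norm_num) (by norm_num) (by decide))
  · have : Fact (Nat.Prime 67) := ⟨by norm_num⟩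
    exact absurd hn (ne_of_sylCheck hG 1005 67 1 15 (by norm_num) (by norm_num) (by norm_num) (by norm_num) (by decide))
  · have : Fact (Nat.Prime 503) := ⟨by norm_num⟩
    exact absurd hn (ne_of_sylCheck hG 1006 503 1 2 (by norm_num) (by norm_num) (by norm_num) (by norm_num) (by decide))
  · have : Fact (Nat.Prime 53) := ⟨by norm_num⟩
    exact absurd hn (ne_of_sylCheck hG 1007 53 1 19 (by norm_num) (by norm_num) (by norm_num) (by norm_num) (by decide))
  · exact absurd hn Cfsg.Agent.Lib.H5.SmallOrd.not_1008
  · exact absurd hn (ne_ppow hG 1009 1 (by norm_num))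
  · have : Fact (Nat.Prime 101) := ⟨by norm_num⟩
    exact absurd hn (ne_of_sylCheck hG 1010 101 1 10 (by norm_num) (by norm_num) (by norm_num) (by norm_num) (by decide))
  · have : Fact (Nat.Prime 337) := ⟨by norm_num⟩
    exact absurd hn (ne_of_sylCheck hG 1011 337 1 3 (by norm_num) (by norm_num) (by norm_num) (by norm_num) (by decide))
  · have : Fact (Nat.Prime 23) := ⟨by norm_num⟩
    exact absurd hn (ne_of_sylCheck hG 1012 23 1 44 (by norm_num) (by norm_num) (by norm_num) (by norm_num) (by decide))
  · exact absurd hn (ne_ppow hG 1013 1 (by norm_num))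
  · have : Fact (Nat.Prime 13) := ⟨by norm_num⟩
    exact absurd hn (ne_of_sylCheck hG 1014 13 2 6 (by norm_num) (by norm_num) (by norm_num) (by norm_num) (by decide))
  · have : Fact (Nat.Prime 29) := ⟨by norm_num⟩
    exact absurd hn (ne_of_sylCheck hG 1015 29 1 35 (by norm_num) (by norm_num) (by norm_num) (by norm_num) (by decide))
  · have : Fact (Nat.Prime 127) := ⟨by norm_num⟩
    exact absurd hn (ne_of_sylCheck hG 1016 127 1 8 (by norm_num) (by norm_num) (by norm_num) (by norm_num) (by decide))
  · have : Fact (Nat.Prime 113) := ⟨by norm_num⟩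
    exact absurd hn (ne_of_sylCheck hG 1017 113 1 9 (by norm_num) (by norm_num) (by norm_num) (by norm_num) (by decide))
  · have : Fact (Nat.Prime 509) := ⟨by norm_num⟩
    exact absurd hn (ne_of_sylCheck hG 1018 509 1 2 (by norm_num) (by norm_num) (by norm_num) (by norm_num) (by decide))
  · exact absurd hn (ne_ppow hG 1019 1 (by norm_num))
  · have : Fact (Nat.Prime 17) := ⟨by norm_num⟩
    exact absurd hn (ne_of_sylCheck hG 1020 17 1 60 (by norm_num) (by norm_num) (by norm_num) (by norm_num) (by decide))
  · exact absurd hn (ne_ppow hG 1021 1 (by norm_num))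
  · have : Fact (Nat.Prime 73) := ⟨by norm_num⟩
    exact absurd hn (ne_of_sylCheck hG 1022 73 1 14 (by norm_num) (by norm_num) (by norm_num) (by norm_num) (by decide))
  · have : Fact (Nat.Prime 31) := ⟨by norm_num⟩
    exact absurd hn (ne_of_sylCheck hG 1023 31 1 33 (by norm_num) (by norm_num) (by norm_num) (by norm_num) (by decide))
  · exact absurd hn (ne_ppow hG 2 10 (by norm_num))
  · have : Fact (Nat.Prime 41) := ⟨by norm_num⟩
    exact absurd hn (ne_of_sylCheck hG 1025 41 1 25 (by norm_num) (by norm_num) (by norm_num) (by norm_num) (by decide))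
  · have : Fact (Nat.Prime 19) := ⟨by norm_num⟩
    exact absurd hn (ne_of_sylCheck hG 1026 19 1 54 (by norm_num) (by norm_num) (by norm_num) (by norm_num) (by decide))
  · have : Fact (Nat.Prime 79) := ⟨by norm_num⟩
    exact absurd hn (ne_of_sylCheck hG 1027 79 1 13 (by norm_num) (by norm_num) (by norm_num) (by norm_num) (by decide))
  · have : Fact (Nat.Prime 257) := ⟨by norm_num⟩
    exact absurd hn (ne_of_sylCheck hG 1028 257 1 4 (by norm_num) (by norm_num) (by norm_num) (by norm_num) (by decide))
  · have : Fact (Nat.Prime 7) := ⟨by norm_num⟩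
    exact absurd hn (ne_of_sylCheck hG 1029 7 3 3 (by norm_num) (by norm_num) (by norm_num) (by norm_num) (by decide))
  · have : Fact (Nat.Prime 103) := ⟨by norm_num⟩
    exact absurd hn (ne_of_sylCheck hG 1030 103 1 10 (by norm_num) (by norm_num) (by norm_num) (by norm_num) (by decide))
  · exact absurd hn (ne_ppow hG 1031 1 (by norm_num))
  · have : Fact (Nat.Prime 43) := ⟨by norm_num⟩
    exact absurd hn (ne_of_sylCheck hG 1032 43 1 24 (by norm_num) (by norm_num) (by norm_num) (by norm_num) (by decide))
  · exact absurd hn (ne_ppow hG 1033 1 (by norm_num))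
  · have : Fact (Nat.Prime 47) := ⟨by norm_num⟩
    exact absurd hn (ne_of_sylCheck hG 1034 47 1 22 (by norm_num) (by norm_num) (by norm_num) (by norm_num) (by decide))
  · have : Fact (Nat.Prime 23) := ⟨by norm_num⟩
    exact absurd hn (ne_of_sylCheck hG 1035 23 1 45 (by norm_num) (by norm_num) (by norm_num) (by norm_num) (by decide))
  · have : Fact (Nat.Prime 37) := ⟨by norm_num⟩
    exact absurd hn (ne_of_sylCheck hG 1036 37 1 28 (by norm_num) (by norm_num) (by norm_num) (by norm_num) (by decide))
  · have : Fact (Nat.Prime 61) := ⟨by norm_num⟩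
    exact absurd hn (ne_of_sylCheck hG 1037 61 1 17 (by norm_num) (by norm_num) (by norm_num) (by norm_num) (by decide))
  · have : Fact (Nat.Prime 173) := ⟨by norm_num⟩
    exact absurd hn (ne_of_sylCheck hG 1038 173 1 6 (by norm_num) (by norm_num) (by norm_num) (by norm_num) (by decide))
  · exact absurd hn (ne_ppow hG 1039 1 (by norm_num))
  · exact absurd hn Cfsg.Agent.Lib.H5.SmallOrd.not_1040
  · have : Fact (Nat.Prime 347) := ⟨by norm_num⟩
    exact absurd hn (ne_of_sylCheck hG 1041 347 1 3 (by norm_num) (by norm_num) (by norm_num) (by norm_num) (by decide))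
  · have : Fact (Nat.Prime 521) := ⟨by norm_num⟩
    exact absurd hn (ne_of_sylCheck hG 1042 521 1 2 (by norm_num) (by norm_num) (by norm_num) (by norm_num) (by decide))
  · have : Fact (Nat.Prime 149) := ⟨by norm_num⟩
    exact absurd hn (ne_of_sylCheck hG 1043 149 1 7 (by norm_num) (by norm_num) (by norm_num) (by norm_num) (by decide))
  · have : Fact (Nat.Prime 29) := ⟨by norm_num⟩
    exact absurd hn (ne_of_sylCheck hG 1044 29 1 36 (by norm_num) (by norm_num) (by norm_num) (by norm_num) (by decide))
  · have : Fact (Nat.Prime 19) := ⟨by norm_num⟩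
    exact absurd hn (ne_of_sylCheck hG 1045 19 1 55 (by norm_num) (by norm_num) (by norm_num) (by norm_num) (by decide))
  · have : Fact (Nat.Prime 523) := ⟨by norm_num⟩
    exact absurd hn (ne_of_sylCheck hG 1046 523 1 2 (by norm_num) (by norm_num) (by norm_num) (by norm_num) (by decide))
  · have : Fact (Nat.Prime 349) := ⟨by norm_num⟩
    exact absurd hn (ne_of_sylCheck hG 1047 349 1 3 (by norm_num) (by norm_num) (by norm_num) (by norm_num) (by decide))
  · have : Fact (Nat.Prime 131) := ⟨by norm_num⟩
    exact absurd hn (ne_of_sylCheck hG 1048 131 1 8 (by norm_num) (by norm_num) (by norm_num) (by norm_num) (by decide))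
  · exact absurd hn (ne_ppow hG 1049 1 (by norm_num))
  · exact absurd hn (Cfsg.Agent.S0493.ne_two_odd 525 (by decide))
  · exact absurd hn (ne_ppow hG 1051 1 (by norm_num))
  · have : Fact (Nat.Prime 263) := ⟨by norm_num⟩
    exact absurd hn (ne_of_sylCheck hG 1052 263 1 4 (by norm_num) (by norm_num) (by norm_num) (by norm_num) (by decide))
  · exact absurd hn (ne_paqb hG 3 13 4 1 (by norm_num) (by norm_num))
  · have : Fact (Nat.Prime 31) := ⟨by norm_num⟩
    exact absurd hn (ne_of_sylCheck hG 1054 31 1 34 (by norm_num) (by norm_num) (by norm_num) (by norm_num) (by decide))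
  · have : Fact (Nat.Prime 211) := ⟨by norm_num⟩
    exact absurd hn (ne_of_sylCheck hG 1055 211 1 5 (by norm_num) (by norm_num) (by norm_num) (by norm_num) (by decide))
  · have : Fact (Nat.Prime 11) := ⟨by norm_num⟩
    exact absurd hn (ne_of_ncfpCheck hG 1056 11 96 (by norm_num) (by norm_num) (by norm_num) (by decide))
  · have : Fact (Nat.Prime 151) := ⟨by norm_num⟩
    exact absurd hn (ne_of_sylCheck hG 1057 151 1 7 (by norm_num) (by norm_num) (by norm_num) (by norm_num) (by decide))
  · have : Fact (Nat.Prime 23) := ⟨by norm_num⟩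
    exact absurd hn (ne_of_sylCheck hG 1058 23 2 2 (by norm_num) (by norm_num) (by norm_num) (by norm_num) (by decide))
  · have : Fact (Nat.Prime 353) := ⟨by norm_num⟩
    exact absurd hn (ne_of_sylCheck hG 1059 353 1 3 (by norm_num) (by norm_num) (by norm_num) (by norm_num) (by decide))
  · have : Fact (Nat.Prime 53) := ⟨by norm_num⟩
    exact absurd hn (ne_of_sylCheck hG 1060 53 1 20 (by norm_num) (by norm_num) (by norm_num) (by norm_num) (by decide))
  · exact absurd hn (ne_ppow hG 1061 1 (by norm_num))
  · have : Fact (Nat.Prime 59) := ⟨by norm_num⟩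
    exact absurd hn (ne_of_sylCheck hG 1062 59 1 18 (by norm_num) (by norm_num) (by norm_num) (by norm_num) (by decide))
  · exact absurd hn (ne_ppow hG 1063 1 (by norm_num))
  · have : Fact (Nat.Prime 19) := ⟨by norm_num⟩
    exact absurd hn (ne_of_sylCheck hG 1064 19 1 56 (by norm_num) (by norm_num) (by norm_num) (by norm_num) (by decide))
  · have : Fact (Nat.Prime 71) := ⟨by norm_num⟩
    exact absurd hn (ne_of_sylCheck hG 1065 71 1 15 (by norm_num) (by norm_num) (by norm_num) (by norm_num) (by decide))
  · have : Fact (Nat.Prime 41) := ⟨by norm_num⟩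
    exact absurd hn (ne_of_sylCheck hG 1066 41 1 26 (by norm_num) (by norm_num) (by norm_num) (by norm_num) (by decide))
  · have : Fact (Nat.Prime 97) := ⟨by norm_num⟩
    exact absurd hn (ne_of_sylCheck hG 1067 97 1 11 (by norm_num) (by norm_num) (by norm_num) (by norm_num) (by decide))
  · have : Fact (Nat.Prime 89) := ⟨by norm_num⟩
    exact absurd hn (ne_of_sylCheck hG 1068 89 1 12 (by norm_num) (by norm_num) (by norm_num) (by norm_num) (by decide))
  · exact absurd hn (ne_ppow hG 1069 1 (by norm_num))
  · have : Fact (Nat.Prime 107) := ⟨by norm_num⟩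
    exact absurd hn (ne_of_sylCheck hG 1070 107 1 10 (by norm_num) (by norm_num) (by norm_num) (by norm_num) (by decide))
  · have : Fact (Nat.Prime 17) := ⟨by norm_num⟩
    exact absurd hn (ne_of_sylCheck hG 1071 17 1 63 (by norm_num) (by norm_num) (by norm_num) (by norm_num) (by decide))
  · have : Fact (Nat.Prime 67) := ⟨by norm_num⟩
    exact absurd hn (ne_of_sylCheck hG 1072 67 1 16 (by norm_num) (by norm_num) (by norm_num) (by norm_num) (by decide))
  · have : Fact (Nat.Prime 37) := ⟨by norm_num⟩
    exact absurd hn (ne_of_sylCheck hG 1073 37 1 29 (by norm_num) (by norm_num) (by norm_num) (by norm_num) (by decide))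
  · have : Fact (Nat.Prime 179) := ⟨by norm_num⟩
    exact absurd hn (ne_of_sylCheck hG 1074 179 1 6 (by norm_num) (by norm_num) (by norm_num) (by norm_num) (by decide))
  · have : Fact (Nat.Prime 43) := ⟨by norm_num⟩
    exact absurd hn (ne_of_sylCheck hG 1075 43 1 25 (by norm_num) (by norm_num) (by norm_num) (by norm_num) (by decide))
  · have : Fact (Nat.Prime 269) := ⟨by norm_num⟩
    exact absurd hn (ne_of_sylCheck hG 1076 269 1 4 (by norm_num) (by norm_num) (by norm_num) (by norm_num) (by decide))
  · have : Fact (Nat.Prime 359) := ⟨by norm_num⟩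
    exact absurd hn (ne_of_sylCheck hG 1077 359 1 3 (by norm_num) (by norm_num) (by norm_num) (by norm_num) (by decide))
  · have : Fact (Nat.Prime 11) := ⟨by norm_num⟩
    exact absurd hn (ne_of_sylCheck hG 1078 11 1 98 (by norm_num) (by norm_num) (by norm_num) (by norm_num) (by decide))
  · have : Fact (Nat.Prime 83) := ⟨by norm_num⟩
    exact absurd hn (ne_of_sylCheck hG 1079 83 1 13 (by norm_num) (by norm_num) (by norm_num) (by norm_num) (by decide))
  · exact absurd hn Cfsg.Agent.Lib.H5.SmallOrd.not_1080
  · have : Fact (Nat.Prime 47) := ⟨by norm_num⟩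
    exact absurd hn (ne_of_sylCheck hG 1081 47 1 23 (by norm_num) (by norm_num) (by norm_num) (by norm_num) (by decide))
  · have : Fact (Nat.Prime 541) := ⟨by norm_num⟩
    exact absurd hn (ne_of_sylCheck hG 1082 541 1 2 (by norm_num) (by norm_num) (by norm_num) (by norm_num) (by decide))
  · have : Fact (Nat.Prime 19) := ⟨by norm_num⟩
    exact absurd hn (ne_of_sylCheck hG 1083 19 2 3 (by norm_num) (by norm_num) (by norm_num) (by norm_num) (by decide))
  · have : Fact (Nat.Prime 271) := ⟨by norm_num⟩
    exact absurd hn (ne_of_sylCheck hG 1084 271 1 4 (by norm_num) (by norm_num) (by norm_num) (by norm_num) (by decide))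
  · have : Fact (Nat.Prime 31) := ⟨by norm_num⟩
    exact absurd hn (ne_of_sylCheck hG 1085 31 1 35 (by norm_num) (by norm_num) (by norm_num) (by norm_num) (by decide))
  · have : Fact (Nat.Prime 181) := ⟨by norm_num⟩
    exact absurd hn (ne_of_sylCheck hG 1086 181 1 6 (by norm_num) (by norm_num) (by norm_num) (by norm_num) (by decide))
  · exact absurd hn (ne_ppow hG 1087 1 (by norm_num))
  · have : Fact (Nat.Prime 17) := ⟨by norm_num⟩
    exact absurd hn (ne_of_sylCheck hG 1088 17 1 64 (by norm_num) (by norm_num) (by norm_num) (by norm_num) (by decide))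
  · have : Fact (Nat.Prime 11) := ⟨by norm_num⟩
    exact absurd hn (ne_of_sylCheck hG 1089 11 2 9 (by norm_num) (by norm_num) (by norm_num) (by norm_num) (by decide))
  · have : Fact (Nat.Prime 109) := ⟨by norm_num⟩
    exact absurd hn (ne_of_sylCheck hG 1090 109 1 10 (by norm_num) (by norm_num) (by norm_num) (by norm_num) (by decide))
  · exact absurd hn (ne_ppow hG 1091 1 (by norm_num))
  · norm_num

end Cfsg.Agent.Lib.H5.Sieve496
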