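import Mathlib
import Cfsg.Agent.Lib.H5.Ord.GenTests
import Cfsg.Agent.Lib.H5.Ord.InvSelf

set_option autoImplicit false

/-! # No simple groups of order 264, 760 (dihedral Sylow normalizer, sign argument) -/

namespace Cfsg.Agent.Lib.H5.SmallOrd

open Subgroup MulAction Cfsg.Agent.Lib.H5 Cfsg.Agent.Lib.H5.SylPrime Cfsg.Agent.Lib.H5.GenTests

variable {G : Type*} [Group G] [Finite G] [IsSimpleGroup G]

theorem not_264 : Nat.card G ≠ 264 := by
  intro hn
  have hnc : ¬ IsMulCommutative G :=
    not_isMulCommutative_of_card_not_prime (by rw [hn]; norm_num)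
  have : Fact (Nat.Prime 11) := ⟨by norm_num⟩
  let P : Sylow 11 G := default
  obtain ⟨h1, h2, h3, -, h5, h6, h7, h8, hP, hNd, -, -, hcr, -⟩ :=
    prime_data_explicit hnc hn (p := 11) (m := 24) (by norm_num) (by norm_num) (by norm_num) P
  have hd : Nat.card (Sylow 11 G) = 12 := by
    have hmem : Nat.card (Sylow 11 G) ∈ (Nat.divisors 24).filter (fun d => d % 11 = 1) := by
      rw [Finset.mem_filter, Nat.mem_divisors]
      exact ⟨⟨h1, by norm_num⟩, h2⟩
    have hfil : (Nat.divisors 24).filter (fun d => d % 11 = 1) = {1, 12} := by decide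
    rw [hfil] at hmem
    simp only [Finset.mem_insert, Finset.mem_singleton] at hmem
    rcases hmem with h | h
    · exact absurd h h3
    · exact h
  rw [hd] at h7 hNd
  set r := (centralizer ((P : Subgroup G) : Set G)).relIndex (normalizer ((P : Subgroup G) : Set G))
  set c := Nat.card (centralizer ((P : Subgroup G) : Set G))
  have hr10 : r ≤ 10 := Nat.le_of_dvd (by norm_num) h5
  have hrc : c = 11 ∧ r = 2 := by
    interval_cases r <;> omega
  have hN : Nat.card (normalizer ((P : Subgroup G) : Set G)) = 22 := by omega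
  obtain ⟨t, f, h, -, -, -, -, hf1, hf2, hf3, -⟩ :=
    exists_inv_data_selfcent (by rw [hn]; norm_num) 11 (by norm_num) P hP hrc.1
      (by rw [hN]; norm_num)
  rw [hd] at hf2 hf3
  omega

theorem not_760 : Nat.card G ≠ 760 := by
  intro hn
  have hnc : ¬ IsMulCommutative G :=
    not_isMulCommutative_of_card_not_prime (by rw [hn]; norm_num)
  have : Fact (Nat.Prime 19) := ⟨by norm_num⟩
  let P : Sylow 19 G := default
  obtain ⟨h1, h2, h3, -, h5, h6, h7, h8, hP, hNd, -, -, hcr, -⟩ :=
    prime_data_explicit hnc hn (p := 19) (m := 40) (by norm_num) (by norm_num) (by norm_num) P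
  have hd : Nat.card (Sylow 19 G) = 20 := by
    have hmem : Nat.card (Sylow 19 G) ∈ (Nat.divisors 40).filter (fun d => d % 19 = 1) := by
      rw [Finset.mem_filter, Nat.mem_divisors]
      exact ⟨⟨h1, by norm_num⟩, h2⟩
    have hfil : (Nat.divisors 40).filter (fun d => d % 19 = 1) = {1, 20} := by decide
    rw [hfil] at hmem
    simp only [Finset.mem_insert, Finset.mem_singleton] at hmem
    rcases hmem with h | h
    · exact absurd h h3
    · exact h
  rw [hd] at h7 hNd
  set r := (centralizer ((P : Subgroup G) : Set G)).relIndex (normalizer ((P : Subgroup G) : Set G))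
  set c := Nat.card (centralizer ((P : Subgroup G) : Set G))
  have hr18 : r ≤ 18 := Nat.le_of_dvd (by norm_num) h5
  have hrc : c = 19 ∧ r = 2 := by
    interval_cases r <;> omega
  have hN : Nat.card (normalizer ((P : Subgroup G) : Set G)) = 38 := by omega
  obtain ⟨t, f, h, -, -, -, -, hf1, hf2, hf3, -⟩ :=
    exists_inv_data_selfcent (by rw [hn]; norm_num) 19 (by norm_num) P hP hrc.1
      (by rw [hN]; norm_num)
  rw [hd] at hf2 hf3
  omega

end Cfsg.Agent.Lib.H5.SmallOrd
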