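import Mathlib
import Cfsg.Agent.Lib.H5.Ord.GenTests3
import Cfsg.Agent.Lib.H5.Ord.Small1

set_option autoImplicit false
set_option maxHeartbeats 1600000

/-! # Orders of non-abelian simple groups: the range 200..299 (generated) -/

namespace Cfsg.Agent.Lib.H5.Sieve496

open Cfsg.Agent.Lib.H5.GenTests

theorem chunk2 {G : Type*} [Group G] [Finite G] [IsSimpleGroup G]
    (hG : ¬ IsMulCommutative G) (h1 : 200 ≤ Nat.card G) (h2 : Nat.card G ≤ 299) :
    Nat.card G = 60 ∨ Nat.card G = 168 ∨ Nat.card G = 360 ∨ Nat.card G = 504 ∨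
      Nat.card G = 660 ∨ Nat.card G = 1092 := by
  obtain ⟨n, hn⟩ : ∃ n, Nat.card G = n := ⟨_, rfl⟩
  rw [hn] at h1 h2 ⊢
  interval_cases n
  · have : Fact (Nat.Prime 5) := ⟨by norm_num⟩
    exact absurd hn (ne_of_sylCheck hG 200 5 2 8 (by norm_num) (by norm_num) (by norm_num) (by norm_num) (by decide))
  · have : Fact (Nat.Prime 67) := ⟨by norm_num⟩
    exact absurd hn (ne_of_sylCheck hG 201 67 1 3 (by norm_num) (by norm_num) (by norm_num) (by norm_num) (by decide))
  · have : Fact (Nat.Prime 101) := ⟨by norm_num⟩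
    exact absurd hn (ne_of_sylCheck hG 202 101 1 2 (by norm_num) (by norm_num) (by norm_num) (by norm_num) (by decide))
  · have : Fact (Nat.Prime 29) := ⟨by norm_num⟩
    exact absurd hn (ne_of_sylCheck hG 203 29 1 7 (by norm_num) (by norm_num) (by norm_num) (by norm_num) (by decide))
  · have : Fact (Nat.Prime 17) := ⟨by norm_num⟩
    exact absurd hn (ne_of_sylCheck hG 204 17 1 12 (by norm_num) (by norm_num) (by norm_num) (by norm_num) (by decide))
  · have : Fact (Nat.Prime 41) := ⟨by norm_num⟩
    exact absurd hn (ne_of_sylCheck hG 205 41 1 5 (by norm_num) (by norm_num) (by norm_num) (by norm_num) (by decide))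
  · have : Fact (Nat.Prime 103) := ⟨by norm_num⟩
    exact absurd hn (ne_of_sylCheck hG 206 103 1 2 (by norm_num) (by norm_num) (by norm_num) (by norm_num) (by decide))
  · have : Fact (Nat.Prime 23) := ⟨by norm_num⟩
    exact absurd hn (ne_of_sylCheck hG 207 23 1 9 (by norm_num) (by norm_num) (by norm_num) (by norm_num) (by decide))
  · have : Fact (Nat.Prime 13) := ⟨by norm_num⟩
    exact absurd hn (ne_of_sylCheck hG 208 13 1 16 (by norm_num) (by norm_num) (by norm_num) (by norm_num) (by decide))
  · have : Fact (Nat.Prime 19) := ⟨by norm_num⟩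
    exact absurd hn (ne_of_sylCheck hG 209 19 1 11 (by norm_num) (by norm_num) (by norm_num) (by norm_num) (by decide))
  · exact absurd hn (Cfsg.Agent.S0493.ne_two_odd 105 (by decide))
  · exact absurd hn (ne_ppow hG 211 1 (by norm_num))
  · have : Fact (Nat.Prime 53) := ⟨by norm_num⟩
    exact absurd hn (ne_of_sylCheck hG 212 53 1 4 (by norm_num) (by norm_num) (by norm_num) (by norm_num) (by decide))
  · have : Fact (Nat.Prime 71) := ⟨by norm_num⟩
    exact absurd hn (ne_of_sylCheck hG 213 71 1 3 (by norm_num) (by norm_num) (by norm_num) (by norm_num) (by decide))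
  · have : Fact (Nat.Prime 107) := ⟨by norm_num⟩
    exact absurd hn (ne_of_sylCheck hG 214 107 1 2 (by norm_num) (by norm_num) (by norm_num) (by norm_num) (by decide))
  · have : Fact (Nat.Prime 43) := ⟨by norm_num⟩
    exact absurd hn (ne_of_sylCheck hG 215 43 1 5 (by norm_num) (by norm_num) (by norm_num) (by norm_num) (by decide))
  · have : Fact (Nat.Prime 3) := ⟨by norm_num⟩
    exact absurd hn (ne_of_sylCheck hG 216 3 3 8 (by norm_num) (by norm_num) (by norm_num) (by norm_num) (by decide))
  · have : Fact (Nat.Prime 31) := ⟨by norm_num⟩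
    exact absurd hn (ne_of_sylCheck hG 217 31 1 7 (by norm_num) (by norm_num) (by norm_num) (by norm_num) (by decide))
  · have : Fact (Nat.Prime 109) := ⟨by norm_num⟩
    exact absurd hn (ne_of_sylCheck hG 218 109 1 2 (by norm_num) (by norm_num) (by norm_num) (by norm_num) (by decide))
  · have : Fact (Nat.Prime 73) := ⟨by norm_num⟩
    exact absurd hn (ne_of_sylCheck hG 219 73 1 3 (by norm_num) (by norm_num) (by norm_num) (by norm_num) (by decide))
  · have : Fact (Nat.Prime 11) := ⟨by norm_num⟩
    exact absurd hn (ne_of_sylCheck hG 220 11 1 20 (by norm_num) (by norm_num) (by norm_num) (by norm_num) (by decide))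
  · have : Fact (Nat.Prime 17) := ⟨by norm_num⟩
    exact absurd hn (ne_of_sylCheck hG 221 17 1 13 (by norm_num) (by norm_num) (by norm_num) (by norm_num) (by decide))
  · have : Fact (Nat.Prime 37) := ⟨by norm_num⟩
    exact absurd hn (ne_of_sylCheck hG 222 37 1 6 (by norm_num) (by norm_num) (by norm_num) (by norm_num) (by decide))
  · exact absurd hn (ne_ppow hG 223 1 (by norm_num))
  · have : Fact (Nat.Prime 2) := ⟨by norm_num⟩
    exact absurd hn (ne_of_sylCheck hG 224 2 5 7 (by norm_num) (by norm_num) (by norm_num) (by norm_num) (by decide))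
  · have : Fact (Nat.Prime 5) := ⟨by norm_num⟩
    exact absurd hn (ne_of_sylCheck hG 225 5 2 9 (by norm_num) (by norm_num) (by norm_num) (by norm_num) (by decide))
  · have : Fact (Nat.Prime 113) := ⟨by norm_num⟩
    exact absurd hn (ne_of_sylCheck hG 226 113 1 2 (by norm_num) (by norm_num) (by norm_num) (by norm_num) (by decide))
  · exact absurd hn (ne_ppow hG 227 1 (by norm_num))
  · have : Fact (Nat.Prime 19) := ⟨by norm_num⟩
    exact absurd hn (ne_of_sylCheck hG 228 19 1 12 (by norm_num) (by norm_num) (by norm_num) (by norm_num) (by decide))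
  · exact absurd hn (ne_ppow hG 229 1 (by norm_num))
  · have : Fact (Nat.Prime 23) := ⟨by norm_num⟩
    exact absurd hn (ne_of_sylCheck hG 230 23 1 10 (by norm_num) (by norm_num) (by norm_num) (by norm_num) (by decide))
  · have : Fact (Nat.Prime 11) := ⟨by norm_num⟩
    exact absurd hn (ne_of_sylCheck hG 231 11 1 21 (by norm_num) (by norm_num) (by norm_num) (by norm_num) (by decide))
  · have : Fact (Nat.Prime 29) := ⟨by norm_num⟩
    exact absurd hn (ne_of_sylCheck hG 232 29 1 8 (by norm_num) (by norm_num) (by norm_num) (by norm_num) (by decide))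
  · exact absurd hn (ne_ppow hG 233 1 (by norm_num))
  · have : Fact (Nat.Prime 13) := ⟨by norm_num⟩
    exact absurd hn (ne_of_sylCheck hG 234 13 1 18 (by norm_num) (by norm_num) (by norm_num) (by norm_num) (by decide))
  · have : Fact (Nat.Prime 47) := ⟨by norm_num⟩
    exact absurd hn (ne_of_sylCheck hG 235 47 1 5 (by norm_num) (by norm_num) (by norm_num) (by norm_num) (by decide))
  · have : Fact (Nat.Prime 59) := ⟨by norm_num⟩
    exact absurd hn (ne_of_sylCheck hG 236 59 1 4 (by norm_num) (by norm_num) (by norm_num) (by norm_num) (by decide))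
  · have : Fact (Nat.Prime 79) := ⟨by norm_num⟩
    exact absurd hn (ne_of_sylCheck hG 237 79 1 3 (by norm_num) (by norm_num) (by norm_num) (by norm_num) (by decide))
  · have : Fact (Nat.Prime 17) := ⟨by norm_num⟩
    exact absurd hn (ne_of_sylCheck hG 238 17 1 14 (by norm_num) (by norm_num) (by norm_num) (by norm_num) (by decide))
  · exact absurd hn (ne_ppow hG 239 1 (by norm_num))
  · have : Fact (Nat.Prime 5) := ⟨by norm_num⟩
    exact absurd hn (ne_of_ncfpCheck hG 240 5 48 (by norm_num) (by norm_num) (by norm_num) (by decide))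
  · exact absurd hn (ne_ppow hG 241 1 (by norm_num))
  · have : Fact (Nat.Prime 11) := ⟨by norm_num⟩
    exact absurd hn (ne_of_sylCheck hG 242 11 2 2 (by norm_num) (by norm_num) (by norm_num) (by norm_num) (by decide))
  · exact absurd hn (ne_ppow hG 3 5 (by norm_num))
  · have : Fact (Nat.Prime 61) := ⟨by norm_num⟩
    exact absurd hn (ne_of_sylCheck hG 244 61 1 4 (by norm_num) (by norm_num) (by norm_num) (by norm_num) (by decide))
  · have : Fact (Nat.Prime 7) := ⟨by norm_num⟩
    exact absurd hn (ne_of_sylCheck hG 245 7 2 5 (by norm_num) (by norm_num) (by norm_num) (by norm_num) (by decide))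
  · have : Fact (Nat.Prime 41) := ⟨by norm_num⟩
    exact absurd hn (ne_of_sylCheck hG 246 41 1 6 (by norm_num) (by norm_num) (by norm_num) (by norm_num) (by decide))
  · have : Fact (Nat.Prime 19) := ⟨by norm_num⟩
    exact absurd hn (ne_of_sylCheck hG 247 19 1 13 (by norm_num) (by norm_num) (by norm_num) (by norm_num) (by decide))
  · have : Fact (Nat.Prime 31) := ⟨by norm_num⟩
    exact absurd hn (ne_of_sylCheck hG 248 31 1 8 (by norm_num) (by norm_num) (by norm_num) (by norm_num) (by decide))
  · have : Fact (Nat.Prime 83) := ⟨by norm_num⟩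
    exact absurd hn (ne_of_sylCheck hG 249 83 1 3 (by norm_num) (by norm_num) (by norm_num) (by norm_num) (by decide))
  · have : Fact (Nat.Prime 5) := ⟨by norm_num⟩
    exact absurd hn (ne_of_sylCheck hG 250 5 3 2 (by norm_num) (by norm_num) (by norm_num) (by norm_num) (by decide))
  · exact absurd hn (ne_ppow hG 251 1 (by norm_num))
  · have : Fact (Nat.Prime 7) := ⟨by norm_num⟩
    exact absurd hn (ne_of_ncfpCheck hG 252 7 36 (by norm_num) (by norm_num) (by norm_num) (by decide))
  · have : Fact (Nat.Prime 23) := ⟨by norm_num⟩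
    exact absurd hn (ne_of_sylCheck hG 253 23 1 11 (by norm_num) (by norm_num) (by norm_num) (by norm_num) (by decide))
  · have : Fact (Nat.Prime 127) := ⟨by norm_num⟩
    exact absurd hn (ne_of_sylCheck hG 254 127 1 2 (by norm_num) (by norm_num) (by norm_num) (by norm_num) (by decide))
  · have : Fact (Nat.Prime 17) := ⟨by norm_num⟩
    exact absurd hn (ne_of_sylCheck hG 255 17 1 15 (by norm_num) (by norm_num) (by norm_num) (by norm_num) (by decide))
  · exact absurd hn (ne_ppow hG 2 8 (by norm_num))
  · exact absurd hn (ne_ppow hG 257 1 (by norm_num))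
  · have : Fact (Nat.Prime 43) := ⟨by norm_num⟩
    exact absurd hn (ne_of_sylCheck hG 258 43 1 6 (by norm_num) (by norm_num) (by norm_num) (by norm_num) (by decide))
  · have : Fact (Nat.Prime 37) := ⟨by norm_num⟩
    exact absurd hn (ne_of_sylCheck hG 259 37 1 7 (by norm_num) (by norm_num) (by norm_num) (by norm_num) (by decide))
  · have : Fact (Nat.Prime 13) := ⟨by norm_num⟩
    exact absurd hn (ne_of_sylCheck hG 260 13 1 20 (by norm_num) (by norm_num) (by norm_num) (by norm_num) (by decide))
  · have : Fact (Nat.Prime 29) := ⟨by norm_num⟩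
    exact absurd hn (ne_of_sylCheck hG 261 29 1 9 (by norm_num) (by norm_num) (by norm_num) (by norm_num) (by decide))
  · have : Fact (Nat.Prime 131) := ⟨by norm_num⟩
    exact absurd hn (ne_of_sylCheck hG 262 131 1 2 (by norm_num) (by norm_num) (by norm_num) (by norm_num) (by decide))
  · exact absurd hn (ne_ppow hG 263 1 (by norm_num))
  · exact absurd hn Cfsg.Agent.Lib.H5.SmallOrd.not_264
  · have : Fact (Nat.Prime 53) := ⟨by norm_num⟩
    exact absurd hn (ne_of_sylCheck hG 265 53 1 5 (by norm_num) (by norm_num) (by norm_num) (by norm_num) (by decide))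
  · have : Fact (Nat.Prime 19) := ⟨by norm_num⟩
    exact absurd hn (ne_of_sylCheck hG 266 19 1 14 (by norm_num) (by norm_num) (by norm_num) (by norm_num) (by decide))
  · have : Fact (Nat.Prime 89) := ⟨by norm_num⟩
    exact absurd hn (ne_of_sylCheck hG 267 89 1 3 (by norm_num) (by norm_num) (by norm_num) (by norm_num) (by decide))
  · have : Fact (Nat.Prime 67) := ⟨by norm_num⟩
    exact absurd hn (ne_of_sylCheck hG 268 67 1 4 (by norm_num) (by norm_num) (by norm_num) (by norm_num) (by decide))
  · exact absurd hn (ne_ppow hG 269 1 (by norm_num))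
  · have : Fact (Nat.Prime 5) := ⟨by norm_num⟩
    exact absurd hn (ne_of_sylCheck hG 270 5 1 54 (by norm_num) (by norm_num) (by norm_num) (by norm_num) (by decide))
  · exact absurd hn (ne_ppow hG 271 1 (by norm_num))
  · have : Fact (Nat.Prime 17) := ⟨by norm_num⟩
    exact absurd hn (ne_of_sylCheck hG 272 17 1 16 (by norm_num) (by norm_num) (by norm_num) (by norm_num) (by decide))
  · have : Fact (Nat.Prime 13) := ⟨by norm_num⟩
    exact absurd hn (ne_of_sylCheck hG 273 13 1 21 (by norm_num) (by norm_num) (by norm_num) (by norm_num) (by decide))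
  · have : Fact (Nat.Prime 137) := ⟨by norm_num⟩
    exact absurd hn (ne_of_sylCheck hG 274 137 1 2 (by norm_num) (by norm_num) (by norm_num) (by norm_num) (by decide))
  · have : Fact (Nat.Prime 11) := ⟨by norm_num⟩
    exact absurd hn (ne_of_sylCheck hG 275 11 1 25 (by norm_num) (by norm_num) (by norm_num) (by norm_num) (by decide))
  · have : Fact (Nat.Prime 23) := ⟨by norm_num⟩
    exact absurd hn (ne_of_sylCheck hG 276 23 1 12 (by norm_num) (by norm_num) (by norm_num) (by norm_num) (by decide))
  · exact absurd hn (ne_ppow hG 277 1 (by norm_num))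
  · have : Fact (Nat.Prime 139) := ⟨by norm_num⟩
    exact absurd hn (ne_of_sylCheck hG 278 139 1 2 (by norm_num) (by norm_num) (by norm_num) (by norm_num) (by decide))
  · have : Fact (Nat.Prime 31) := ⟨by norm_num⟩
    exact absurd hn (ne_of_sylCheck hG 279 31 1 9 (by norm_num) (by norm_num) (by norm_num) (by norm_num) (by decide))
  · have : Fact (Nat.Prime 7) := ⟨by norm_num⟩
    exact absurd hn (ne_of_ncfpCheck hG 280 7 40 (by norm_num) (by norm_num) (by norm_num) (by decide))
  · exact absurd hn (ne_ppow hG 281 1 (by norm_num))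
  · have : Fact (Nat.Prime 47) := ⟨by norm_num⟩
    exact absurd hn (ne_of_sylCheck hG 282 47 1 6 (by norm_num) (by norm_num) (by norm_num) (by norm_num) (by decide))
  · exact absurd hn (ne_ppow hG 283 1 (by norm_num))
  · have : Fact (Nat.Prime 71) := ⟨by norm_num⟩
    exact absurd hn (ne_of_sylCheck hG 284 71 1 4 (by norm_num) (by norm_num) (by norm_num) (by norm_num) (by decide))
  · have : Fact (Nat.Prime 19) := ⟨by norm_num⟩
    exact absurd hn (ne_of_sylCheck hG 285 19 1 15 (by norm_num) (by norm_num) (by norm_num) (by norm_num) (by decide))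
  · have : Fact (Nat.Prime 13) := ⟨by norm_num⟩
    exact absurd hn (ne_of_sylCheck hG 286 13 1 22 (by norm_num) (by norm_num) (by norm_num) (by norm_num) (by decide))
  · have : Fact (Nat.Prime 41) := ⟨by norm_num⟩
    exact absurd hn (ne_of_sylCheck hG 287 41 1 7 (by norm_num) (by norm_num) (by norm_num) (by norm_num) (by decide))
  · exact absurd hn (ne_paqb hG 2 3 5 2 (by norm_num) (by norm_num))
  · exact absurd hn (ne_ppow hG 17 2 (by norm_num))
  · have : Fact (Nat.Prime 29) := ⟨by norm_num⟩
    exact absurd hn (ne_of_sylCheck hG 290 29 1 10 (by norm_num) (by norm_num) (by norm_num) (by norm_num) (by decide))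
  · have : Fact (Nat.Prime 97) := ⟨by norm_num⟩
    exact absurd hn (ne_of_sylCheck hG 291 97 1 3 (by norm_num) (by norm_num) (by norm_num) (by norm_num) (by decide))
  · have : Fact (Nat.Prime 73) := ⟨by norm_num⟩
    exact absurd hn (ne_of_sylCheck hG 292 73 1 4 (by norm_num) (by norm_num) (by norm_num) (by norm_num) (by decide))
  · exact absurd hn (ne_ppow hG 293 1 (by norm_num))
  · have : Fact (Nat.Prime 7) := ⟨by norm_num⟩
    exact absurd hn (ne_of_sylCheck hG 294 7 2 6 (by norm_num) (by norm_num) (by norm_num) (by norm_num) (by decide))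
  · have : Fact (Nat.Prime 59) := ⟨by norm_num⟩
    exact absurd hn (ne_of_sylCheck hG 295 59 1 5 (by norm_num) (by norm_num) (by norm_num) (by norm_num) (by decide))
  · have : Fact (Nat.Prime 37) := ⟨by norm_num⟩
    exact absurd hn (ne_of_sylCheck hG 296 37 1 8 (by norm_num) (by norm_num) (by norm_num) (by norm_num) (by decide))
  · have : Fact (Nat.Prime 11) := ⟨by norm_num⟩
    exact absurd hn (ne_of_sylCheck hG 297 11 1 27 (by norm_num) (by norm_num) (by norm_num) (by norm_num) (by decide))
  · have : Fact (Nat.Prime 149) := ⟨by norm_num⟩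
    exact absurd hn (ne_of_sylCheck hG 298 149 1 2 (by norm_num) (by norm_num) (by norm_num) (by norm_num) (by decide))
  · have : Fact (Nat.Prime 23) := ⟨by norm_num⟩
    exact absurd hn (ne_of_sylCheck hG 299 23 1 13 (by norm_num) (by norm_num) (by norm_num) (by norm_num) (by decide))

end Cfsg.Agent.Lib.H5.Sieve496
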