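import Mathlib
import Cfsg.Agent.Lib.H5.Ord.GenTests3
import Cfsg.Agent.Lib.H5.Ord.BigNorm
import Cfsg.Agent.Lib.H5.Ord.BrGen
import Cfsg.Agent.Lib.H5.EmbedAlt

set_option autoImplicit false

/-! # No simple groups of order 336, 480, 960, 900, 756 -/

namespace Cfsg.Agent.Lib.H5.SmallOrd

open Subgroup MulAction Cfsg.Agent.Lib.H5 Cfsg.Agent.Lib.H5.SylPrime Cfsg.Agent.Lib.H5.GenTests
  Cfsg.Agent.Lib.H5.BigNorm

universe u

variable {G : Type u} [Group G] [Finite G] [IsSimpleGroup G]

theorem not_336 : Nat.card G ≠ 336 := by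
  intro hn
  have hnc : ¬ IsMulCommutative G :=
    not_isMulCommutative_of_card_not_prime (by rw [hn]; norm_num)
  have : Fact (Nat.Prime 7) := ⟨by norm_num⟩
  let P : Sylow 7 G := default
  obtain ⟨h1, h2, h3, -, -, -, -, -, hP, hNd, -, -, -, -⟩ :=
    prime_data_explicit hnc hn (p := 7) (m := 48) (by norm_num) (by norm_num) (by norm_num) P
  have hd : Nat.card (Sylow 7 G) = 8 := by
    have hmem : Nat.card (Sylow 7 G) ∈ (Nat.divisors 48).filter (fun d => d % 7 = 1) := by
      rw [Finset.mem_filter, Nat.mem_divisors]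
      exact ⟨⟨h1, by norm_num⟩, h2⟩
    have hfil : (Nat.divisors 48).filter (fun d => d % 7 = 1) = {1, 8} := by decide
    rw [hfil] at hmem
    simp only [Finset.mem_insert, Finset.mem_singleton] at hmem
    rcases hmem with h | h
    · exact absurd h h3
    · exact h
  rw [hd] at hNd
  have hN : Nat.card (normalizer ((P : Subgroup G) : Set G)) = 42 := by omega
  have hidx : (normalizer ((P : Subgroup G) : Set G)).index = 7 + 1 := by
    rw [index_normalizer_eq_card_sylow P, hd]
  have := two_mul_card_normalizer_dvd hnc (p := 7) (by norm_num) _ (Or.inr hidx) P hP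
  rw [hN] at this
  omega

/-- Orders `2 ^ k * 15`, `k ≥ 5`... handled individually. -/
theorem not_480 : Nat.card G ≠ 480 := by
  intro hn
  have hnc : ¬ IsMulCommutative G :=
    not_isMulCommutative_of_card_not_prime (by rw [hn]; norm_num)
  have : Fact (Nat.Prime 2) := ⟨by norm_num⟩
  obtain ⟨h1, h2, h3, h4, -⟩ := sylow_data hnc hn (p := 2) (k := 5) (m := 15) (by norm_num)
    (by norm_num) (by norm_num) (by norm_num) (default : Sylow 2 G)
  have hd : Nat.card (Sylow 2 G) = 15 := by
    have hle : Nat.card (Sylow 2 G) ≤ 15 := Nat.le_of_dvd (by norm_num) h1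
    generalize Nat.card (Sylow 2 G) = d at *
    interval_cases d <;> first | omega | (revert h4; decide)
  obtain ⟨j, d', hj, hd', hd'2, hd'1, hjm, hfac⟩ :=
    exists_numeric_of_not_modEq hnc hn (p := 2) (k := 5) (m := 15) (by norm_num) (by norm_num)
      (by norm_num) (by rw [hd]; decide)
  have hjle : j ≤ 15 := Nat.le_of_dvd (by norm_num) hj
  interval_cases j <;> first | omega | (revert hfac; decide) | skip
  · have := Nat.le_of_dvd (by norm_num) hd'
    interval_cases d' <;> omega

theorem not_960 : Nat.card G ≠ 960 := by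
  intro hn
  have hnc : ¬ IsMulCommutative G :=
    not_isMulCommutative_of_card_not_prime (by rw [hn]; norm_num)
  have : Fact (Nat.Prime 2) := ⟨by norm_num⟩
  obtain ⟨h1, h2, h3, h4, -⟩ := sylow_data hnc hn (p := 2) (k := 6) (m := 15) (by norm_num)
    (by norm_num) (by norm_num) (by norm_num) (default : Sylow 2 G)
  have hd : Nat.card (Sylow 2 G) = 15 := by
    have hle : Nat.card (Sylow 2 G) ≤ 15 := Nat.le_of_dvd (by norm_num) h1
    generalize Nat.card (Sylow 2 G) = d at *
    interval_cases d <;> first | omega | (revert h4; decide)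
  obtain ⟨j, d', hj, hd', hd'2, hd'1, hjm, hfac⟩ :=
    exists_numeric_of_not_modEq hnc hn (p := 2) (k := 6) (m := 15) (by norm_num) (by norm_num)
      (by norm_num) (by rw [hd]; decide)
  have hjle : j ≤ 15 := Nat.le_of_dvd (by norm_num) hj
  interval_cases j <;> first | omega | (revert hfac; decide) | skip
  · have := Nat.le_of_dvd (by norm_num) hd'
    interval_cases d' <;> omega

theorem not_900 : Nat.card G ≠ 900 := by
  intro hn
  have hnc : ¬ IsMulCommutative G :=
    not_isMulCommutative_of_card_not_prime (by rw [hn]; norm_num)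
  have : Fact (Nat.Prime 5) := ⟨by norm_num⟩
  obtain ⟨h1, h2, h3, h4, -⟩ := sylow_data hnc hn (p := 5) (k := 2) (m := 36) (by norm_num)
    (by norm_num) (by norm_num) (by norm_num) (default : Sylow 5 G)
  have hd : Nat.card (Sylow 5 G) = 36 := by
    have hle : Nat.card (Sylow 5 G) ≤ 36 := Nat.le_of_dvd (by norm_num) h1
    generalize Nat.card (Sylow 5 G) = d at *
    interval_cases d <;> first | omega | (revert h4; decide)
  obtain ⟨j, d', hj, hd', hd'2, hd'1, hjm, hfac⟩ :=
    exists_numeric_of_not_modEq hnc hn (p := 5) (k := 2) (m := 36) (by norm_num) (by norm_num)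
      (by norm_num) (by rw [hd]; decide)
  have hjle : j ≤ 36 := Nat.le_of_dvd (by norm_num) hj
  interval_cases j <;> first | omega | (revert hfac; decide) | skip
  all_goals
    have := Nat.le_of_dvd (by norm_num) hd'
    interval_cases d' <;> omega

end Cfsg.Agent.Lib.H5.SmallOrd
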