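import Mathlib
import Cfsg.Agent.Lib.H5.Ord.GenTests3
import Cfsg.Agent.Lib.H5.Ord.Small3

set_option autoImplicit false
set_option maxHeartbeats 1600000

/-! # Orders of non-abelian simple groups: the range 300..399 (generated) -/

namespace Cfsg.Agent.Lib.H5.Sieve496

open Cfsg.Agent.Lib.H5.GenTests

theorem chunk3 {G : Type*} [Group G] [Finite G] [IsSimpleGroup G]
    (hG : ¬ IsMulCommutative G) (h1 : 300 ≤ Nat.card G) (h2 : Nat.card G ≤ 399) :
    Nat.card G = 60 ∨ Nat.card G = 168 ∨ Nat.card G = 360 ∨ Nat.card G = 504 ∨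
      Nat.card G = 660 ∨ Nat.card G = 1092 := by
  obtain ⟨n, hn⟩ : ∃ n, Nat.card G = n := ⟨_, rfl⟩
  rw [hn] at h1 h2 ⊢
  interval_cases n
  · have : Fact (Nat.Prime 5) := ⟨by norm_num⟩
    exact absurd hn (ne_of_sylCheck hG 300 5 2 12 (by norm_num) (by norm_num) (by norm_num) (by norm_num) (by decide))
  · have : Fact (Nat.Prime 43) := ⟨by norm_num⟩
    exact absurd hn (ne_of_sylCheck hG 301 43 1 7 (by norm_num) (by norm_num) (by norm_num) (by norm_num) (by decide))
  · have : Fact (Nat.Prime 151) := ⟨by norm_num⟩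
    exact absurd hn (ne_of_sylCheck hG 302 151 1 2 (by norm_num) (by norm_num) (by norm_num) (by norm_num) (by decide))
  · have : Fact (Nat.Prime 101) := ⟨by norm_num⟩
    exact absurd hn (ne_of_sylCheck hG 303 101 1 3 (by norm_num) (by norm_num) (by norm_num) (by norm_num) (by decide))
  · have : Fact (Nat.Prime 19) := ⟨by norm_num⟩
    exact absurd hn (ne_of_sylCheck hG 304 19 1 16 (by norm_num) (by norm_num) (by norm_num) (by norm_num) (by decide))
  · have : Fact (Nat.Prime 61) := ⟨by norm_num⟩
    exact absurd hn (ne_of_sylCheck hG 305 61 1 5 (by norm_num) (by norm_num) (by norm_num) (by norm_num) (by decide))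
  · exact absurd hn (Cfsg.Agent.S0493.ne_two_odd 153 (by decide))
  · exact absurd hn (ne_ppow hG 307 1 (by norm_num))
  · have : Fact (Nat.Prime 11) := ⟨by norm_num⟩
    exact absurd hn (ne_of_sylCheck hG 308 11 1 28 (by norm_num) (by norm_num) (by norm_num) (by norm_num) (by decide))
  · have : Fact (Nat.Prime 103) := ⟨by norm_num⟩
    exact absurd hn (ne_of_sylCheck hG 309 103 1 3 (by norm_num) (by norm_num) (by norm_num) (by norm_num) (by decide))
  · have : Fact (Nat.Prime 31) := ⟨by norm_num⟩
    exact absurd hn (ne_of_sylCheck hG 310 31 1 10 (by norm_num) (by norm_num) (by norm_num) (by norm_num) (by decide))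
  · exact absurd hn (ne_ppow hG 311 1 (by norm_num))
  · have : Fact (Nat.Prime 13) := ⟨by norm_num⟩
    exact absurd hn (ne_of_sylCheck hG 312 13 1 24 (by norm_num) (by norm_num) (by norm_num) (by norm_num) (by decide))
  · exact absurd hn (ne_ppow hG 313 1 (by norm_num))
  · have : Fact (Nat.Prime 157) := ⟨by norm_num⟩
    exact absurd hn (ne_of_sylCheck hG 314 157 1 2 (by norm_num) (by norm_num) (by norm_num) (by norm_num) (by decide))
  · have : Fact (Nat.Prime 5) := ⟨by norm_num⟩
    exact absurd hn (ne_of_ncfpCheck hG 315 5 63 (by norm_num) (by norm_num) (by norm_num) (by decide))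
  · have : Fact (Nat.Prime 79) := ⟨by norm_num⟩
    exact absurd hn (ne_of_sylCheck hG 316 79 1 4 (by norm_num) (by norm_num) (by norm_num) (by norm_num) (by decide))
  · exact absurd hn (ne_ppow hG 317 1 (by norm_num))
  · have : Fact (Nat.Prime 53) := ⟨by norm_num⟩
    exact absurd hn (ne_of_sylCheck hG 318 53 1 6 (by norm_num) (by norm_num) (by norm_num) (by norm_num) (by decide))
  · have : Fact (Nat.Prime 29) := ⟨by norm_num⟩
    exact absurd hn (ne_of_sylCheck hG 319 29 1 11 (by norm_num) (by norm_num) (by norm_num) (by norm_num) (by decide))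
  · have : Fact (Nat.Prime 2) := ⟨by norm_num⟩
    exact absurd hn (ne_of_sylCheck hG 320 2 6 5 (by norm_num) (by norm_num) (by norm_num) (by norm_num) (by decide))
  · have : Fact (Nat.Prime 107) := ⟨by norm_num⟩
    exact absurd hn (ne_of_sylCheck hG 321 107 1 3 (by norm_num) (by norm_num) (by norm_num) (by norm_num) (by decide))
  · have : Fact (Nat.Prime 23) := ⟨by norm_num⟩
    exact absurd hn (ne_of_sylCheck hG 322 23 1 14 (by norm_num) (by norm_num) (by norm_num) (by norm_num) (by decide))
  · have : Fact (Nat.Prime 19) := ⟨by norm_num⟩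
    exact absurd hn (ne_of_sylCheck hG 323 19 1 17 (by norm_num) (by norm_num) (by norm_num) (by norm_num) (by decide))
  · have : Fact (Nat.Prime 3) := ⟨by norm_num⟩
    exact absurd hn (ne_of_sylCheck hG 324 3 4 4 (by norm_num) (by norm_num) (by norm_num) (by norm_num) (by decide))
  · have : Fact (Nat.Prime 13) := ⟨by norm_num⟩
    exact absurd hn (ne_of_sylCheck hG 325 13 1 25 (by norm_num) (by norm_num) (by norm_num) (by norm_num) (by decide))
  · have : Fact (Nat.Prime 163) := ⟨by norm_num⟩
    exact absurd hn (ne_of_sylCheck hG 326 163 1 2 (by norm_num) (by norm_num) (by norm_num) (by norm_num) (by decide))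
  · have : Fact (Nat.Prime 109) := ⟨by norm_num⟩
    exact absurd hn (ne_of_sylCheck hG 327 109 1 3 (by norm_num) (by norm_num) (by norm_num) (by norm_num) (by decide))
  · have : Fact (Nat.Prime 41) := ⟨by norm_num⟩
    exact absurd hn (ne_of_sylCheck hG 328 41 1 8 (by norm_num) (by norm_num) (by norm_num) (by norm_num) (by decide))
  · have : Fact (Nat.Prime 47) := ⟨by norm_num⟩
    exact absurd hn (ne_of_sylCheck hG 329 47 1 7 (by norm_num) (by norm_num) (by norm_num) (by norm_num) (by decide))
  · have : Fact (Nat.Prime 11) := ⟨by norm_num⟩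
    exact absurd hn (ne_of_sylCheck hG 330 11 1 30 (by norm_num) (by norm_num) (by norm_num) (by norm_num) (by decide))
  · exact absurd hn (ne_ppow hG 331 1 (by norm_num))
  · have : Fact (Nat.Prime 83) := ⟨by norm_num⟩
    exact absurd hn (ne_of_sylCheck hG 332 83 1 4 (by norm_num) (by norm_num) (by norm_num) (by norm_num) (by decide))
  · have : Fact (Nat.Prime 37) := ⟨by norm_num⟩
    exact absurd hn (ne_of_sylCheck hG 333 37 1 9 (by norm_num) (by norm_num) (by norm_num) (by norm_num) (by decide))
  · have : Fact (Nat.Prime 167) := ⟨by norm_num⟩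
    exact absurd hn (ne_of_sylCheck hG 334 167 1 2 (by norm_num) (by norm_num) (by norm_num) (by norm_num) (by decide))
  · have : Fact (Nat.Prime 67) := ⟨by norm_num⟩
    exact absurd hn (ne_of_sylCheck hG 335 67 1 5 (by norm_num) (by norm_num) (by norm_num) (by norm_num) (by decide))
  · exact absurd hn Cfsg.Agent.Lib.H5.SmallOrd.not_336
  · exact absurd hn (ne_ppow hG 337 1 (by norm_num))
  · have : Fact (Nat.Prime 13) := ⟨by norm_num⟩
    exact absurd hn (ne_of_sylCheck hG 338 13 2 2 (by norm_num) (by norm_num) (by norm_num) (by norm_num) (by decide))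
  · have : Fact (Nat.Prime 113) := ⟨by norm_num⟩
    exact absurd hn (ne_of_sylCheck hG 339 113 1 3 (by norm_num) (by norm_num) (by norm_num) (by norm_num) (by decide))
  · have : Fact (Nat.Prime 17) := ⟨by norm_num⟩
    exact absurd hn (ne_of_sylCheck hG 340 17 1 20 (by norm_num) (by norm_num) (by norm_num) (by norm_num) (by decide))
  · have : Fact (Nat.Prime 31) := ⟨by norm_num⟩
    exact absurd hn (ne_of_sylCheck hG 341 31 1 11 (by norm_num) (by norm_num) (by norm_num) (by norm_num) (by decide))
  · have : Fact (Nat.Prime 19) := ⟨by norm_num⟩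
    exact absurd hn (ne_of_sylCheck hG 342 19 1 18 (by norm_num) (by norm_num) (by norm_num) (by norm_num) (by decide))
  · exact absurd hn (ne_ppow hG 7 3 (by norm_num))
  · have : Fact (Nat.Prime 43) := ⟨by norm_num⟩
    exact absurd hn (ne_of_sylCheck hG 344 43 1 8 (by norm_num) (by norm_num) (by norm_num) (by norm_num) (by decide))
  · have : Fact (Nat.Prime 23) := ⟨by norm_num⟩
    exact absurd hn (ne_of_sylCheck hG 345 23 1 15 (by norm_num) (by norm_num) (by norm_num) (by norm_num) (by decide))
  · have : Fact (Nat.Prime 173) := ⟨by norm_num⟩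
    exact absurd hn (ne_of_sylCheck hG 346 173 1 2 (by norm_num) (by norm_num) (by norm_num) (by norm_num) (by decide))
  · exact absurd hn (ne_ppow hG 347 1 (by norm_num))
  · have : Fact (Nat.Prime 29) := ⟨by norm_num⟩
    exact absurd hn (ne_of_sylCheck hG 348 29 1 12 (by norm_num) (by norm_num) (by norm_num) (by norm_num) (by decide))
  · exact absurd hn (ne_ppow hG 349 1 (by norm_num))
  · have : Fact (Nat.Prime 5) := ⟨by norm_num⟩
    exact absurd hn (ne_of_sylCheck hG 350 5 2 14 (by norm_num) (by norm_num) (by norm_num) (by norm_num) (by decide))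
  · exact absurd hn (ne_paqb hG 3 13 3 1 (by norm_num) (by norm_num))
  · have : Fact (Nat.Prime 11) := ⟨by norm_num⟩
    exact absurd hn (ne_of_sylCheck hG 352 11 1 32 (by norm_num) (by norm_num) (by norm_num) (by norm_num) (by decide))
  · exact absurd hn (ne_ppow hG 353 1 (by norm_num))
  · have : Fact (Nat.Prime 59) := ⟨by norm_num⟩
    exact absurd hn (ne_of_sylCheck hG 354 59 1 6 (by norm_num) (by norm_num) (by norm_num) (by norm_num) (by decide))
  · have : Fact (Nat.Prime 71) := ⟨by norm_num⟩
    exact absurd hn (ne_of_sylCheck hG 355 71 1 5 (by norm_num) (by norm_num) (by norm_num) (by norm_num) (by decide))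
  · have : Fact (Nat.Prime 89) := ⟨by norm_num⟩
    exact absurd hn (ne_of_sylCheck hG 356 89 1 4 (by norm_num) (by norm_num) (by norm_num) (by norm_num) (by decide))
  · have : Fact (Nat.Prime 17) := ⟨by norm_num⟩
    exact absurd hn (ne_of_sylCheck hG 357 17 1 21 (by norm_num) (by norm_num) (by norm_num) (by norm_num) (by decide))
  · have : Fact (Nat.Prime 179) := ⟨by norm_num⟩
    exact absurd hn (ne_of_sylCheck hG 358 179 1 2 (by norm_num) (by norm_num) (by norm_num) (by norm_num) (by decide))
  · exact absurd hn (ne_ppow hG 359 1 (by norm_num))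
  · norm_num
  · exact absurd hn (ne_ppow hG 19 2 (by norm_num))
  · have : Fact (Nat.Prime 181) := ⟨by norm_num⟩
    exact absurd hn (ne_of_sylCheck hG 362 181 1 2 (by norm_num) (by norm_num) (by norm_num) (by norm_num) (by decide))
  · have : Fact (Nat.Prime 11) := ⟨by norm_num⟩
    exact absurd hn (ne_of_sylCheck hG 363 11 2 3 (by norm_num) (by norm_num) (by norm_num) (by norm_num) (by decide))
  · have : Fact (Nat.Prime 7) := ⟨by norm_num⟩
    exact absurd hn (ne_of_sylCheck hG 364 7 1 52 (by norm_num) (by norm_num) (by norm_num) (by norm_num) (by decide))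
  · have : Fact (Nat.Prime 73) := ⟨by norm_num⟩
    exact absurd hn (ne_of_sylCheck hG 365 73 1 5 (by norm_num) (by norm_num) (by norm_num) (by norm_num) (by decide))
  · have : Fact (Nat.Prime 61) := ⟨by norm_num⟩
    exact absurd hn (ne_of_sylCheck hG 366 61 1 6 (by norm_num) (by norm_num) (by norm_num) (by norm_num) (by decide))
  · exact absurd hn (ne_ppow hG 367 1 (by norm_num))
  · have : Fact (Nat.Prime 23) := ⟨by norm_num⟩
    exact absurd hn (ne_of_sylCheck hG 368 23 1 16 (by norm_num) (by norm_num) (by norm_num) (by norm_num) (by decide))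
  · have : Fact (Nat.Prime 41) := ⟨by norm_num⟩
    exact absurd hn (ne_of_sylCheck hG 369 41 1 9 (by norm_num) (by norm_num) (by norm_num) (by norm_num) (by decide))
  · have : Fact (Nat.Prime 37) := ⟨by norm_num⟩
    exact absurd hn (ne_of_sylCheck hG 370 37 1 10 (by norm_num) (by norm_num) (by norm_num) (by norm_num) (by decide))
  · have : Fact (Nat.Prime 53) := ⟨by norm_num⟩
    exact absurd hn (ne_of_sylCheck hG 371 53 1 7 (by norm_num) (by norm_num) (by norm_num) (by norm_num) (by decide))
  · have : Fact (Nat.Prime 31) := ⟨by norm_num⟩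
    exact absurd hn (ne_of_sylCheck hG 372 31 1 12 (by norm_num) (by norm_num) (by norm_num) (by norm_num) (by decide))
  · exact absurd hn (ne_ppow hG 373 1 (by norm_num))
  · have : Fact (Nat.Prime 17) := ⟨by norm_num⟩
    exact absurd hn (ne_of_sylCheck hG 374 17 1 22 (by norm_num) (by norm_num) (by norm_num) (by norm_num) (by decide))
  · have : Fact (Nat.Prime 5) := ⟨by norm_num⟩
    exact absurd hn (ne_of_sylCheck hG 375 5 3 3 (by norm_num) (by norm_num) (by norm_num) (by norm_num) (by decide))
  · have : Fact (Nat.Prime 47) := ⟨by norm_num⟩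
    exact absurd hn (ne_of_sylCheck hG 376 47 1 8 (by norm_num) (by norm_num) (by norm_num) (by norm_num) (by decide))
  · have : Fact (Nat.Prime 29) := ⟨by norm_num⟩
    exact absurd hn (ne_of_sylCheck hG 377 29 1 13 (by norm_num) (by norm_num) (by norm_num) (by norm_num) (by decide))
  · have : Fact (Nat.Prime 7) := ⟨by norm_num⟩
    exact absurd hn (ne_of_sylCheck hG 378 7 1 54 (by norm_num) (by norm_num) (by norm_num) (by norm_num) (by decide))
  · exact absurd hn (ne_ppow hG 379 1 (by norm_num))
  · have : Fact (Nat.Prime 19) := ⟨by norm_num⟩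
    exact absurd hn (ne_of_ncfpCheck hG 380 19 20 (by norm_num) (by norm_num) (by norm_num) (by decide))
  · have : Fact (Nat.Prime 127) := ⟨by norm_num⟩
    exact absurd hn (ne_of_sylCheck hG 381 127 1 3 (by norm_num) (by norm_num) (by norm_num) (by norm_num) (by decide))
  · have : Fact (Nat.Prime 191) := ⟨by norm_num⟩
    exact absurd hn (ne_of_sylCheck hG 382 191 1 2 (by norm_num) (by norm_num) (by norm_num) (by norm_num) (by decide))
  · exact absurd hn (ne_ppow hG 383 1 (by norm_num))
  · have : Fact (Nat.Prime 2) := ⟨by norm_num⟩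
    exact absurd hn (ne_of_sylCheck hG 384 2 7 3 (by norm_num) (by norm_num) (by norm_num) (by norm_num) (by decide))
  · have : Fact (Nat.Prime 11) := ⟨by norm_num⟩
    exact absurd hn (ne_of_sylCheck hG 385 11 1 35 (by norm_num) (by norm_num) (by norm_num) (by norm_num) (by decide))
  · have : Fact (Nat.Prime 193) := ⟨by norm_num⟩
    exact absurd hn (ne_of_sylCheck hG 386 193 1 2 (by norm_num) (by norm_num) (by norm_num) (by norm_num) (by decide))
  · have : Fact (Nat.Prime 43) := ⟨by norm_num⟩
    exact absurd hn (ne_of_sylCheck hG 387 43 1 9 (by norm_num) (by norm_num) (by norm_num) (by norm_num) (by decide))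
  · have : Fact (Nat.Prime 97) := ⟨by norm_num⟩
    exact absurd hn (ne_of_sylCheck hG 388 97 1 4 (by norm_num) (by norm_num) (by norm_num) (by norm_num) (by decide))
  · exact absurd hn (ne_ppow hG 389 1 (by norm_num))
  · have : Fact (Nat.Prime 13) := ⟨by norm_num⟩
    exact absurd hn (ne_of_sylCheck hG 390 13 1 30 (by norm_num) (by norm_num) (by norm_num) (by norm_num) (by decide))
  · have : Fact (Nat.Prime 23) := ⟨by norm_num⟩
    exact absurd hn (ne_of_sylCheck hG 391 23 1 17 (by norm_num) (by norm_num) (by norm_num) (by norm_num) (by decide))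
  · have : Fact (Nat.Prime 7) := ⟨by norm_num⟩
    exact absurd hn (ne_of_sylCheck hG 392 7 2 8 (by norm_num) (by norm_num) (by norm_num) (by norm_num) (by decide))
  · have : Fact (Nat.Prime 131) := ⟨by norm_num⟩
    exact absurd hn (ne_of_sylCheck hG 393 131 1 3 (by norm_num) (by norm_num) (by norm_num) (by norm_num) (by decide))
  · have : Fact (Nat.Prime 197) := ⟨by norm_num⟩
    exact absurd hn (ne_of_sylCheck hG 394 197 1 2 (by norm_num) (by norm_num) (by norm_num) (by norm_num) (by decide))
  · have : Fact (Nat.Prime 79) := ⟨by norm_num⟩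
    exact absurd hn (ne_of_sylCheck hG 395 79 1 5 (by norm_num) (by norm_num) (by norm_num) (by norm_num) (by decide))
  · have : Fact (Nat.Prime 11) := ⟨by norm_num⟩
    exact absurd hn (ne_of_ncfpCheck hG 396 11 36 (by norm_num) (by norm_num) (by norm_num) (by decide))
  · exact absurd hn (ne_ppow hG 397 1 (by norm_num))
  · have : Fact (Nat.Prime 199) := ⟨by norm_num⟩
    exact absurd hn (ne_of_sylCheck hG 398 199 1 2 (by norm_num) (by norm_num) (by norm_num) (by norm_num) (by decide))
  · have : Fact (Nat.Prime 19) := ⟨by norm_num⟩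
    exact absurd hn (ne_of_sylCheck hG 399 19 1 21 (by norm_num) (by norm_num) (by norm_num) (by norm_num) (by decide))

end Cfsg.Agent.Lib.H5.Sieve496
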