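import Mathlib
import Cfsg.Agent.Lib.H5.Ord.GenTests3
import Cfsg.Agent.Lib.H5.Ord.Small3

set_option autoImplicit false
set_option maxHeartbeats 1600000

/-! # Orders of non-abelian simple groups: the range 400..499 (generated) -/

namespace Cfsg.Agent.Lib.H5.Sieve496

open Cfsg.Agent.Lib.H5.GenTests

theorem chunk4 {G : Type*} [Group G] [Finite G] [IsSimpleGroup G]
    (hG : ¬ IsMulCommutative G) (h1 : 400 ≤ Nat.card G) (h2 : Nat.card G ≤ 499) :
    Nat.card G = 60 ∨ Nat.card G = 168 ∨ Nat.card G = 360 ∨ Nat.card G = 504 ∨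
      Nat.card G = 660 ∨ Nat.card G = 1092 := by
  obtain ⟨n, hn⟩ : ∃ n, Nat.card G = n := ⟨_, rfl⟩
  rw [hn] at h1 h2 ⊢
  interval_cases n
  · exact absurd hn (ne_paqb hG 2 5 4 2 (by norm_num) (by norm_num))
  · exact absurd hn (ne_ppow hG 401 1 (by norm_num))
  · have : Fact (Nat.Prime 67) := ⟨by norm_num⟩
    exact absurd hn (ne_of_sylCheck hG 402 67 1 6 (by norm_num) (by norm_num) (by norm_num) (by norm_num) (by decide))
  · have : Fact (Nat.Prime 31) := ⟨by norm_num⟩
    exact absurd hn (ne_of_sylCheck hG 403 31 1 13 (by norm_num) (by norm_num) (by norm_num) (by norm_num) (by decide))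
  · have : Fact (Nat.Prime 101) := ⟨by norm_num⟩
    exact absurd hn (ne_of_sylCheck hG 404 101 1 4 (by norm_num) (by norm_num) (by norm_num) (by norm_num) (by decide))
  · have : Fact (Nat.Prime 3) := ⟨by norm_num⟩
    exact absurd hn (ne_of_sylCheck hG 405 3 4 5 (by norm_num) (by norm_num) (by norm_num) (by norm_num) (by decide))
  · have : Fact (Nat.Prime 29) := ⟨by norm_num⟩
    exact absurd hn (ne_of_sylCheck hG 406 29 1 14 (by norm_num) (by norm_num) (by norm_num) (by norm_num) (by decide))
  · have : Fact (Nat.Prime 37) := ⟨by norm_num⟩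
    exact absurd hn (ne_of_sylCheck hG 407 37 1 11 (by norm_num) (by norm_num) (by norm_num) (by norm_num) (by decide))
  · have : Fact (Nat.Prime 17) := ⟨by norm_num⟩
    exact absurd hn (ne_of_sylCheck hG 408 17 1 24 (by norm_num) (by norm_num) (by norm_num) (by norm_num) (by decide))
  · exact absurd hn (ne_ppow hG 409 1 (by norm_num))
  · have : Fact (Nat.Prime 41) := ⟨by norm_num⟩
    exact absurd hn (ne_of_sylCheck hG 410 41 1 10 (by norm_num) (by norm_num) (by norm_num) (by norm_num) (by decide))
  · have : Fact (Nat.Prime 137) := ⟨by norm_num⟩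
    exact absurd hn (ne_of_sylCheck hG 411 137 1 3 (by norm_num) (by norm_num) (by norm_num) (by norm_num) (by decide))
  · have : Fact (Nat.Prime 103) := ⟨by norm_num⟩
    exact absurd hn (ne_of_sylCheck hG 412 103 1 4 (by norm_num) (by norm_num) (by norm_num) (by norm_num) (by decide))
  · have : Fact (Nat.Prime 59) := ⟨by norm_num⟩
    exact absurd hn (ne_of_sylCheck hG 413 59 1 7 (by norm_num) (by norm_num) (by norm_num) (by norm_num) (by decide))
  · have : Fact (Nat.Prime 23) := ⟨by norm_num⟩
    exact absurd hn (ne_of_sylCheck hG 414 23 1 18 (by norm_num) (by norm_num) (by norm_num) (by norm_num) (by decide))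
  · have : Fact (Nat.Prime 83) := ⟨by norm_num⟩
    exact absurd hn (ne_of_sylCheck hG 415 83 1 5 (by norm_num) (by norm_num) (by norm_num) (by norm_num) (by decide))
  · have : Fact (Nat.Prime 13) := ⟨by norm_num⟩
    exact absurd hn (ne_of_sylCheck hG 416 13 1 32 (by norm_num) (by norm_num) (by norm_num) (by norm_num) (by decide))
  · have : Fact (Nat.Prime 139) := ⟨by norm_num⟩
    exact absurd hn (ne_of_sylCheck hG 417 139 1 3 (by norm_num) (by norm_num) (by norm_num) (by norm_num) (by decide))
  · have : Fact (Nat.Prime 19) := ⟨by norm_num⟩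
    exact absurd hn (ne_of_sylCheck hG 418 19 1 22 (by norm_num) (by norm_num) (by norm_num) (by norm_num) (by decide))
  · exact absurd hn (ne_ppow hG 419 1 (by norm_num))
  · have : Fact (Nat.Prime 7) := ⟨by norm_num⟩
    exact absurd hn (ne_of_ncfpCheck hG 420 7 60 (by norm_num) (by norm_num) (by norm_num) (by decide))
  · exact absurd hn (ne_ppow hG 421 1 (by norm_num))
  · have : Fact (Nat.Prime 211) := ⟨by norm_num⟩
    exact absurd hn (ne_of_sylCheck hG 422 211 1 2 (by norm_num) (by norm_num) (by norm_num) (by norm_num) (by decide))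
  · have : Fact (Nat.Prime 47) := ⟨by norm_num⟩
    exact absurd hn (ne_of_sylCheck hG 423 47 1 9 (by norm_num) (by norm_num) (by norm_num) (by norm_num) (by decide))
  · have : Fact (Nat.Prime 53) := ⟨by norm_num⟩
    exact absurd hn (ne_of_sylCheck hG 424 53 1 8 (by norm_num) (by norm_num) (by norm_num) (by norm_num) (by decide))
  · have : Fact (Nat.Prime 17) := ⟨by norm_num⟩
    exact absurd hn (ne_of_sylCheck hG 425 17 1 25 (by norm_num) (by norm_num) (by norm_num) (by norm_num) (by decide))
  · have : Fact (Nat.Prime 71) := ⟨by norm_num⟩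
    exact absurd hn (ne_of_sylCheck hG 426 71 1 6 (by norm_num) (by norm_num) (by norm_num) (by norm_num) (by decide))
  · have : Fact (Nat.Prime 61) := ⟨by norm_num⟩
    exact absurd hn (ne_of_sylCheck hG 427 61 1 7 (by norm_num) (by norm_num) (by norm_num) (by norm_num) (by decide))
  · have : Fact (Nat.Prime 107) := ⟨by norm_num⟩
    exact absurd hn (ne_of_sylCheck hG 428 107 1 4 (by norm_num) (by norm_num) (by norm_num) (by norm_num) (by decide))
  · have : Fact (Nat.Prime 13) := ⟨by norm_num⟩
    exact absurd hn (ne_of_sylCheck hG 429 13 1 33 (by norm_num) (by norm_num) (by norm_num) (by norm_num) (by decide))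
  · have : Fact (Nat.Prime 43) := ⟨by norm_num⟩
    exact absurd hn (ne_of_sylCheck hG 430 43 1 10 (by norm_num) (by norm_num) (by norm_num) (by norm_num) (by decide))
  · exact absurd hn (ne_ppow hG 431 1 (by norm_num))
  · exact absurd hn (ne_paqb hG 2 3 4 3 (by norm_num) (by norm_num))
  · exact absurd hn (ne_ppow hG 433 1 (by norm_num))
  · have : Fact (Nat.Prime 31) := ⟨by norm_num⟩
    exact absurd hn (ne_of_sylCheck hG 434 31 1 14 (by norm_num) (by norm_num) (by norm_num) (by norm_num) (by decide))
  · have : Fact (Nat.Prime 29) := ⟨by norm_num⟩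
    exact absurd hn (ne_of_sylCheck hG 435 29 1 15 (by norm_num) (by norm_num) (by norm_num) (by norm_num) (by decide))
  · have : Fact (Nat.Prime 109) := ⟨by norm_num⟩
    exact absurd hn (ne_of_sylCheck hG 436 109 1 4 (by norm_num) (by norm_num) (by norm_num) (by norm_num) (by decide))
  · have : Fact (Nat.Prime 23) := ⟨by norm_num⟩
    exact absurd hn (ne_of_sylCheck hG 437 23 1 19 (by norm_num) (by norm_num) (by norm_num) (by norm_num) (by decide))
  · have : Fact (Nat.Prime 73) := ⟨by norm_num⟩
    exact absurd hn (ne_of_sylCheck hG 438 73 1 6 (by norm_num) (by norm_num) (by norm_num) (by norm_num) (by decide))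
  · exact absurd hn (ne_ppow hG 439 1 (by norm_num))
  · have : Fact (Nat.Prime 11) := ⟨by norm_num⟩
    exact absurd hn (ne_of_sylCheck hG 440 11 1 40 (by norm_num) (by norm_num) (by norm_num) (by norm_num) (by decide))
  · have : Fact (Nat.Prime 7) := ⟨by norm_num⟩
    exact absurd hn (ne_of_sylCheck hG 441 7 2 9 (by norm_num) (by norm_num) (by norm_num) (by norm_num) (by decide))
  · have : Fact (Nat.Prime 17) := ⟨by norm_num⟩
    exact absurd hn (ne_of_sylCheck hG 442 17 1 26 (by norm_num) (by norm_num) (by norm_num) (by norm_num) (by decide))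
  · exact absurd hn (ne_ppow hG 443 1 (by norm_num))
  · have : Fact (Nat.Prime 37) := ⟨by norm_num⟩
    exact absurd hn (ne_of_sylCheck hG 444 37 1 12 (by norm_num) (by norm_num) (by norm_num) (by norm_num) (by decide))
  · have : Fact (Nat.Prime 89) := ⟨by norm_num⟩
    exact absurd hn (ne_of_sylCheck hG 445 89 1 5 (by norm_num) (by norm_num) (by norm_num) (by norm_num) (by decide))
  · have : Fact (Nat.Prime 223) := ⟨by norm_num⟩
    exact absurd hn (ne_of_sylCheck hG 446 223 1 2 (by norm_num) (by norm_num) (by norm_num) (by norm_num) (by decide))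
  · have : Fact (Nat.Prime 149) := ⟨by norm_num⟩
    exact absurd hn (ne_of_sylCheck hG 447 149 1 3 (by norm_num) (by norm_num) (by norm_num) (by norm_num) (by decide))
  · have : Fact (Nat.Prime 2) := ⟨by norm_num⟩
    exact absurd hn (ne_of_sylCheck hG 448 2 6 7 (by norm_num) (by norm_num) (by norm_num) (by norm_num) (by decide))
  · exact absurd hn (ne_ppow hG 449 1 (by norm_num))
  · have : Fact (Nat.Prime 5) := ⟨by norm_num⟩
    exact absurd hn (ne_of_sylCheck hG 450 5 2 18 (by norm_num) (by norm_num) (by norm_num) (by norm_num) (by decide))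
  · have : Fact (Nat.Prime 41) := ⟨by norm_num⟩
    exact absurd hn (ne_of_sylCheck hG 451 41 1 11 (by norm_num) (by norm_num) (by norm_num) (by norm_num) (by decide))
  · have : Fact (Nat.Prime 113) := ⟨by norm_num⟩
    exact absurd hn (ne_of_sylCheck hG 452 113 1 4 (by norm_num) (by norm_num) (by norm_num) (by norm_num) (by decide))
  · have : Fact (Nat.Prime 151) := ⟨by norm_num⟩
    exact absurd hn (ne_of_sylCheck hG 453 151 1 3 (by norm_num) (by norm_num) (by norm_num) (by norm_num) (by decide))
  · have : Fact (Nat.Prime 227) := ⟨by norm_num⟩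
    exact absurd hn (ne_of_sylCheck hG 454 227 1 2 (by norm_num) (by norm_num) (by norm_num) (by norm_num) (by decide))
  · have : Fact (Nat.Prime 13) := ⟨by norm_num⟩
    exact absurd hn (ne_of_sylCheck hG 455 13 1 35 (by norm_num) (by norm_num) (by norm_num) (by norm_num) (by decide))
  · have : Fact (Nat.Prime 19) := ⟨by norm_num⟩
    exact absurd hn (ne_of_sylCheck hG 456 19 1 24 (by norm_num) (by norm_num) (by norm_num) (by norm_num) (by decide))
  · exact absurd hn (ne_ppow hG 457 1 (by norm_num))
  · have : Fact (Nat.Prime 229) := ⟨by norm_num⟩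
    exact absurd hn (ne_of_sylCheck hG 458 229 1 2 (by norm_num) (by norm_num) (by norm_num) (by norm_num) (by decide))
  · have : Fact (Nat.Prime 17) := ⟨by norm_num⟩
    exact absurd hn (ne_of_sylCheck hG 459 17 1 27 (by norm_num) (by norm_num) (by norm_num) (by norm_num) (by decide))
  · have : Fact (Nat.Prime 23) := ⟨by norm_num⟩
    exact absurd hn (ne_of_sylCheck hG 460 23 1 20 (by norm_num) (by norm_num) (by norm_num) (by norm_num) (by decide))
  · exact absurd hn (ne_ppow hG 461 1 (by norm_num))
  · have : Fact (Nat.Prime 11) := ⟨by norm_num⟩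
    exact absurd hn (ne_of_sylCheck hG 462 11 1 42 (by norm_num) (by norm_num) (by norm_num) (by norm_num) (by decide))
  · exact absurd hn (ne_ppow hG 463 1 (by norm_num))
  · have : Fact (Nat.Prime 29) := ⟨by norm_num⟩
    exact absurd hn (ne_of_sylCheck hG 464 29 1 16 (by norm_num) (by norm_num) (by norm_num) (by norm_num) (by decide))
  · have : Fact (Nat.Prime 31) := ⟨by norm_num⟩
    exact absurd hn (ne_of_sylCheck hG 465 31 1 15 (by norm_num) (by norm_num) (by norm_num) (by norm_num) (by decide))
  · have : Fact (Nat.Prime 233) := ⟨by norm_num⟩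
    exact absurd hn (ne_of_sylCheck hG 466 233 1 2 (by norm_num) (by norm_num) (by norm_num) (by norm_num) (by decide))
  · exact absurd hn (ne_ppow hG 467 1 (by norm_num))
  · have : Fact (Nat.Prime 13) := ⟨by norm_num⟩
    exact absurd hn (ne_of_sylCheck hG 468 13 1 36 (by norm_num) (by norm_num) (by norm_num) (by norm_num) (by decide))
  · have : Fact (Nat.Prime 67) := ⟨by norm_num⟩
    exact absurd hn (ne_of_sylCheck hG 469 67 1 7 (by norm_num) (by norm_num) (by norm_num) (by norm_num) (by decide))
  · have : Fact (Nat.Prime 47) := ⟨by norm_num⟩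
    exact absurd hn (ne_of_sylCheck hG 470 47 1 10 (by norm_num) (by norm_num) (by norm_num) (by norm_num) (by decide))
  · have : Fact (Nat.Prime 157) := ⟨by norm_num⟩
    exact absurd hn (ne_of_sylCheck hG 471 157 1 3 (by norm_num) (by norm_num) (by norm_num) (by norm_num) (by decide))
  · have : Fact (Nat.Prime 59) := ⟨by norm_num⟩
    exact absurd hn (ne_of_sylCheck hG 472 59 1 8 (by norm_num) (by norm_num) (by norm_num) (by norm_num) (by decide))
  · have : Fact (Nat.Prime 43) := ⟨by norm_num⟩
    exact absurd hn (ne_of_sylCheck hG 473 43 1 11 (by norm_num) (by norm_num) (by norm_num) (by norm_num) (by decide))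
  · have : Fact (Nat.Prime 79) := ⟨by norm_num⟩
    exact absurd hn (ne_of_sylCheck hG 474 79 1 6 (by norm_num) (by norm_num) (by norm_num) (by norm_num) (by decide))
  · have : Fact (Nat.Prime 19) := ⟨by norm_num⟩
    exact absurd hn (ne_of_sylCheck hG 475 19 1 25 (by norm_num) (by norm_num) (by norm_num) (by norm_num) (by decide))
  · have : Fact (Nat.Prime 17) := ⟨by norm_num⟩
    exact absurd hn (ne_of_sylCheck hG 476 17 1 28 (by norm_num) (by norm_num) (by norm_num) (by norm_num) (by decide))
  · have : Fact (Nat.Prime 53) := ⟨by norm_num⟩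
    exact absurd hn (ne_of_sylCheck hG 477 53 1 9 (by norm_num) (by norm_num) (by norm_num) (by norm_num) (by decide))
  · have : Fact (Nat.Prime 239) := ⟨by norm_num⟩
    exact absurd hn (ne_of_sylCheck hG 478 239 1 2 (by norm_num) (by norm_num) (by norm_num) (by norm_num) (by decide))
  · exact absurd hn (ne_ppow hG 479 1 (by norm_num))
  · exact absurd hn Cfsg.Agent.Lib.H5.SmallOrd.not_480
  · have : Fact (Nat.Prime 37) := ⟨by norm_num⟩
    exact absurd hn (ne_of_sylCheck hG 481 37 1 13 (by norm_num) (by norm_num) (by norm_num) (by norm_num) (by decide))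
  · have : Fact (Nat.Prime 241) := ⟨by norm_num⟩
    exact absurd hn (ne_of_sylCheck hG 482 241 1 2 (by norm_num) (by norm_num) (by norm_num) (by norm_num) (by decide))
  · have : Fact (Nat.Prime 23) := ⟨by norm_num⟩
    exact absurd hn (ne_of_sylCheck hG 483 23 1 21 (by norm_num) (by norm_num) (by norm_num) (by norm_num) (by decide))
  · have : Fact (Nat.Prime 11) := ⟨by norm_num⟩
    exact absurd hn (ne_of_sylCheck hG 484 11 2 4 (by norm_num) (by norm_num) (by norm_num) (by norm_num) (by decide))
  · have : Fact (Nat.Prime 97) := ⟨by norm_num⟩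
    exact absurd hn (ne_of_sylCheck hG 485 97 1 5 (by norm_num) (by norm_num) (by norm_num) (by norm_num) (by decide))
  · have : Fact (Nat.Prime 3) := ⟨by norm_num⟩
    exact absurd hn (ne_of_sylCheck hG 486 3 5 2 (by norm_num) (by norm_num) (by norm_num) (by norm_num) (by decide))
  · exact absurd hn (ne_ppow hG 487 1 (by norm_num))
  · have : Fact (Nat.Prime 61) := ⟨by norm_num⟩
    exact absurd hn (ne_of_sylCheck hG 488 61 1 8 (by norm_num) (by norm_num) (by norm_num) (by norm_num) (by decide))
  · have : Fact (Nat.Prime 163) := ⟨by norm_num⟩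
    exact absurd hn (ne_of_sylCheck hG 489 163 1 3 (by norm_num) (by norm_num) (by norm_num) (by norm_num) (by decide))
  · have : Fact (Nat.Prime 7) := ⟨by norm_num⟩
    exact absurd hn (ne_of_sylCheck hG 490 7 2 10 (by norm_num) (by norm_num) (by norm_num) (by norm_num) (by decide))
  · exact absurd hn (ne_ppow hG 491 1 (by norm_num))
  · have : Fact (Nat.Prime 41) := ⟨by norm_num⟩
    exact absurd hn (ne_of_sylCheck hG 492 41 1 12 (by norm_num) (by norm_num) (by norm_num) (by norm_num) (by decide))
  · have : Fact (Nat.Prime 29) := ⟨by norm_num⟩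
    exact absurd hn (ne_of_sylCheck hG 493 29 1 17 (by norm_num) (by norm_num) (by norm_num) (by norm_num) (by decide))
  · have : Fact (Nat.Prime 19) := ⟨by norm_num⟩
    exact absurd hn (ne_of_sylCheck hG 494 19 1 26 (by norm_num) (by norm_num) (by norm_num) (by norm_num) (by decide))
  · have : Fact (Nat.Prime 11) := ⟨by norm_num⟩
    exact absurd hn (ne_of_ncfpCheck hG 495 11 45 (by norm_num) (by norm_num) (by norm_num) (by decide))
  · have : Fact (Nat.Prime 31) := ⟨by norm_num⟩
    exact absurd hn (ne_of_sylCheck hG 496 31 1 16 (by norm_num) (by norm_num) (by norm_num) (by norm_num) (by decide))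
  · have : Fact (Nat.Prime 71) := ⟨by norm_num⟩
    exact absurd hn (ne_of_sylCheck hG 497 71 1 7 (by norm_num) (by norm_num) (by norm_num) (by norm_num) (by decide))
  · have : Fact (Nat.Prime 83) := ⟨by norm_num⟩
    exact absurd hn (ne_of_sylCheck hG 498 83 1 6 (by norm_num) (by norm_num) (by norm_num) (by norm_num) (by decide))
  · exact absurd hn (ne_ppow hG 499 1 (by norm_num))

end Cfsg.Agent.Lib.H5.Sieve496
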