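import Mathlib
import Cfsg.Agent.Lib.H5.Ord.GenTests3
import Cfsg.Agent.Lib.H5.Ord.BrGen
import Cfsg.Agent.Lib.H5.Ord.InvSelf

set_option autoImplicit false

/-! # No simple group of order 756 (Brauer's degree equation with `e = 3`, `t = 2`) -/

namespace Cfsg.Agent.Lib.H5.SmallOrd

open Subgroup MulAction Cfsg.Agent.Lib.H5 Cfsg.Agent.Lib.H5.SylPrime Cfsg.Agent.Lib.H5.GenTests

universe u

variable {G : Type u} [Group G] [Finite G] [IsSimpleGroup G]

theorem not_756 : Nat.card G ≠ 756 := by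
  intro hn
  have hnc : ¬ IsMulCommutative G :=
    not_isMulCommutative_of_card_not_prime (by rw [hn]; norm_num)
  have : Fact (Nat.Prime 7) := ⟨by norm_num⟩
  let P : Sylow 7 G := default
  obtain ⟨h1, h2, h3, -, h5, h6, h7, h8, hP, hNd, -, -, hcr, -⟩ :=
    prime_data_explicit hnc hn (p := 7) (m := 108) (by norm_num) (by norm_num) (by norm_num) P
  have hd : Nat.card (Sylow 7 G) = 36 := by
    have hmem : Nat.card (Sylow 7 G) ∈ (Nat.divisors 108).filter (fun d => d % 7 = 1) := by
      rw [Finset.mem_filter, Nat.mem_divisors]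
      exact ⟨⟨h1, by norm_num⟩, h2⟩
    have hfil : (Nat.divisors 108).filter (fun d => d % 7 = 1) = {1, 36} := by decide
    rw [hfil] at hmem
    simp only [Finset.mem_insert, Finset.mem_singleton] at hmem
    rcases hmem with h | h
    · exact absurd h h3
    · exact h
  rw [hd] at h7 hNd
  set r := (centralizer ((P : Subgroup G) : Set G)).relIndex (normalizer ((P : Subgroup G) : Set G))
  set c₀ := Nat.card (centralizer ((P : Subgroup G) : Set G))
  have hr6 : r ≤ 6 := Nat.le_of_dvd (by norm_num) h5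
  have hrc : c₀ = 7 ∧ r = 3 := by
    interval_cases r <;> omega
  have hN : Nat.card (normalizer ((P : Subgroup G) : Set G)) = 7 * 3 := by omega
  have hC := centralizer_eq_of_card (P : Subgroup G) hP hrc.1
  have hperf := Cfsg.Agent.Lib.H24.BrP.commutator_eq_top_of_simple (G := G)
    (by rw [hn]; norm_num)
  obtain ⟨ι, R, b, d, εz, c, x, hεz, hxd, hx1, hR, hsq, hdeg, hxc, hdsq⟩ :=
    Cfsg.Agent.Lib.H5.BrGen.gen_data_split (P : Subgroup G) hP hC hN (t := 2) (by norm_num)
      (by norm_num) hperf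
  classical
  rw [hn] at hxd hdsq
  push_cast at hsq hdeg
  have hsq_nonneg : 0 ≤ ∑ i ∈ R, b i ^ 2 := Finset.sum_nonneg fun i _ => sq_nonneg (b i)
  have hsum_le : ∑ i ∈ R, b i ^ 2 ≤ 2 := by
    rcases hεz with h | h <;> rw [h] at hsq
    · have : 0 ≤ c ∧ c ≤ 1 := by constructor <;> nlinarith
      have hc : c = 0 ∨ c = 1 := by omega
      rcases hc with hc | hc <;> rw [hc] at hsq <;> linarith
    · have : -1 ≤ c ∧ c ≤ 0 := by constructor <;> nlinarith
      have hc : c = 0 ∨ c = -1 := by omega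
      rcases hc with hc | hc <;> rw [hc] at hsq <;> linarith
  -- each member of R with b ≠ 0 has b = -1 and degree 6 or 27
  have hall : ∀ i ∈ R, b i = 0 ∨ (b i = -1 ∧ (d i = 6 ∨ d i = 27)) := by
    intro i hi
    obtain ⟨hdd, hd1, m', hm'⟩ := hR i hi
    by_cases hb0 : b i = 0
    · exact Or.inl hb0
    right
    have hbsq : b i ^ 2 ≤ ∑ i ∈ R, b i ^ 2 :=
      Finset.single_le_sum (f := fun i => b i ^ 2) (fun j _ => sq_nonneg (b j)) hi
    have hbsq2 : b i ^ 2 ≤ 2 := le_trans hbsq hsum_le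
    have hdle : d i ^ 2 ≤ 756 := by
      have := Finset.single_le_sum (f := fun i => d i ^ 2) (fun j _ => Nat.zero_le _) hi
      omega
    have hd27 : d i ≤ 27 := by nlinarith
    have hb : -1 ≤ b i ∧ b i ≤ 1 := by constructor <;> nlinarith
    rw [hn] at hdd
    obtain ⟨n, hn'⟩ : ∃ n, n = d i := ⟨_, rfl⟩
    rw [← hn'] at hdd hd1 hm' hd27 ⊢
    push_cast at hm'
    obtain ⟨hbl, hbu⟩ := hb
    interval_cases hbi : b i
    · interval_cases n <;> omega
    · exact absurd rfl hb0
    · interval_cases n <;> omega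
  set R' := R.filter (fun i => b i ≠ 0) with hR'
  have hR'mem : ∀ i ∈ R', b i = -1 ∧ (d i = 6 ∨ d i = 27) := by
    intro i hi
    rw [hR', Finset.mem_filter] at hi
    rcases hall i hi.1 with h | h
    · exact absurd h hi.2
    · exact h
  have hsq' : ∑ i ∈ R', b i ^ 2 = ∑ i ∈ R, b i ^ 2 := by
    rw [hR']
    apply Finset.sum_filter_of_ne
    intro i _ hne h0
    apply hne
    rw [h0]; ring
  have hdeg' : ∑ i ∈ R', b i * (d i : ℤ) = ∑ i ∈ R, b i * (d i : ℤ) := by
    rw [hR']
    apply Finset.sum_filter_of_ne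
    intro i _ hne h0
    apply hne
    rw [h0]; ring
  have hcard : ∑ i ∈ R', b i ^ 2 = (R'.card : ℤ) := by
    rw [Finset.sum_congr rfl fun i hi => by rw [(hR'mem i hi).1], Finset.sum_const]
    simp
  rw [← hsq', hcard] at hsq
  rw [← hdeg'] at hdeg
  -- c ∈ {0, ε}, |R'| = 2
  have hcard_nonneg : (0 : ℤ) ≤ R'.card := by positivity
  have hcases : (R'.card : ℤ) = 2 ∧ (c = 0 ∨ c = εz) := by
    rcases hεz with h | h <;> rw [h] at hsq ⊢
    · have hc : c = 0 ∨ c = 1 := by
        have : 0 ≤ c ∧ c ≤ 1 := by constructor <;> nlinarith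
        omega
      rcases hc with hc | hc <;> rw [hc] at hsq ⊢ <;> constructor <;> first | omega | simp
    · have hc : c = 0 ∨ c = -1 := by
        have : -1 ≤ c ∧ c ≤ 0 := by constructor <;> nlinarith
        omega
      rcases hc with hc | hc <;> rw [hc] at hsq ⊢ <;> constructor <;> first | omega | simp
  obtain ⟨hcard2, hc⟩ := hcases
  have hcard2' : R'.card = 2 := by exact_mod_cast hcard2
  obtain ⟨i, j, hij, hRij⟩ := Finset.card_eq_two.mp hcard2'
  have hi := hR'mem i (by rw [hRij]; simp)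
  have hj := hR'mem j (by rw [hRij]; simp)
  rw [hRij, Finset.sum_pair hij, hi.1, hj.1] at hdeg
  have hxpos : (0 : ℤ) ≤ x := by positivity
  have hx_cases : x = 11 ∨ x = 32 ∨ x = 53 := by
    rcases hi.2 with h6 | h27 <;> rcases hj.2 with h6' | h27' <;>
    rcases hεz with he | he <;> rcases hc with hc | hc <;>
    simp only [*] at hdeg <;> push_cast at hdeg <;> omega
  rcases hx_cases with rfl | rfl | rfl <;> omega

end Cfsg.Agent.Lib.H5.SmallOrd
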