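import Mathlib
import Cfsg.Agent.Lib.H5.Ord.GenTests3

set_option autoImplicit false
set_option maxHeartbeats 1600000

/-! # Orders of non-abelian simple groups: the range 3641..3699 (generated).
The orders not killed by the generic tests are passed in as hypotheses. -/

namespace Cfsg.Agent.Lib.H5.Sieve983

open Cfsg.Agent.Lib.H5.GenTests

theorem chunk36 {G : Type*} [Group G] [Finite G] [IsSimpleGroup G]
    (hG : ¬ IsMulCommutative G) (h1 : 3641 ≤ Nat.card G) (h2 : Nat.card G ≤ 3699)
    (s3648 : Nat.card G ≠ 3648) (s3696 : Nat.card G ≠ 3696) :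
    Nat.card G = 4080 ∨ Nat.card G = 5616 ∨ Nat.card G = 6048 ∨ Nat.card G = 6072 := by
  obtain ⟨n, hn⟩ : ∃ n, Nat.card G = n := ⟨_, rfl⟩
  rw [hn] at h1 h2 ⊢
  interval_cases n
  · have : Fact (Nat.Prime 331) := ⟨by norm_num⟩
    exact absurd hn (ne_of_sylCheck hG 3641 331 1 11 (by norm_num) (by norm_num) (by norm_num) (by norm_num) (by decide +kernel))
  · have : Fact (Nat.Prime 607) := ⟨by norm_num⟩
    exact absurd hn (ne_of_sylCheck hG 3642 607 1 6 (by norm_num) (by norm_num) (by norm_num) (by norm_num) (by decide +kernel))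
  · exact absurd hn (ne_ppow hG 3643 1 (by norm_num))
  · have : Fact (Nat.Prime 911) := ⟨by norm_num⟩
    exact absurd hn (ne_of_sylCheck hG 3644 911 1 4 (by norm_num) (by norm_num) (by norm_num) (by norm_num) (by decide +kernel))
  · have : Fact (Nat.Prime 3) := ⟨by norm_num⟩
    exact absurd hn (ne_of_sylCheck hG 3645 3 6 5 (by norm_num) (by norm_num) (by norm_num) (by norm_num) (by decide +kernel))
  · have : Fact (Nat.Prime 1823) := ⟨by norm_num⟩
    exact absurd hn (ne_of_sylCheck hG 3646 1823 1 2 (by norm_num) (by norm_num) (by norm_num) (by norm_num) (by decide +kernel))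
  · have : Fact (Nat.Prime 521) := ⟨by norm_num⟩
    exact absurd hn (ne_of_sylCheck hG 3647 521 1 7 (by norm_num) (by norm_num) (by norm_num) (by norm_num) (by decide +kernel))
  · exact absurd hn s3648
  · have : Fact (Nat.Prime 89) := ⟨by norm_num⟩
    exact absurd hn (ne_of_sylCheck hG 3649 89 1 41 (by norm_num) (by norm_num) (by norm_num) (by norm_num) (by decide +kernel))
  · have : Fact (Nat.Prime 73) := ⟨by norm_num⟩
    exact absurd hn (ne_of_sylCheck hG 3650 73 1 50 (by norm_num) (by norm_num) (by norm_num) (by norm_num) (by decide +kernel))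
  · have : Fact (Nat.Prime 1217) := ⟨by norm_num⟩
    exact absurd hn (ne_of_sylCheck hG 3651 1217 1 3 (by norm_num) (by norm_num) (by norm_num) (by norm_num) (by decide +kernel))
  · have : Fact (Nat.Prime 83) := ⟨by norm_num⟩
    exact absurd hn (ne_of_sylCheck hG 3652 83 1 44 (by norm_num) (by norm_num) (by norm_num) (by norm_num) (by decide +kernel))
  · have : Fact (Nat.Prime 281) := ⟨by norm_num⟩
    exact absurd hn (ne_of_sylCheck hG 3653 281 1 13 (by norm_num) (by norm_num) (by norm_num) (by norm_num) (by decide +kernel))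
  · have : Fact (Nat.Prime 29) := ⟨by norm_num⟩
    exact absurd hn (ne_of_sylCheck hG 3654 29 1 126 (by norm_num) (by norm_num) (by norm_num) (by norm_num) (by decide +kernel))
  · have : Fact (Nat.Prime 43) := ⟨by norm_num⟩
    exact absurd hn (ne_of_sylCheck hG 3655 43 1 85 (by norm_num) (by norm_num) (by norm_num) (by norm_num) (by decide +kernel))
  · have : Fact (Nat.Prime 457) := ⟨by norm_num⟩
    exact absurd hn (ne_of_sylCheck hG 3656 457 1 8 (by norm_num) (by norm_num) (by norm_num) (by norm_num) (by decide +kernel))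
  · have : Fact (Nat.Prime 53) := ⟨by norm_num⟩
    exact absurd hn (ne_of_sylCheck hG 3657 53 1 69 (by norm_num) (by norm_num) (by norm_num) (by norm_num) (by decide +kernel))
  · have : Fact (Nat.Prime 59) := ⟨by norm_num⟩
    exact absurd hn (ne_of_sylCheck hG 3658 59 1 62 (by norm_num) (by norm_num) (by norm_num) (by norm_num) (by decide +kernel))
  · exact absurd hn (ne_ppow hG 3659 1 (by norm_num))
  · have : Fact (Nat.Prime 61) := ⟨by norm_num⟩
    exact absurd hn (ne_of_sylCheck hG 3660 61 1 60 (by norm_num) (by norm_num) (by norm_num) (by norm_num) (by decide +kernel))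
  · have : Fact (Nat.Prime 523) := ⟨by norm_num⟩
    exact absurd hn (ne_of_sylCheck hG 3661 523 1 7 (by norm_num) (by norm_num) (by norm_num) (by norm_num) (by decide +kernel))
  · have : Fact (Nat.Prime 1831) := ⟨by norm_num⟩
    exact absurd hn (ne_of_sylCheck hG 3662 1831 1 2 (by norm_num) (by norm_num) (by norm_num) (by norm_num) (by decide +kernel))
  · have : Fact (Nat.Prime 37) := ⟨by norm_num⟩
    exact absurd hn (ne_of_sylCheck hG 3663 37 1 99 (by norm_num) (by norm_num) (by norm_num) (by norm_num) (by decide +kernel))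
  · have : Fact (Nat.Prime 229) := ⟨by norm_num⟩
    exact absurd hn (ne_of_sylCheck hG 3664 229 1 16 (by norm_num) (by norm_num) (by norm_num) (by norm_num) (by decide +kernel))
  · have : Fact (Nat.Prime 733) := ⟨by norm_num⟩
    exact absurd hn (ne_of_sylCheck hG 3665 733 1 5 (by norm_num) (by norm_num) (by norm_num) (by norm_num) (by decide +kernel))
  · have : Fact (Nat.Prime 47) := ⟨by norm_num⟩
    exact absurd hn (ne_of_sylCheck hG 3666 47 1 78 (by norm_num) (by norm_num) (by norm_num) (by norm_num) (by decide +kernel))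
  · have : Fact (Nat.Prime 193) := ⟨by norm_num⟩
    exact absurd hn (ne_of_sylCheck hG 3667 193 1 19 (by norm_num) (by norm_num) (by norm_num) (by norm_num) (by decide +kernel))
  · have : Fact (Nat.Prime 131) := ⟨by norm_num⟩
    exact absurd hn (ne_of_sylCheck hG 3668 131 1 28 (by norm_num) (by norm_num) (by norm_num) (by norm_num) (by decide +kernel))
  · have : Fact (Nat.Prime 1223) := ⟨by norm_num⟩
    exact absurd hn (ne_of_sylCheck hG 3669 1223 1 3 (by norm_num) (by norm_num) (by norm_num) (by norm_num) (by decide +kernel))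
  · have : Fact (Nat.Prime 367) := ⟨by norm_num⟩
    exact absurd hn (ne_of_sylCheck hG 3670 367 1 10 (by norm_num) (by norm_num) (by norm_num) (by norm_num) (by decide +kernel))
  · exact absurd hn (ne_ppow hG 3671 1 (by norm_num))
  · have : Fact (Nat.Prime 17) := ⟨by norm_num⟩
    exact absurd hn (ne_of_ncfpCheck hG 3672 17 216 (by norm_num) (by norm_num) (by norm_num) (by decide +kernel))
  · exact absurd hn (ne_ppow hG 3673 1 (by norm_num))
  · have : Fact (Nat.Prime 167) := ⟨by norm_num⟩
    exact absurd hn (ne_of_sylCheck hG 3674 167 1 22 (by norm_num) (by norm_num) (by norm_num) (by norm_num) (by decide +kernel))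
  · have : Fact (Nat.Prime 3) := ⟨by norm_num⟩
    exact absurd hn (ne_of_ncfpCheck hG 3675 3 1225 (by norm_num) (by norm_num) (by norm_num) (by decide +kernel))
  · have : Fact (Nat.Prime 919) := ⟨by norm_num⟩
    exact absurd hn (ne_of_sylCheck hG 3676 919 1 4 (by norm_num) (by norm_num) (by norm_num) (by norm_num) (by decide +kernel))
  · exact absurd hn (ne_ppow hG 3677 1 (by norm_num))
  · have : Fact (Nat.Prime 613) := ⟨by norm_num⟩
    exact absurd hn (ne_of_sylCheck hG 3678 613 1 6 (by norm_num) (by norm_num) (by norm_num) (by norm_num) (by decide +kernel))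
  · have : Fact (Nat.Prime 283) := ⟨by norm_num⟩
    exact absurd hn (ne_of_sylCheck hG 3679 283 1 13 (by norm_num) (by norm_num) (by norm_num) (by norm_num) (by decide +kernel))
  · have : Fact (Nat.Prime 23) := ⟨by norm_num⟩
    exact absurd hn (ne_of_sylCheck hG 3680 23 1 160 (by norm_num) (by norm_num) (by norm_num) (by norm_num) (by decide +kernel))
  · have : Fact (Nat.Prime 409) := ⟨by norm_num⟩
    exact absurd hn (ne_of_sylCheck hG 3681 409 1 9 (by norm_num) (by norm_num) (by norm_num) (by norm_num) (by decide +kernel))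
  · have : Fact (Nat.Prime 263) := ⟨by norm_num⟩
    exact absurd hn (ne_of_sylCheck hG 3682 263 1 14 (by norm_num) (by norm_num) (by norm_num) (by norm_num) (by decide +kernel))
  · have : Fact (Nat.Prime 127) := ⟨by norm_num⟩
    exact absurd hn (ne_of_sylCheck hG 3683 127 1 29 (by norm_num) (by norm_num) (by norm_num) (by norm_num) (by decide +kernel))
  · have : Fact (Nat.Prime 307) := ⟨by norm_num⟩
    exact absurd hn (ne_of_sylCheck hG 3684 307 1 12 (by norm_num) (by norm_num) (by norm_num) (by norm_num) (by decide +kernel))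
  · have : Fact (Nat.Prime 67) := ⟨by norm_num⟩
    exact absurd hn (ne_of_sylCheck hG 3685 67 1 55 (by norm_num) (by norm_num) (by norm_num) (by norm_num) (by decide +kernel))
  · have : Fact (Nat.Prime 97) := ⟨by norm_num⟩
    exact absurd hn (ne_of_sylCheck hG 3686 97 1 38 (by norm_num) (by norm_num) (by norm_num) (by norm_num) (by decide +kernel))
  · have : Fact (Nat.Prime 1229) := ⟨by norm_num⟩
    exact absurd hn (ne_of_sylCheck hG 3687 1229 1 3 (by norm_num) (by norm_num) (by norm_num) (by norm_num) (by decide +kernel))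
  · have : Fact (Nat.Prime 461) := ⟨by norm_num⟩
    exact absurd hn (ne_of_sylCheck hG 3688 461 1 8 (by norm_num) (by norm_num) (by norm_num) (by norm_num) (by decide +kernel))
  · have : Fact (Nat.Prime 31) := ⟨by norm_num⟩
    exact absurd hn (ne_of_sylCheck hG 3689 31 1 119 (by norm_num) (by norm_num) (by norm_num) (by norm_num) (by decide +kernel))
  · have : Fact (Nat.Prime 41) := ⟨by norm_num⟩
    exact absurd hn (ne_of_sylCheck hG 3690 41 1 90 (by norm_num) (by norm_num) (by norm_num) (by norm_num) (by decide +kernel))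
  · exact absurd hn (ne_ppow hG 3691 1 (by norm_num))
  · have : Fact (Nat.Prime 71) := ⟨by norm_num⟩
    exact absurd hn (ne_of_sylCheck hG 3692 71 1 52 (by norm_num) (by norm_num) (by norm_num) (by norm_num) (by decide +kernel))
  · have : Fact (Nat.Prime 1231) := ⟨by norm_num⟩
    exact absurd hn (ne_of_sylCheck hG 3693 1231 1 3 (by norm_num) (by norm_num) (by norm_num) (by norm_num) (by decide +kernel))
  · have : Fact (Nat.Prime 1847) := ⟨by norm_num⟩
    exact absurd hn (ne_of_sylCheck hG 3694 1847 1 2 (by norm_num) (by norm_num) (by norm_num) (by norm_num) (by decide +kernel))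
  · have : Fact (Nat.Prime 739) := ⟨by norm_num⟩
    exact absurd hn (ne_of_sylCheck hG 3695 739 1 5 (by norm_num) (by norm_num) (by norm_num) (by norm_num) (by decide +kernel))
  · exact absurd hn s3696
  · exact absurd hn (ne_ppow hG 3697 1 (by norm_num))
  · have : Fact (Nat.Prime 43) := ⟨by norm_num⟩
    exact absurd hn (ne_of_sylCheck hG 3698 43 2 2 (by norm_num) (by norm_num) (by norm_num) (by norm_num) (by decide +kernel))
  · have : Fact (Nat.Prime 137) := ⟨by norm_num⟩
    exact absurd hn (ne_of_sylCheck hG 3699 137 1 27 (by norm_num) (by norm_num) (by norm_num) (by norm_num) (by decide +kernel))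

end Cfsg.Agent.Lib.H5.Sieve983
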