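import Mathlib
import Cfsg.Agent.Lib.H5.Ord.GenTests3

set_option autoImplicit false
set_option maxHeartbeats 1600000

/-! # Orders of non-abelian simple groups: the range 3700..3799 (generated).
The orders not killed by the generic tests are passed in as hypotheses. -/

namespace Cfsg.Agent.Lib.H5.Sieve983

open Cfsg.Agent.Lib.H5.GenTests

theorem chunk37 {G : Type*} [Group G] [Finite G] [IsSimpleGroup G]
    (hG : ¬ IsMulCommutative G) (h1 : 3700 ≤ Nat.card G) (h2 : Nat.card G ≤ 3799)
    (s3744 : Nat.card G ≠ 3744) (s3780 : Nat.card G ≠ 3780) :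
    Nat.card G = 4080 ∨ Nat.card G = 5616 ∨ Nat.card G = 6048 ∨ Nat.card G = 6072 := by
  obtain ⟨n, hn⟩ : ∃ n, Nat.card G = n := ⟨_, rfl⟩
  rw [hn] at h1 h2 ⊢
  interval_cases n
  · have : Fact (Nat.Prime 37) := ⟨by norm_num⟩
    exact absurd hn (ne_of_sylCheck hG 3700 37 1 100 (by norm_num) (by norm_num) (by norm_num) (by norm_num) (by decide +kernel))
  · exact absurd hn (ne_ppow hG 3701 1 (by norm_num))
  · have : Fact (Nat.Prime 617) := ⟨by norm_num⟩
    exact absurd hn (ne_of_sylCheck hG 3702 617 1 6 (by norm_num) (by norm_num) (by norm_num) (by norm_num) (by decide +kernel))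
  · have : Fact (Nat.Prime 23) := ⟨by norm_num⟩
    exact absurd hn (ne_of_sylCheck hG 3703 23 2 7 (by norm_num) (by norm_num) (by norm_num) (by norm_num) (by decide +kernel))
  · have : Fact (Nat.Prime 463) := ⟨by norm_num⟩
    exact absurd hn (ne_of_sylCheck hG 3704 463 1 8 (by norm_num) (by norm_num) (by norm_num) (by norm_num) (by decide +kernel))
  · have : Fact (Nat.Prime 13) := ⟨by norm_num⟩
    exact absurd hn (ne_of_sylCheck hG 3705 13 1 285 (by norm_num) (by norm_num) (by norm_num) (by norm_num) (by decide +kernel))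
  · have : Fact (Nat.Prime 109) := ⟨by norm_num⟩
    exact absurd hn (ne_of_sylCheck hG 3706 109 1 34 (by norm_num) (by norm_num) (by norm_num) (by norm_num) (by decide +kernel))
  · have : Fact (Nat.Prime 337) := ⟨by norm_num⟩
    exact absurd hn (ne_of_sylCheck hG 3707 337 1 11 (by norm_num) (by norm_num) (by norm_num) (by norm_num) (by decide +kernel))
  · have : Fact (Nat.Prime 103) := ⟨by norm_num⟩
    exact absurd hn (ne_of_sylCheck hG 3708 103 1 36 (by norm_num) (by norm_num) (by norm_num) (by norm_num) (by decide +kernel))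
  · exact absurd hn (ne_ppow hG 3709 1 (by norm_num))
  · have : Fact (Nat.Prime 53) := ⟨by norm_num⟩
    exact absurd hn (ne_of_sylCheck hG 3710 53 1 70 (by norm_num) (by norm_num) (by norm_num) (by norm_num) (by decide +kernel))
  · have : Fact (Nat.Prime 1237) := ⟨by norm_num⟩
    exact absurd hn (ne_of_sylCheck hG 3711 1237 1 3 (by norm_num) (by norm_num) (by norm_num) (by norm_num) (by decide +kernel))
  · have : Fact (Nat.Prime 29) := ⟨by norm_num⟩
    exact absurd hn (ne_of_sylCheck hG 3712 29 1 128 (by norm_num) (by norm_num) (by norm_num) (by norm_num) (by decide +kernel))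
  · have : Fact (Nat.Prime 79) := ⟨by norm_num⟩
    exact absurd hn (ne_of_sylCheck hG 3713 79 1 47 (by norm_num) (by norm_num) (by norm_num) (by norm_num) (by decide +kernel))
  · have : Fact (Nat.Prime 619) := ⟨by norm_num⟩
    exact absurd hn (ne_of_sylCheck hG 3714 619 1 6 (by norm_num) (by norm_num) (by norm_num) (by norm_num) (by decide +kernel))
  · have : Fact (Nat.Prime 743) := ⟨by norm_num⟩
    exact absurd hn (ne_of_sylCheck hG 3715 743 1 5 (by norm_num) (by norm_num) (by norm_num) (by norm_num) (by decide +kernel))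
  · have : Fact (Nat.Prime 929) := ⟨by norm_num⟩
    exact absurd hn (ne_of_sylCheck hG 3716 929 1 4 (by norm_num) (by norm_num) (by norm_num) (by norm_num) (by decide +kernel))
  · have : Fact (Nat.Prime 59) := ⟨by norm_num⟩
    exact absurd hn (ne_of_sylCheck hG 3717 59 1 63 (by norm_num) (by norm_num) (by norm_num) (by norm_num) (by decide +kernel))
  · have : Fact (Nat.Prime 13) := ⟨by norm_num⟩
    exact absurd hn (ne_of_sylCheck hG 3718 13 2 22 (by norm_num) (by norm_num) (by norm_num) (by norm_num) (by decide +kernel))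
  · exact absurd hn (ne_ppow hG 3719 1 (by norm_num))
  · have : Fact (Nat.Prime 31) := ⟨by norm_num⟩
    exact absurd hn (ne_of_sylCheck hG 3720 31 1 120 (by norm_num) (by norm_num) (by norm_num) (by norm_num) (by decide +kernel))
  · exact absurd hn (ne_ppow hG 61 2 (by norm_num))
  · have : Fact (Nat.Prime 1861) := ⟨by norm_num⟩
    exact absurd hn (ne_of_sylCheck hG 3722 1861 1 2 (by norm_num) (by norm_num) (by norm_num) (by norm_num) (by decide +kernel))
  · have : Fact (Nat.Prime 73) := ⟨by norm_num⟩
    exact absurd hn (ne_of_sylCheck hG 3723 73 1 51 (by norm_num) (by norm_num) (by norm_num) (by norm_num) (by decide +kernel))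
  · have : Fact (Nat.Prime 19) := ⟨by norm_num⟩
    exact absurd hn (ne_of_sylCheck hG 3724 19 1 196 (by norm_num) (by norm_num) (by norm_num) (by norm_num) (by decide +kernel))
  · have : Fact (Nat.Prime 149) := ⟨by norm_num⟩
    exact absurd hn (ne_of_sylCheck hG 3725 149 1 25 (by norm_num) (by norm_num) (by norm_num) (by norm_num) (by decide +kernel))
  · exact absurd hn (Cfsg.Agent.S0493.ne_two_odd 1863 (by decide +kernel))
  · exact absurd hn (ne_ppow hG 3727 1 (by norm_num))
  · have : Fact (Nat.Prime 233) := ⟨by norm_num⟩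
    exact absurd hn (ne_of_sylCheck hG 3728 233 1 16 (by norm_num) (by norm_num) (by norm_num) (by norm_num) (by decide +kernel))
  · have : Fact (Nat.Prime 113) := ⟨by norm_num⟩
    exact absurd hn (ne_of_sylCheck hG 3729 113 1 33 (by norm_num) (by norm_num) (by norm_num) (by norm_num) (by decide +kernel))
  · have : Fact (Nat.Prime 373) := ⟨by norm_num⟩
    exact absurd hn (ne_of_sylCheck hG 3730 373 1 10 (by norm_num) (by norm_num) (by norm_num) (by norm_num) (by decide +kernel))
  · have : Fact (Nat.Prime 41) := ⟨by norm_num⟩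
    exact absurd hn (ne_of_sylCheck hG 3731 41 1 91 (by norm_num) (by norm_num) (by norm_num) (by norm_num) (by decide +kernel))
  · have : Fact (Nat.Prime 311) := ⟨by norm_num⟩
    exact absurd hn (ne_of_sylCheck hG 3732 311 1 12 (by norm_num) (by norm_num) (by norm_num) (by norm_num) (by decide +kernel))
  · exact absurd hn (ne_ppow hG 3733 1 (by norm_num))
  · have : Fact (Nat.Prime 1867) := ⟨by norm_num⟩
    exact absurd hn (ne_of_sylCheck hG 3734 1867 1 2 (by norm_num) (by norm_num) (by norm_num) (by norm_num) (by decide +kernel))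
  · have : Fact (Nat.Prime 83) := ⟨by norm_num⟩
    exact absurd hn (ne_of_sylCheck hG 3735 83 1 45 (by norm_num) (by norm_num) (by norm_num) (by norm_num) (by decide +kernel))
  · have : Fact (Nat.Prime 467) := ⟨by norm_num⟩
    exact absurd hn (ne_of_sylCheck hG 3736 467 1 8 (by norm_num) (by norm_num) (by norm_num) (by norm_num) (by decide +kernel))
  · have : Fact (Nat.Prime 101) := ⟨by norm_num⟩
    exact absurd hn (ne_of_sylCheck hG 3737 101 1 37 (by norm_num) (by norm_num) (by norm_num) (by norm_num) (by decide +kernel))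
  · have : Fact (Nat.Prime 89) := ⟨by norm_num⟩
    exact absurd hn (ne_of_sylCheck hG 3738 89 1 42 (by norm_num) (by norm_num) (by norm_num) (by norm_num) (by decide +kernel))
  · exact absurd hn (ne_ppow hG 3739 1 (by norm_num))
  · have : Fact (Nat.Prime 17) := ⟨by norm_num⟩
    exact absurd hn (ne_of_sylCheck hG 3740 17 1 220 (by norm_num) (by norm_num) (by norm_num) (by norm_num) (by decide +kernel))
  · have : Fact (Nat.Prime 29) := ⟨by norm_num⟩
    exact absurd hn (ne_of_sylCheck hG 3741 29 1 129 (by norm_num) (by norm_num) (by norm_num) (by norm_num) (by decide +kernel))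
  · have : Fact (Nat.Prime 1871) := ⟨by norm_num⟩
    exact absurd hn (ne_of_sylCheck hG 3742 1871 1 2 (by norm_num) (by norm_num) (by norm_num) (by norm_num) (by decide +kernel))
  · have : Fact (Nat.Prime 197) := ⟨by norm_num⟩
    exact absurd hn (ne_of_sylCheck hG 3743 197 1 19 (by norm_num) (by norm_num) (by norm_num) (by norm_num) (by decide +kernel))
  · exact absurd hn s3744
  · have : Fact (Nat.Prime 107) := ⟨by norm_num⟩
    exact absurd hn (ne_of_sylCheck hG 3745 107 1 35 (by norm_num) (by norm_num) (by norm_num) (by norm_num) (by decide +kernel))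
  · have : Fact (Nat.Prime 1873) := ⟨by norm_num⟩
    exact absurd hn (ne_of_sylCheck hG 3746 1873 1 2 (by norm_num) (by norm_num) (by norm_num) (by norm_num) (by decide +kernel))
  · have : Fact (Nat.Prime 1249) := ⟨by norm_num⟩
    exact absurd hn (ne_of_sylCheck hG 3747 1249 1 3 (by norm_num) (by norm_num) (by norm_num) (by norm_num) (by decide +kernel))
  · have : Fact (Nat.Prime 937) := ⟨by norm_num⟩
    exact absurd hn (ne_of_sylCheck hG 3748 937 1 4 (by norm_num) (by norm_num) (by norm_num) (by norm_num) (by decide +kernel))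
  · have : Fact (Nat.Prime 163) := ⟨by norm_num⟩
    exact absurd hn (ne_of_sylCheck hG 3749 163 1 23 (by norm_num) (by norm_num) (by norm_num) (by norm_num) (by decide +kernel))
  · have : Fact (Nat.Prime 5) := ⟨by norm_num⟩
    exact absurd hn (ne_of_sylCheck hG 3750 5 4 6 (by norm_num) (by norm_num) (by norm_num) (by norm_num) (by decide +kernel))
  · have : Fact (Nat.Prime 31) := ⟨by norm_num⟩
    exact absurd hn (ne_of_sylCheck hG 3751 31 1 121 (by norm_num) (by norm_num) (by norm_num) (by norm_num) (by decide +kernel))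
  · have : Fact (Nat.Prime 67) := ⟨by norm_num⟩
    exact absurd hn (ne_of_sylCheck hG 3752 67 1 56 (by norm_num) (by norm_num) (by norm_num) (by norm_num) (by decide +kernel))
  · have : Fact (Nat.Prime 139) := ⟨by norm_num⟩
    exact absurd hn (ne_of_sylCheck hG 3753 139 1 27 (by norm_num) (by norm_num) (by norm_num) (by norm_num) (by decide +kernel))
  · have : Fact (Nat.Prime 1877) := ⟨by norm_num⟩
    exact absurd hn (ne_of_sylCheck hG 3754 1877 1 2 (by norm_num) (by norm_num) (by norm_num) (by norm_num) (by decide +kernel))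
  · have : Fact (Nat.Prime 751) := ⟨by norm_num⟩
    exact absurd hn (ne_of_sylCheck hG 3755 751 1 5 (by norm_num) (by norm_num) (by norm_num) (by norm_num) (by decide +kernel))
  · have : Fact (Nat.Prime 313) := ⟨by norm_num⟩
    exact absurd hn (ne_of_sylCheck hG 3756 313 1 12 (by norm_num) (by norm_num) (by norm_num) (by norm_num) (by decide +kernel))
  · have : Fact (Nat.Prime 17) := ⟨by norm_num⟩
    exact absurd hn (ne_of_sylCheck hG 3757 17 2 13 (by norm_num) (by norm_num) (by norm_num) (by norm_num) (by decide +kernel))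
  · have : Fact (Nat.Prime 1879) := ⟨by norm_num⟩
    exact absurd hn (ne_of_sylCheck hG 3758 1879 1 2 (by norm_num) (by norm_num) (by norm_num) (by norm_num) (by decide +kernel))
  · have : Fact (Nat.Prime 179) := ⟨by norm_num⟩
    exact absurd hn (ne_of_sylCheck hG 3759 179 1 21 (by norm_num) (by norm_num) (by norm_num) (by norm_num) (by decide +kernel))
  · have : Fact (Nat.Prime 47) := ⟨by norm_num⟩
    exact absurd hn (ne_of_sylCheck hG 3760 47 1 80 (by norm_num) (by norm_num) (by norm_num) (by norm_num) (by decide +kernel))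
  · exact absurd hn (ne_ppow hG 3761 1 (by norm_num))
  · have : Fact (Nat.Prime 19) := ⟨by norm_num⟩
    exact absurd hn (ne_of_sylCheck hG 3762 19 1 198 (by norm_num) (by norm_num) (by norm_num) (by norm_num) (by decide +kernel))
  · have : Fact (Nat.Prime 71) := ⟨by norm_num⟩
    exact absurd hn (ne_of_sylCheck hG 3763 71 1 53 (by norm_num) (by norm_num) (by norm_num) (by norm_num) (by decide +kernel))
  · have : Fact (Nat.Prime 941) := ⟨by norm_num⟩
    exact absurd hn (ne_of_sylCheck hG 3764 941 1 4 (by norm_num) (by norm_num) (by norm_num) (by norm_num) (by decide +kernel))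
  · have : Fact (Nat.Prime 251) := ⟨by norm_num⟩
    exact absurd hn (ne_of_sylCheck hG 3765 251 1 15 (by norm_num) (by norm_num) (by norm_num) (by norm_num) (by decide +kernel))
  · have : Fact (Nat.Prime 269) := ⟨by norm_num⟩
    exact absurd hn (ne_of_sylCheck hG 3766 269 1 14 (by norm_num) (by norm_num) (by norm_num) (by norm_num) (by decide +kernel))
  · exact absurd hn (ne_ppow hG 3767 1 (by norm_num))
  · have : Fact (Nat.Prime 157) := ⟨by norm_num⟩
    exact absurd hn (ne_of_sylCheck hG 3768 157 1 24 (by norm_num) (by norm_num) (by norm_num) (by norm_num) (by decide +kernel))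
  · exact absurd hn (ne_ppow hG 3769 1 (by norm_num))
  · have : Fact (Nat.Prime 29) := ⟨by norm_num⟩
    exact absurd hn (ne_of_sylCheck hG 3770 29 1 130 (by norm_num) (by norm_num) (by norm_num) (by norm_num) (by decide +kernel))
  · have : Fact (Nat.Prime 419) := ⟨by norm_num⟩
    exact absurd hn (ne_of_sylCheck hG 3771 419 1 9 (by norm_num) (by norm_num) (by norm_num) (by norm_num) (by decide +kernel))
  · have : Fact (Nat.Prime 41) := ⟨by norm_num⟩
    exact absurd hn (ne_of_sylCheck hG 3772 41 1 92 (by norm_num) (by norm_num) (by norm_num) (by norm_num) (by decide +kernel))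
  · have : Fact (Nat.Prime 11) := ⟨by norm_num⟩
    exact absurd hn (ne_of_sylCheck hG 3773 11 1 343 (by norm_num) (by norm_num) (by norm_num) (by norm_num) (by decide +kernel))
  · have : Fact (Nat.Prime 37) := ⟨by norm_num⟩
    exact absurd hn (ne_of_sylCheck hG 3774 37 1 102 (by norm_num) (by norm_num) (by norm_num) (by norm_num) (by decide +kernel))
  · have : Fact (Nat.Prime 151) := ⟨by norm_num⟩
    exact absurd hn (ne_of_sylCheck hG 3775 151 1 25 (by norm_num) (by norm_num) (by norm_num) (by norm_num) (by decide +kernel))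
  · have : Fact (Nat.Prime 59) := ⟨by norm_num⟩
    exact absurd hn (ne_of_sylCheck hG 3776 59 1 64 (by norm_num) (by norm_num) (by norm_num) (by norm_num) (by decide +kernel))
  · have : Fact (Nat.Prime 1259) := ⟨by norm_num⟩
    exact absurd hn (ne_of_sylCheck hG 3777 1259 1 3 (by norm_num) (by norm_num) (by norm_num) (by norm_num) (by decide +kernel))
  · have : Fact (Nat.Prime 1889) := ⟨by norm_num⟩
    exact absurd hn (ne_of_sylCheck hG 3778 1889 1 2 (by norm_num) (by norm_num) (by norm_num) (by norm_num) (by decide +kernel))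
  · exact absurd hn (ne_ppow hG 3779 1 (by norm_num))
  · exact absurd hn s3780
  · have : Fact (Nat.Prime 199) := ⟨by norm_num⟩
    exact absurd hn (ne_of_sylCheck hG 3781 199 1 19 (by norm_num) (by norm_num) (by norm_num) (by norm_num) (by decide +kernel))
  · have : Fact (Nat.Prime 31) := ⟨by norm_num⟩
    exact absurd hn (ne_of_sylCheck hG 3782 31 1 122 (by norm_num) (by norm_num) (by norm_num) (by norm_num) (by decide +kernel))
  · have : Fact (Nat.Prime 97) := ⟨by norm_num⟩
    exact absurd hn (ne_of_sylCheck hG 3783 97 1 39 (by norm_num) (by norm_num) (by norm_num) (by norm_num) (by decide +kernel))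
  · have : Fact (Nat.Prime 11) := ⟨by norm_num⟩
    exact absurd hn (ne_of_sylCheck hG 3784 11 1 344 (by norm_num) (by norm_num) (by norm_num) (by norm_num) (by decide +kernel))
  · have : Fact (Nat.Prime 757) := ⟨by norm_num⟩
    exact absurd hn (ne_of_sylCheck hG 3785 757 1 5 (by norm_num) (by norm_num) (by norm_num) (by norm_num) (by decide +kernel))
  · have : Fact (Nat.Prime 631) := ⟨by norm_num⟩
    exact absurd hn (ne_of_sylCheck hG 3786 631 1 6 (by norm_num) (by norm_num) (by norm_num) (by norm_num) (by decide +kernel))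
  · have : Fact (Nat.Prime 541) := ⟨by norm_num⟩
    exact absurd hn (ne_of_sylCheck hG 3787 541 1 7 (by norm_num) (by norm_num) (by norm_num) (by norm_num) (by decide +kernel))
  · have : Fact (Nat.Prime 947) := ⟨by norm_num⟩
    exact absurd hn (ne_of_sylCheck hG 3788 947 1 4 (by norm_num) (by norm_num) (by norm_num) (by norm_num) (by decide +kernel))
  · have : Fact (Nat.Prime 421) := ⟨by norm_num⟩
    exact absurd hn (ne_of_sylCheck hG 3789 421 1 9 (by norm_num) (by norm_num) (by norm_num) (by norm_num) (by decide +kernel))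
  · have : Fact (Nat.Prime 379) := ⟨by norm_num⟩
    exact absurd hn (ne_of_sylCheck hG 3790 379 1 10 (by norm_num) (by norm_num) (by norm_num) (by norm_num) (by decide +kernel))
  · have : Fact (Nat.Prime 223) := ⟨by norm_num⟩
    exact absurd hn (ne_of_sylCheck hG 3791 223 1 17 (by norm_num) (by norm_num) (by norm_num) (by norm_num) (by decide +kernel))
  · have : Fact (Nat.Prime 79) := ⟨by norm_num⟩
    exact absurd hn (ne_of_sylCheck hG 3792 79 1 48 (by norm_num) (by norm_num) (by norm_num) (by norm_num) (by decide +kernel))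
  · exact absurd hn (ne_ppow hG 3793 1 (by norm_num))
  · have : Fact (Nat.Prime 271) := ⟨by norm_num⟩
    exact absurd hn (ne_of_sylCheck hG 3794 271 1 14 (by norm_num) (by norm_num) (by norm_num) (by norm_num) (by decide +kernel))
  · have : Fact (Nat.Prime 23) := ⟨by norm_num⟩
    exact absurd hn (ne_of_sylCheck hG 3795 23 1 165 (by norm_num) (by norm_num) (by norm_num) (by norm_num) (by decide +kernel))
  · have : Fact (Nat.Prime 73) := ⟨by norm_num⟩
    exact absurd hn (ne_of_sylCheck hG 3796 73 1 52 (by norm_num) (by norm_num) (by norm_num) (by norm_num) (by decide +kernel))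
  · exact absurd hn (ne_ppow hG 3797 1 (by norm_num))
  · have : Fact (Nat.Prime 211) := ⟨by norm_num⟩
    exact absurd hn (ne_of_sylCheck hG 3798 211 1 18 (by norm_num) (by norm_num) (by norm_num) (by norm_num) (by decide +kernel))
  · have : Fact (Nat.Prime 131) := ⟨by norm_num⟩
    exact absurd hn (ne_of_sylCheck hG 3799 131 1 29 (by norm_num) (by norm_num) (by norm_num) (by norm_num) (by decide +kernel))

end Cfsg.Agent.Lib.H5.Sieve983
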