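import Mathlib
import Cfsg.Agent.Lib.H5.Ord.GenTests3

set_option autoImplicit false
set_option maxHeartbeats 1600000

/-! # Orders of non-abelian simple groups: the range 3800..3899 (generated).
The orders not killed by the generic tests are passed in as hypotheses. -/

namespace Cfsg.Agent.Lib.H5.Sieve983

open Cfsg.Agent.Lib.H5.GenTests

theorem chunk38 {G : Type*} [Group G] [Finite G] [IsSimpleGroup G]
    (hG : ¬ IsMulCommutative G) (h1 : 3800 ≤ Nat.card G) (h2 : Nat.card G ≤ 3899)
    (s3840 : Nat.card G ≠ 3840) :
    Nat.card G = 4080 ∨ Nat.card G = 5616 ∨ Nat.card G = 6048 ∨ Nat.card G = 6072 := by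
  obtain ⟨n, hn⟩ : ∃ n, Nat.card G = n := ⟨_, rfl⟩
  rw [hn] at h1 h2 ⊢
  interval_cases n
  · have : Fact (Nat.Prime 19) := ⟨by norm_num⟩
    exact absurd hn (ne_of_ncfpCheck hG 3800 19 200 (by norm_num) (by norm_num) (by norm_num) (by decide +kernel))
  · have : Fact (Nat.Prime 181) := ⟨by norm_num⟩
    exact absurd hn (ne_of_sylCheck hG 3801 181 1 21 (by norm_num) (by norm_num) (by norm_num) (by norm_num) (by decide +kernel))
  · have : Fact (Nat.Prime 1901) := ⟨by norm_num⟩
    exact absurd hn (ne_of_sylCheck hG 3802 1901 1 2 (by norm_num) (by norm_num) (by norm_num) (by norm_num) (by decide +kernel))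
  · exact absurd hn (ne_ppow hG 3803 1 (by norm_num))
  · have : Fact (Nat.Prime 317) := ⟨by norm_num⟩
    exact absurd hn (ne_of_sylCheck hG 3804 317 1 12 (by norm_num) (by norm_num) (by norm_num) (by norm_num) (by decide +kernel))
  · have : Fact (Nat.Prime 761) := ⟨by norm_num⟩
    exact absurd hn (ne_of_sylCheck hG 3805 761 1 5 (by norm_num) (by norm_num) (by norm_num) (by norm_num) (by decide +kernel))
  · have : Fact (Nat.Prime 173) := ⟨by norm_num⟩
    exact absurd hn (ne_of_sylCheck hG 3806 173 1 22 (by norm_num) (by norm_num) (by norm_num) (by norm_num) (by decide +kernel))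
  · have : Fact (Nat.Prime 47) := ⟨by norm_num⟩
    exact absurd hn (ne_of_sylCheck hG 3807 47 1 81 (by norm_num) (by norm_num) (by norm_num) (by norm_num) (by decide +kernel))
  · have : Fact (Nat.Prime 17) := ⟨by norm_num⟩
    exact absurd hn (ne_of_sylCheck hG 3808 17 1 224 (by norm_num) (by norm_num) (by norm_num) (by norm_num) (by decide +kernel))
  · have : Fact (Nat.Prime 293) := ⟨by norm_num⟩
    exact absurd hn (ne_of_sylCheck hG 3809 293 1 13 (by norm_num) (by norm_num) (by norm_num) (by norm_num) (by decide +kernel))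
  · have : Fact (Nat.Prime 127) := ⟨by norm_num⟩
    exact absurd hn (ne_of_sylCheck hG 3810 127 1 30 (by norm_num) (by norm_num) (by norm_num) (by norm_num) (by decide +kernel))
  · have : Fact (Nat.Prime 103) := ⟨by norm_num⟩
    exact absurd hn (ne_of_sylCheck hG 3811 103 1 37 (by norm_num) (by norm_num) (by norm_num) (by norm_num) (by decide +kernel))
  · have : Fact (Nat.Prime 953) := ⟨by norm_num⟩
    exact absurd hn (ne_of_sylCheck hG 3812 953 1 4 (by norm_num) (by norm_num) (by norm_num) (by norm_num) (by decide +kernel))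
  · have : Fact (Nat.Prime 41) := ⟨by norm_num⟩
    exact absurd hn (ne_of_sylCheck hG 3813 41 1 93 (by norm_num) (by norm_num) (by norm_num) (by norm_num) (by decide +kernel))
  · have : Fact (Nat.Prime 1907) := ⟨by norm_num⟩
    exact absurd hn (ne_of_sylCheck hG 3814 1907 1 2 (by norm_num) (by norm_num) (by norm_num) (by norm_num) (by decide +kernel))
  · have : Fact (Nat.Prime 109) := ⟨by norm_num⟩
    exact absurd hn (ne_of_sylCheck hG 3815 109 1 35 (by norm_num) (by norm_num) (by norm_num) (by norm_num) (by decide +kernel))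
  · have : Fact (Nat.Prime 53) := ⟨by norm_num⟩
    exact absurd hn (ne_of_sylCheck hG 3816 53 1 72 (by norm_num) (by norm_num) (by norm_num) (by norm_num) (by decide +kernel))
  · have : Fact (Nat.Prime 347) := ⟨by norm_num⟩
    exact absurd hn (ne_of_sylCheck hG 3817 347 1 11 (by norm_num) (by norm_num) (by norm_num) (by norm_num) (by decide +kernel))
  · have : Fact (Nat.Prime 83) := ⟨by norm_num⟩
    exact absurd hn (ne_of_sylCheck hG 3818 83 1 46 (by norm_num) (by norm_num) (by norm_num) (by norm_num) (by decide +kernel))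
  · have : Fact (Nat.Prime 67) := ⟨by norm_num⟩
    exact absurd hn (ne_of_sylCheck hG 3819 67 1 57 (by norm_num) (by norm_num) (by norm_num) (by norm_num) (by decide +kernel))
  · have : Fact (Nat.Prime 191) := ⟨by norm_num⟩
    exact absurd hn (ne_of_sylCheck hG 3820 191 1 20 (by norm_num) (by norm_num) (by norm_num) (by norm_num) (by decide +kernel))
  · exact absurd hn (ne_ppow hG 3821 1 (by norm_num))
  · exact absurd hn (Cfsg.Agent.S0493.ne_two_odd 1911 (by decide +kernel))
  · exact absurd hn (ne_ppow hG 3823 1 (by norm_num))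
  · have : Fact (Nat.Prime 239) := ⟨by norm_num⟩
    exact absurd hn (ne_of_sylCheck hG 3824 239 1 16 (by norm_num) (by norm_num) (by norm_num) (by norm_num) (by decide +kernel))
  · have : Fact (Nat.Prime 17) := ⟨by norm_num⟩
    exact absurd hn (ne_of_sylCheck hG 3825 17 1 225 (by norm_num) (by norm_num) (by norm_num) (by norm_num) (by decide +kernel))
  · have : Fact (Nat.Prime 1913) := ⟨by norm_num⟩
    exact absurd hn (ne_of_sylCheck hG 3826 1913 1 2 (by norm_num) (by norm_num) (by norm_num) (by norm_num) (by decide +kernel))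
  · have : Fact (Nat.Prime 89) := ⟨by norm_num⟩
    exact absurd hn (ne_of_sylCheck hG 3827 89 1 43 (by norm_num) (by norm_num) (by norm_num) (by norm_num) (by decide +kernel))
  · have : Fact (Nat.Prime 29) := ⟨by norm_num⟩
    exact absurd hn (ne_of_sylCheck hG 3828 29 1 132 (by norm_num) (by norm_num) (by norm_num) (by norm_num) (by decide +kernel))
  · have : Fact (Nat.Prime 547) := ⟨by norm_num⟩
    exact absurd hn (ne_of_sylCheck hG 3829 547 1 7 (by norm_num) (by norm_num) (by norm_num) (by norm_num) (by decide +kernel))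
  · have : Fact (Nat.Prime 383) := ⟨by norm_num⟩
    exact absurd hn (ne_of_sylCheck hG 3830 383 1 10 (by norm_num) (by norm_num) (by norm_num) (by norm_num) (by decide +kernel))
  · have : Fact (Nat.Prime 1277) := ⟨by norm_num⟩
    exact absurd hn (ne_of_sylCheck hG 3831 1277 1 3 (by norm_num) (by norm_num) (by norm_num) (by norm_num) (by decide +kernel))
  · have : Fact (Nat.Prime 479) := ⟨by norm_num⟩
    exact absurd hn (ne_of_sylCheck hG 3832 479 1 8 (by norm_num) (by norm_num) (by norm_num) (by norm_num) (by decide +kernel))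
  · exact absurd hn (ne_ppow hG 3833 1 (by norm_num))
  · have : Fact (Nat.Prime 71) := ⟨by norm_num⟩
    exact absurd hn (ne_of_sylCheck hG 3834 71 1 54 (by norm_num) (by norm_num) (by norm_num) (by norm_num) (by decide +kernel))
  · have : Fact (Nat.Prime 59) := ⟨by norm_num⟩
    exact absurd hn (ne_of_sylCheck hG 3835 59 1 65 (by norm_num) (by norm_num) (by norm_num) (by norm_num) (by decide +kernel))
  · have : Fact (Nat.Prime 137) := ⟨by norm_num⟩
    exact absurd hn (ne_of_sylCheck hG 3836 137 1 28 (by norm_num) (by norm_num) (by norm_num) (by norm_num) (by decide +kernel))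
  · have : Fact (Nat.Prime 1279) := ⟨by norm_num⟩
    exact absurd hn (ne_of_sylCheck hG 3837 1279 1 3 (by norm_num) (by norm_num) (by norm_num) (by norm_num) (by decide +kernel))
  · have : Fact (Nat.Prime 101) := ⟨by norm_num⟩
    exact absurd hn (ne_of_sylCheck hG 3838 101 1 38 (by norm_num) (by norm_num) (by norm_num) (by norm_num) (by decide +kernel))
  · have : Fact (Nat.Prime 349) := ⟨by norm_num⟩
    exact absurd hn (ne_of_sylCheck hG 3839 349 1 11 (by norm_num) (by norm_num) (by norm_num) (by norm_num) (by decide +kernel))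
  · exact absurd hn s3840
  · have : Fact (Nat.Prime 167) := ⟨by norm_num⟩
    exact absurd hn (ne_of_sylCheck hG 3841 167 1 23 (by norm_num) (by norm_num) (by norm_num) (by norm_num) (by decide +kernel))
  · have : Fact (Nat.Prime 113) := ⟨by norm_num⟩
    exact absurd hn (ne_of_sylCheck hG 3842 113 1 34 (by norm_num) (by norm_num) (by norm_num) (by norm_num) (by decide +kernel))
  · have : Fact (Nat.Prime 61) := ⟨by norm_num⟩
    exact absurd hn (ne_of_sylCheck hG 3843 61 1 63 (by norm_num) (by norm_num) (by norm_num) (by norm_num) (by decide +kernel))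
  · have : Fact (Nat.Prime 31) := ⟨by norm_num⟩
    exact absurd hn (ne_of_sylCheck hG 3844 31 2 4 (by norm_num) (by norm_num) (by norm_num) (by norm_num) (by decide +kernel))
  · have : Fact (Nat.Prime 769) := ⟨by norm_num⟩
    exact absurd hn (ne_of_sylCheck hG 3845 769 1 5 (by norm_num) (by norm_num) (by norm_num) (by norm_num) (by decide +kernel))
  · have : Fact (Nat.Prime 641) := ⟨by norm_num⟩
    exact absurd hn (ne_of_sylCheck hG 3846 641 1 6 (by norm_num) (by norm_num) (by norm_num) (by norm_num) (by decide +kernel))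
  · exact absurd hn (ne_ppow hG 3847 1 (by norm_num))
  · have : Fact (Nat.Prime 37) := ⟨by norm_num⟩
    exact absurd hn (ne_of_sylCheck hG 3848 37 1 104 (by norm_num) (by norm_num) (by norm_num) (by norm_num) (by decide +kernel))
  · have : Fact (Nat.Prime 1283) := ⟨by norm_num⟩
    exact absurd hn (ne_of_sylCheck hG 3849 1283 1 3 (by norm_num) (by norm_num) (by norm_num) (by norm_num) (by decide +kernel))
  · have : Fact (Nat.Prime 11) := ⟨by norm_num⟩
    exact absurd hn (ne_of_sylCheck hG 3850 11 1 350 (by norm_num) (by norm_num) (by norm_num) (by norm_num) (by decide +kernel))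
  · exact absurd hn (ne_ppow hG 3851 1 (by norm_num))
  · have : Fact (Nat.Prime 107) := ⟨by norm_num⟩
    exact absurd hn (ne_of_sylCheck hG 3852 107 1 36 (by norm_num) (by norm_num) (by norm_num) (by norm_num) (by decide +kernel))
  · exact absurd hn (ne_ppow hG 3853 1 (by norm_num))
  · have : Fact (Nat.Prime 47) := ⟨by norm_num⟩
    exact absurd hn (ne_of_sylCheck hG 3854 47 1 82 (by norm_num) (by norm_num) (by norm_num) (by norm_num) (by decide +kernel))
  · have : Fact (Nat.Prime 257) := ⟨by norm_num⟩
    exact absurd hn (ne_of_sylCheck hG 3855 257 1 15 (by norm_num) (by norm_num) (by norm_num) (by norm_num) (by decide +kernel))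
  · have : Fact (Nat.Prime 241) := ⟨by norm_num⟩
    exact absurd hn (ne_of_sylCheck hG 3856 241 1 16 (by norm_num) (by norm_num) (by norm_num) (by norm_num) (by decide +kernel))
  · have : Fact (Nat.Prime 29) := ⟨by norm_num⟩
    exact absurd hn (ne_of_sylCheck hG 3857 29 1 133 (by norm_num) (by norm_num) (by norm_num) (by norm_num) (by decide +kernel))
  · have : Fact (Nat.Prime 643) := ⟨by norm_num⟩
    exact absurd hn (ne_of_sylCheck hG 3858 643 1 6 (by norm_num) (by norm_num) (by norm_num) (by norm_num) (by decide +kernel))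
  · have : Fact (Nat.Prime 227) := ⟨by norm_num⟩
    exact absurd hn (ne_of_sylCheck hG 3859 227 1 17 (by norm_num) (by norm_num) (by norm_num) (by norm_num) (by decide +kernel))
  · have : Fact (Nat.Prime 193) := ⟨by norm_num⟩
    exact absurd hn (ne_of_sylCheck hG 3860 193 1 20 (by norm_num) (by norm_num) (by norm_num) (by norm_num) (by decide +kernel))
  · have : Fact (Nat.Prime 11) := ⟨by norm_num⟩
    exact absurd hn (ne_of_sylCheck hG 3861 11 1 351 (by norm_num) (by norm_num) (by norm_num) (by norm_num) (by decide +kernel))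
  · have : Fact (Nat.Prime 1931) := ⟨by norm_num⟩
    exact absurd hn (ne_of_sylCheck hG 3862 1931 1 2 (by norm_num) (by norm_num) (by norm_num) (by norm_num) (by decide +kernel))
  · exact absurd hn (ne_ppow hG 3863 1 (by norm_num))
  · have : Fact (Nat.Prime 23) := ⟨by norm_num⟩
    exact absurd hn (ne_of_ncfpCheck hG 3864 23 168 (by norm_num) (by norm_num) (by norm_num) (by decide +kernel))
  · have : Fact (Nat.Prime 773) := ⟨by norm_num⟩
    exact absurd hn (ne_of_sylCheck hG 3865 773 1 5 (by norm_num) (by norm_num) (by norm_num) (by norm_num) (by decide +kernel))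
  · have : Fact (Nat.Prime 1933) := ⟨by norm_num⟩
    exact absurd hn (ne_of_sylCheck hG 3866 1933 1 2 (by norm_num) (by norm_num) (by norm_num) (by norm_num) (by decide +kernel))
  · have : Fact (Nat.Prime 1289) := ⟨by norm_num⟩
    exact absurd hn (ne_of_sylCheck hG 3867 1289 1 3 (by norm_num) (by norm_num) (by norm_num) (by norm_num) (by decide +kernel))
  · have : Fact (Nat.Prime 967) := ⟨by norm_num⟩
    exact absurd hn (ne_of_sylCheck hG 3868 967 1 4 (by norm_num) (by norm_num) (by norm_num) (by norm_num) (by decide +kernel))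
  · have : Fact (Nat.Prime 73) := ⟨by norm_num⟩
    exact absurd hn (ne_of_sylCheck hG 3869 73 1 53 (by norm_num) (by norm_num) (by norm_num) (by norm_num) (by decide +kernel))
  · have : Fact (Nat.Prime 43) := ⟨by norm_num⟩
    exact absurd hn (ne_of_sylCheck hG 3870 43 1 90 (by norm_num) (by norm_num) (by norm_num) (by norm_num) (by decide +kernel))
  · have : Fact (Nat.Prime 79) := ⟨by norm_num⟩
    exact absurd hn (ne_of_sylCheck hG 3871 79 1 49 (by norm_num) (by norm_num) (by norm_num) (by norm_num) (by decide +kernel))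
  · have : Fact (Nat.Prime 11) := ⟨by norm_num⟩
    exact absurd hn (ne_of_sylCheck hG 3872 11 2 32 (by norm_num) (by norm_num) (by norm_num) (by norm_num) (by decide +kernel))
  · have : Fact (Nat.Prime 1291) := ⟨by norm_num⟩
    exact absurd hn (ne_of_sylCheck hG 3873 1291 1 3 (by norm_num) (by norm_num) (by norm_num) (by norm_num) (by decide +kernel))
  · have : Fact (Nat.Prime 149) := ⟨by norm_num⟩
    exact absurd hn (ne_of_sylCheck hG 3874 149 1 26 (by norm_num) (by norm_num) (by norm_num) (by norm_num) (by decide +kernel))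
  · exact absurd hn (ne_paqb hG 5 31 3 1 (by norm_num) (by norm_num))
  · have : Fact (Nat.Prime 19) := ⟨by norm_num⟩
    exact absurd hn (ne_of_sylCheck hG 3876 19 1 204 (by norm_num) (by norm_num) (by norm_num) (by norm_num) (by decide +kernel))
  · exact absurd hn (ne_ppow hG 3877 1 (by norm_num))
  · have : Fact (Nat.Prime 277) := ⟨by norm_num⟩
    exact absurd hn (ne_of_sylCheck hG 3878 277 1 14 (by norm_num) (by norm_num) (by norm_num) (by norm_num) (by decide +kernel))
  · have : Fact (Nat.Prime 431) := ⟨by norm_num⟩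
    exact absurd hn (ne_of_sylCheck hG 3879 431 1 9 (by norm_num) (by norm_num) (by norm_num) (by norm_num) (by decide +kernel))
  · have : Fact (Nat.Prime 97) := ⟨by norm_num⟩
    exact absurd hn (ne_of_sylCheck hG 3880 97 1 40 (by norm_num) (by norm_num) (by norm_num) (by norm_num) (by decide +kernel))
  · exact absurd hn (ne_ppow hG 3881 1 (by norm_num))
  · have : Fact (Nat.Prime 647) := ⟨by norm_num⟩
    exact absurd hn (ne_of_sylCheck hG 3882 647 1 6 (by norm_num) (by norm_num) (by norm_num) (by norm_num) (by decide +kernel))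
  · have : Fact (Nat.Prime 353) := ⟨by norm_num⟩
    exact absurd hn (ne_of_sylCheck hG 3883 353 1 11 (by norm_num) (by norm_num) (by norm_num) (by norm_num) (by decide +kernel))
  · have : Fact (Nat.Prime 971) := ⟨by norm_num⟩
    exact absurd hn (ne_of_sylCheck hG 3884 971 1 4 (by norm_num) (by norm_num) (by norm_num) (by norm_num) (by decide +kernel))
  · have : Fact (Nat.Prime 37) := ⟨by norm_num⟩
    exact absurd hn (ne_of_sylCheck hG 3885 37 1 105 (by norm_num) (by norm_num) (by norm_num) (by norm_num) (by decide +kernel))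
  · have : Fact (Nat.Prime 67) := ⟨by norm_num⟩
    exact absurd hn (ne_of_sylCheck hG 3886 67 1 58 (by norm_num) (by norm_num) (by norm_num) (by norm_num) (by decide +kernel))
  · have : Fact (Nat.Prime 23) := ⟨by norm_num⟩
    exact absurd hn (ne_of_sylCheck hG 3887 23 1 169 (by norm_num) (by norm_num) (by norm_num) (by norm_num) (by decide +kernel))
  · exact absurd hn (ne_paqb hG 2 3 4 5 (by norm_num) (by norm_num))
  · exact absurd hn (ne_ppow hG 3889 1 (by norm_num))
  · have : Fact (Nat.Prime 389) := ⟨by norm_num⟩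
    exact absurd hn (ne_of_sylCheck hG 3890 389 1 10 (by norm_num) (by norm_num) (by norm_num) (by norm_num) (by decide +kernel))
  · have : Fact (Nat.Prime 1297) := ⟨by norm_num⟩
    exact absurd hn (ne_of_sylCheck hG 3891 1297 1 3 (by norm_num) (by norm_num) (by norm_num) (by norm_num) (by decide +kernel))
  · have : Fact (Nat.Prime 139) := ⟨by norm_num⟩
    exact absurd hn (ne_of_sylCheck hG 3892 139 1 28 (by norm_num) (by norm_num) (by norm_num) (by norm_num) (by decide +kernel))
  · have : Fact (Nat.Prime 229) := ⟨by norm_num⟩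
    exact absurd hn (ne_of_sylCheck hG 3893 229 1 17 (by norm_num) (by norm_num) (by norm_num) (by norm_num) (by decide +kernel))
  · have : Fact (Nat.Prime 59) := ⟨by norm_num⟩
    exact absurd hn (ne_of_sylCheck hG 3894 59 1 66 (by norm_num) (by norm_num) (by norm_num) (by norm_num) (by decide +kernel))
  · have : Fact (Nat.Prime 41) := ⟨by norm_num⟩
    exact absurd hn (ne_of_sylCheck hG 3895 41 1 95 (by norm_num) (by norm_num) (by norm_num) (by norm_num) (by decide +kernel))
  · have : Fact (Nat.Prime 487) := ⟨by norm_num⟩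
    exact absurd hn (ne_of_sylCheck hG 3896 487 1 8 (by norm_num) (by norm_num) (by norm_num) (by norm_num) (by decide +kernel))
  · have : Fact (Nat.Prime 433) := ⟨by norm_num⟩
    exact absurd hn (ne_of_sylCheck hG 3897 433 1 9 (by norm_num) (by norm_num) (by norm_num) (by norm_num) (by decide +kernel))
  · have : Fact (Nat.Prime 1949) := ⟨by norm_num⟩
    exact absurd hn (ne_of_sylCheck hG 3898 1949 1 2 (by norm_num) (by norm_num) (by norm_num) (by norm_num) (by decide +kernel))
  · have : Fact (Nat.Prime 557) := ⟨by norm_num⟩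
    exact absurd hn (ne_of_sylCheck hG 3899 557 1 7 (by norm_num) (by norm_num) (by norm_num) (by norm_num) (by decide +kernel))

end Cfsg.Agent.Lib.H5.Sieve983
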