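import Mathlib
import Cfsg.Agent.Lib.H5.Ord.GenTests3

set_option autoImplicit false
set_option maxHeartbeats 1600000

/-! # Orders of non-abelian simple groups: the range 3900..3999 (generated).
The orders not killed by the generic tests are passed in as hypotheses. -/

namespace Cfsg.Agent.Lib.H5.Sieve983

open Cfsg.Agent.Lib.H5.GenTests

theorem chunk39 {G : Type*} [Group G] [Finite G] [IsSimpleGroup G]
    (hG : ¬ IsMulCommutative G) (h1 : 3900 ≤ Nat.card G) (h2 : Nat.card G ≤ 3999)
    (s3960 : Nat.card G ≠ 3960) :
    Nat.card G = 4080 ∨ Nat.card G = 5616 ∨ Nat.card G = 6048 ∨ Nat.card G = 6072 := by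
  obtain ⟨n, hn⟩ : ∃ n, Nat.card G = n := ⟨_, rfl⟩
  rw [hn] at h1 h2 ⊢
  interval_cases n
  · have : Fact (Nat.Prime 13) := ⟨by norm_num⟩
    exact absurd hn (ne_of_ncfpCheck hG 3900 13 300 (by norm_num) (by norm_num) (by norm_num) (by decide +kernel))
  · have : Fact (Nat.Prime 83) := ⟨by norm_num⟩
    exact absurd hn (ne_of_sylCheck hG 3901 83 1 47 (by norm_num) (by norm_num) (by norm_num) (by norm_num) (by decide +kernel))
  · have : Fact (Nat.Prime 1951) := ⟨by norm_num⟩
    exact absurd hn (ne_of_sylCheck hG 3902 1951 1 2 (by norm_num) (by norm_num) (by norm_num) (by norm_num) (by decide +kernel))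
  · have : Fact (Nat.Prime 1301) := ⟨by norm_num⟩
    exact absurd hn (ne_of_sylCheck hG 3903 1301 1 3 (by norm_num) (by norm_num) (by norm_num) (by norm_num) (by decide +kernel))
  · have : Fact (Nat.Prime 61) := ⟨by norm_num⟩
    exact absurd hn (ne_of_sylCheck hG 3904 61 1 64 (by norm_num) (by norm_num) (by norm_num) (by norm_num) (by decide +kernel))
  · have : Fact (Nat.Prime 71) := ⟨by norm_num⟩
    exact absurd hn (ne_of_sylCheck hG 3905 71 1 55 (by norm_num) (by norm_num) (by norm_num) (by norm_num) (by decide +kernel))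
  · have : Fact (Nat.Prime 7) := ⟨by norm_num⟩
    exact absurd hn (ne_of_sylCheck hG 3906 7 1 558 (by norm_num) (by norm_num) (by norm_num) (by norm_num) (by decide +kernel))
  · exact absurd hn (ne_ppow hG 3907 1 (by norm_num))
  · have : Fact (Nat.Prime 977) := ⟨by norm_num⟩
    exact absurd hn (ne_of_sylCheck hG 3908 977 1 4 (by norm_num) (by norm_num) (by norm_num) (by norm_num) (by decide +kernel))
  · have : Fact (Nat.Prime 1303) := ⟨by norm_num⟩
    exact absurd hn (ne_of_sylCheck hG 3909 1303 1 3 (by norm_num) (by norm_num) (by norm_num) (by norm_num) (by decide +kernel))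
  · have : Fact (Nat.Prime 23) := ⟨by norm_num⟩
    exact absurd hn (ne_of_sylCheck hG 3910 23 1 170 (by norm_num) (by norm_num) (by norm_num) (by norm_num) (by decide +kernel))
  · exact absurd hn (ne_ppow hG 3911 1 (by norm_num))
  · have : Fact (Nat.Prime 163) := ⟨by norm_num⟩
    exact absurd hn (ne_of_sylCheck hG 3912 163 1 24 (by norm_num) (by norm_num) (by norm_num) (by norm_num) (by decide +kernel))
  · have : Fact (Nat.Prime 43) := ⟨by norm_num⟩
    exact absurd hn (ne_of_sylCheck hG 3913 43 1 91 (by norm_num) (by norm_num) (by norm_num) (by norm_num) (by decide +kernel))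
  · have : Fact (Nat.Prime 103) := ⟨by norm_num⟩
    exact absurd hn (ne_of_sylCheck hG 3914 103 1 38 (by norm_num) (by norm_num) (by norm_num) (by norm_num) (by decide +kernel))
  · have : Fact (Nat.Prime 29) := ⟨by norm_num⟩
    exact absurd hn (ne_of_sylCheck hG 3915 29 1 135 (by norm_num) (by norm_num) (by norm_num) (by norm_num) (by decide +kernel))
  · have : Fact (Nat.Prime 89) := ⟨by norm_num⟩
    exact absurd hn (ne_of_sylCheck hG 3916 89 1 44 (by norm_num) (by norm_num) (by norm_num) (by norm_num) (by decide +kernel))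
  · exact absurd hn (ne_ppow hG 3917 1 (by norm_num))
  · have : Fact (Nat.Prime 653) := ⟨by norm_num⟩
    exact absurd hn (ne_of_sylCheck hG 3918 653 1 6 (by norm_num) (by norm_num) (by norm_num) (by norm_num) (by decide +kernel))
  · exact absurd hn (ne_ppow hG 3919 1 (by norm_num))
  · have : Fact (Nat.Prime 7) := ⟨by norm_num⟩
    exact absurd hn (ne_of_sylCheck hG 3920 7 2 80 (by norm_num) (by norm_num) (by norm_num) (by norm_num) (by decide +kernel))
  · have : Fact (Nat.Prime 1307) := ⟨by norm_num⟩
    exact absurd hn (ne_of_sylCheck hG 3921 1307 1 3 (by norm_num) (by norm_num) (by norm_num) (by norm_num) (by decide +kernel))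
  · have : Fact (Nat.Prime 53) := ⟨by norm_num⟩
    exact absurd hn (ne_of_sylCheck hG 3922 53 1 74 (by norm_num) (by norm_num) (by norm_num) (by norm_num) (by decide +kernel))
  · exact absurd hn (ne_ppow hG 3923 1 (by norm_num))
  · have : Fact (Nat.Prime 109) := ⟨by norm_num⟩
    exact absurd hn (ne_of_sylCheck hG 3924 109 1 36 (by norm_num) (by norm_num) (by norm_num) (by norm_num) (by decide +kernel))
  · have : Fact (Nat.Prime 157) := ⟨by norm_num⟩
    exact absurd hn (ne_of_sylCheck hG 3925 157 1 25 (by norm_num) (by norm_num) (by norm_num) (by norm_num) (by decide +kernel))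
  · have : Fact (Nat.Prime 151) := ⟨by norm_num⟩
    exact absurd hn (ne_of_sylCheck hG 3926 151 1 26 (by norm_num) (by norm_num) (by norm_num) (by norm_num) (by decide +kernel))
  · have : Fact (Nat.Prime 17) := ⟨by norm_num⟩
    exact absurd hn (ne_of_sylCheck hG 3927 17 1 231 (by norm_num) (by norm_num) (by norm_num) (by norm_num) (by decide +kernel))
  · have : Fact (Nat.Prime 491) := ⟨by norm_num⟩
    exact absurd hn (ne_of_sylCheck hG 3928 491 1 8 (by norm_num) (by norm_num) (by norm_num) (by norm_num) (by decide +kernel))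
  · exact absurd hn (ne_ppow hG 3929 1 (by norm_num))
  · have : Fact (Nat.Prime 131) := ⟨by norm_num⟩
    exact absurd hn (ne_of_sylCheck hG 3930 131 1 30 (by norm_num) (by norm_num) (by norm_num) (by norm_num) (by decide +kernel))
  · exact absurd hn (ne_ppow hG 3931 1 (by norm_num))
  · have : Fact (Nat.Prime 983) := ⟨by norm_num⟩
    exact absurd hn (ne_of_sylCheck hG 3932 983 1 4 (by norm_num) (by norm_num) (by norm_num) (by norm_num) (by decide +kernel))
  · have : Fact (Nat.Prime 23) := ⟨by norm_num⟩
    exact absurd hn (ne_of_sylCheck hG 3933 23 1 171 (by norm_num) (by norm_num) (by norm_num) (by norm_num) (by decide +kernel))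
  · have : Fact (Nat.Prime 281) := ⟨by norm_num⟩
    exact absurd hn (ne_of_sylCheck hG 3934 281 1 14 (by norm_num) (by norm_num) (by norm_num) (by norm_num) (by decide +kernel))
  · have : Fact (Nat.Prime 787) := ⟨by norm_num⟩
    exact absurd hn (ne_of_sylCheck hG 3935 787 1 5 (by norm_num) (by norm_num) (by norm_num) (by norm_num) (by decide +kernel))
  · have : Fact (Nat.Prime 41) := ⟨by norm_num⟩
    exact absurd hn (ne_of_sylCheck hG 3936 41 1 96 (by norm_num) (by norm_num) (by norm_num) (by norm_num) (by decide +kernel))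
  · have : Fact (Nat.Prime 127) := ⟨by norm_num⟩
    exact absurd hn (ne_of_sylCheck hG 3937 127 1 31 (by norm_num) (by norm_num) (by norm_num) (by norm_num) (by decide +kernel))
  · have : Fact (Nat.Prime 179) := ⟨by norm_num⟩
    exact absurd hn (ne_of_sylCheck hG 3938 179 1 22 (by norm_num) (by norm_num) (by norm_num) (by norm_num) (by decide +kernel))
  · have : Fact (Nat.Prime 101) := ⟨by norm_num⟩
    exact absurd hn (ne_of_sylCheck hG 3939 101 1 39 (by norm_num) (by norm_num) (by norm_num) (by norm_num) (by decide +kernel))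
  · have : Fact (Nat.Prime 197) := ⟨by norm_num⟩
    exact absurd hn (ne_of_sylCheck hG 3940 197 1 20 (by norm_num) (by norm_num) (by norm_num) (by norm_num) (by decide +kernel))
  · have : Fact (Nat.Prime 563) := ⟨by norm_num⟩
    exact absurd hn (ne_of_sylCheck hG 3941 563 1 7 (by norm_num) (by norm_num) (by norm_num) (by norm_num) (by decide +kernel))
  · have : Fact (Nat.Prime 73) := ⟨by norm_num⟩
    exact absurd hn (ne_of_sylCheck hG 3942 73 1 54 (by norm_num) (by norm_num) (by norm_num) (by norm_num) (by decide +kernel))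
  · exact absurd hn (ne_ppow hG 3943 1 (by norm_num))
  · have : Fact (Nat.Prime 29) := ⟨by norm_num⟩
    exact absurd hn (ne_of_sylCheck hG 3944 29 1 136 (by norm_num) (by norm_num) (by norm_num) (by norm_num) (by decide +kernel))
  · have : Fact (Nat.Prime 263) := ⟨by norm_num⟩
    exact absurd hn (ne_of_sylCheck hG 3945 263 1 15 (by norm_num) (by norm_num) (by norm_num) (by norm_num) (by decide +kernel))
  · have : Fact (Nat.Prime 1973) := ⟨by norm_num⟩
    exact absurd hn (ne_of_sylCheck hG 3946 1973 1 2 (by norm_num) (by norm_num) (by norm_num) (by norm_num) (by decide +kernel))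
  · exact absurd hn (ne_ppow hG 3947 1 (by norm_num))
  · have : Fact (Nat.Prime 47) := ⟨by norm_num⟩
    exact absurd hn (ne_of_sylCheck hG 3948 47 1 84 (by norm_num) (by norm_num) (by norm_num) (by norm_num) (by decide +kernel))
  · have : Fact (Nat.Prime 359) := ⟨by norm_num⟩
    exact absurd hn (ne_of_sylCheck hG 3949 359 1 11 (by norm_num) (by norm_num) (by norm_num) (by norm_num) (by decide +kernel))
  · have : Fact (Nat.Prime 79) := ⟨by norm_num⟩
    exact absurd hn (ne_of_sylCheck hG 3950 79 1 50 (by norm_num) (by norm_num) (by norm_num) (by norm_num) (by decide +kernel))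
  · have : Fact (Nat.Prime 439) := ⟨by norm_num⟩
    exact absurd hn (ne_of_sylCheck hG 3951 439 1 9 (by norm_num) (by norm_num) (by norm_num) (by norm_num) (by decide +kernel))
  · have : Fact (Nat.Prime 19) := ⟨by norm_num⟩
    exact absurd hn (ne_of_sylCheck hG 3952 19 1 208 (by norm_num) (by norm_num) (by norm_num) (by norm_num) (by decide +kernel))
  · have : Fact (Nat.Prime 67) := ⟨by norm_num⟩
    exact absurd hn (ne_of_sylCheck hG 3953 67 1 59 (by norm_num) (by norm_num) (by norm_num) (by norm_num) (by decide +kernel))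
  · have : Fact (Nat.Prime 659) := ⟨by norm_num⟩
    exact absurd hn (ne_of_sylCheck hG 3954 659 1 6 (by norm_num) (by norm_num) (by norm_num) (by norm_num) (by decide +kernel))
  · have : Fact (Nat.Prime 113) := ⟨by norm_num⟩
    exact absurd hn (ne_of_sylCheck hG 3955 113 1 35 (by norm_num) (by norm_num) (by norm_num) (by norm_num) (by decide +kernel))
  · have : Fact (Nat.Prime 43) := ⟨by norm_num⟩
    exact absurd hn (ne_of_sylCheck hG 3956 43 1 92 (by norm_num) (by norm_num) (by norm_num) (by norm_num) (by decide +kernel))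
  · have : Fact (Nat.Prime 1319) := ⟨by norm_num⟩
    exact absurd hn (ne_of_sylCheck hG 3957 1319 1 3 (by norm_num) (by norm_num) (by norm_num) (by norm_num) (by decide +kernel))
  · have : Fact (Nat.Prime 1979) := ⟨by norm_num⟩
    exact absurd hn (ne_of_sylCheck hG 3958 1979 1 2 (by norm_num) (by norm_num) (by norm_num) (by norm_num) (by decide +kernel))
  · have : Fact (Nat.Prime 107) := ⟨by norm_num⟩
    exact absurd hn (ne_of_sylCheck hG 3959 107 1 37 (by norm_num) (by norm_num) (by norm_num) (by norm_num) (by decide +kernel))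
  · exact absurd hn s3960
  · have : Fact (Nat.Prime 233) := ⟨by norm_num⟩
    exact absurd hn (ne_of_sylCheck hG 3961 233 1 17 (by norm_num) (by norm_num) (by norm_num) (by norm_num) (by decide +kernel))
  · have : Fact (Nat.Prime 283) := ⟨by norm_num⟩
    exact absurd hn (ne_of_sylCheck hG 3962 283 1 14 (by norm_num) (by norm_num) (by norm_num) (by norm_num) (by decide +kernel))
  · have : Fact (Nat.Prime 1321) := ⟨by norm_num⟩
    exact absurd hn (ne_of_sylCheck hG 3963 1321 1 3 (by norm_num) (by norm_num) (by norm_num) (by norm_num) (by decide +kernel))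
  · have : Fact (Nat.Prime 991) := ⟨by norm_num⟩
    exact absurd hn (ne_of_sylCheck hG 3964 991 1 4 (by norm_num) (by norm_num) (by norm_num) (by norm_num) (by decide +kernel))
  · have : Fact (Nat.Prime 61) := ⟨by norm_num⟩
    exact absurd hn (ne_of_sylCheck hG 3965 61 1 65 (by norm_num) (by norm_num) (by norm_num) (by norm_num) (by decide +kernel))
  · have : Fact (Nat.Prime 661) := ⟨by norm_num⟩
    exact absurd hn (ne_of_sylCheck hG 3966 661 1 6 (by norm_num) (by norm_num) (by norm_num) (by norm_num) (by decide +kernel))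
  · exact absurd hn (ne_ppow hG 3967 1 (by norm_num))
  · exact absurd hn (ne_paqb hG 2 31 7 1 (by norm_num) (by norm_num))
  · have : Fact (Nat.Prime 7) := ⟨by norm_num⟩
    exact absurd hn (ne_of_sylCheck hG 3969 7 2 81 (by norm_num) (by norm_num) (by norm_num) (by norm_num) (by decide +kernel))
  · have : Fact (Nat.Prime 397) := ⟨by norm_num⟩
    exact absurd hn (ne_of_sylCheck hG 3970 397 1 10 (by norm_num) (by norm_num) (by norm_num) (by norm_num) (by decide +kernel))
  · have : Fact (Nat.Prime 19) := ⟨by norm_num⟩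
    exact absurd hn (ne_of_sylCheck hG 3971 19 2 11 (by norm_num) (by norm_num) (by norm_num) (by norm_num) (by decide +kernel))
  · have : Fact (Nat.Prime 331) := ⟨by norm_num⟩
    exact absurd hn (ne_of_sylCheck hG 3972 331 1 12 (by norm_num) (by norm_num) (by norm_num) (by norm_num) (by decide +kernel))
  · have : Fact (Nat.Prime 137) := ⟨by norm_num⟩
    exact absurd hn (ne_of_sylCheck hG 3973 137 1 29 (by norm_num) (by norm_num) (by norm_num) (by norm_num) (by decide +kernel))
  · have : Fact (Nat.Prime 1987) := ⟨by norm_num⟩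
    exact absurd hn (ne_of_sylCheck hG 3974 1987 1 2 (by norm_num) (by norm_num) (by norm_num) (by norm_num) (by decide +kernel))
  · have : Fact (Nat.Prime 53) := ⟨by norm_num⟩
    exact absurd hn (ne_of_sylCheck hG 3975 53 1 75 (by norm_num) (by norm_num) (by norm_num) (by norm_num) (by decide +kernel))
  · have : Fact (Nat.Prime 71) := ⟨by norm_num⟩
    exact absurd hn (ne_of_sylCheck hG 3976 71 1 56 (by norm_num) (by norm_num) (by norm_num) (by norm_num) (by decide +kernel))
  · have : Fact (Nat.Prime 97) := ⟨by norm_num⟩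
    exact absurd hn (ne_of_sylCheck hG 3977 97 1 41 (by norm_num) (by norm_num) (by norm_num) (by norm_num) (by decide +kernel))
  · have : Fact (Nat.Prime 13) := ⟨by norm_num⟩
    exact absurd hn (ne_of_sylCheck hG 3978 13 1 306 (by norm_num) (by norm_num) (by norm_num) (by norm_num) (by decide +kernel))
  · have : Fact (Nat.Prime 173) := ⟨by norm_num⟩
    exact absurd hn (ne_of_sylCheck hG 3979 173 1 23 (by norm_num) (by norm_num) (by norm_num) (by norm_num) (by decide +kernel))
  · have : Fact (Nat.Prime 199) := ⟨by norm_num⟩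
    exact absurd hn (ne_of_sylCheck hG 3980 199 1 20 (by norm_num) (by norm_num) (by norm_num) (by norm_num) (by decide +kernel))
  · have : Fact (Nat.Prime 1327) := ⟨by norm_num⟩
    exact absurd hn (ne_of_sylCheck hG 3981 1327 1 3 (by norm_num) (by norm_num) (by norm_num) (by norm_num) (by decide +kernel))
  · have : Fact (Nat.Prime 181) := ⟨by norm_num⟩
    exact absurd hn (ne_of_sylCheck hG 3982 181 1 22 (by norm_num) (by norm_num) (by norm_num) (by norm_num) (by decide +kernel))
  · have : Fact (Nat.Prime 569) := ⟨by norm_num⟩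
    exact absurd hn (ne_of_sylCheck hG 3983 569 1 7 (by norm_num) (by norm_num) (by norm_num) (by norm_num) (by decide +kernel))
  · have : Fact (Nat.Prime 83) := ⟨by norm_num⟩
    exact absurd hn (ne_of_sylCheck hG 3984 83 1 48 (by norm_num) (by norm_num) (by norm_num) (by norm_num) (by decide +kernel))
  · have : Fact (Nat.Prime 797) := ⟨by norm_num⟩
    exact absurd hn (ne_of_sylCheck hG 3985 797 1 5 (by norm_num) (by norm_num) (by norm_num) (by norm_num) (by decide +kernel))
  · have : Fact (Nat.Prime 1993) := ⟨by norm_num⟩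
    exact absurd hn (ne_of_sylCheck hG 3986 1993 1 2 (by norm_num) (by norm_num) (by norm_num) (by norm_num) (by decide +kernel))
  · have : Fact (Nat.Prime 443) := ⟨by norm_num⟩
    exact absurd hn (ne_of_sylCheck hG 3987 443 1 9 (by norm_num) (by norm_num) (by norm_num) (by norm_num) (by decide +kernel))
  · have : Fact (Nat.Prime 997) := ⟨by norm_num⟩
    exact absurd hn (ne_of_sylCheck hG 3988 997 1 4 (by norm_num) (by norm_num) (by norm_num) (by norm_num) (by decide +kernel))
  · exact absurd hn (ne_ppow hG 3989 1 (by norm_num))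
  · exact absurd hn (Cfsg.Agent.S0493.ne_two_odd 1995 (by decide +kernel))
  · have : Fact (Nat.Prime 307) := ⟨by norm_num⟩
    exact absurd hn (ne_of_sylCheck hG 3991 307 1 13 (by norm_num) (by norm_num) (by norm_num) (by norm_num) (by decide +kernel))
  · have : Fact (Nat.Prime 499) := ⟨by norm_num⟩
    exact absurd hn (ne_of_sylCheck hG 3992 499 1 8 (by norm_num) (by norm_num) (by norm_num) (by norm_num) (by decide +kernel))
  · have : Fact (Nat.Prime 11) := ⟨by norm_num⟩
    exact absurd hn (ne_of_sylCheck hG 3993 11 3 3 (by norm_num) (by norm_num) (by norm_num) (by norm_num) (by decide +kernel))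
  · have : Fact (Nat.Prime 1997) := ⟨by norm_num⟩
    exact absurd hn (ne_of_sylCheck hG 3994 1997 1 2 (by norm_num) (by norm_num) (by norm_num) (by norm_num) (by decide +kernel))
  · have : Fact (Nat.Prime 47) := ⟨by norm_num⟩
    exact absurd hn (ne_of_sylCheck hG 3995 47 1 85 (by norm_num) (by norm_num) (by norm_num) (by norm_num) (by decide +kernel))
  · have : Fact (Nat.Prime 37) := ⟨by norm_num⟩
    exact absurd hn (ne_of_sylCheck hG 3996 37 1 108 (by norm_num) (by norm_num) (by norm_num) (by norm_num) (by decide +kernel))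
  · have : Fact (Nat.Prime 571) := ⟨by norm_num⟩
    exact absurd hn (ne_of_sylCheck hG 3997 571 1 7 (by norm_num) (by norm_num) (by norm_num) (by norm_num) (by decide +kernel))
  · have : Fact (Nat.Prime 1999) := ⟨by norm_num⟩
    exact absurd hn (ne_of_sylCheck hG 3998 1999 1 2 (by norm_num) (by norm_num) (by norm_num) (by norm_num) (by decide +kernel))
  · have : Fact (Nat.Prime 43) := ⟨by norm_num⟩
    exact absurd hn (ne_of_sylCheck hG 3999 43 1 93 (by norm_num) (by norm_num) (by norm_num) (by norm_num) (by decide +kernel))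

end Cfsg.Agent.Lib.H5.Sieve983
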