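import Mathlib
import Cfsg.Agent.Lib.H5.Ord.GenTests3

set_option autoImplicit false
set_option maxHeartbeats 1600000

/-! # Orders of non-abelian simple groups: the range 4000..4099 (generated).
The orders not killed by the generic tests are passed in as hypotheses. -/

namespace Cfsg.Agent.Lib.H5.Sieve983

open Cfsg.Agent.Lib.H5.GenTests

theorem chunk40 {G : Type*} [Group G] [Finite G] [IsSimpleGroup G]
    (hG : ¬ IsMulCommutative G) (h1 : 4000 ≤ Nat.card G) (h2 : Nat.card G ≤ 4099)
    (s4032 : Nat.card G ≠ 4032) :
    Nat.card G = 4080 ∨ Nat.card G = 5616 ∨ Nat.card G = 6048 ∨ Nat.card G = 6072 := by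
  obtain ⟨n, hn⟩ : ∃ n, Nat.card G = n := ⟨_, rfl⟩
  rw [hn] at h1 h2 ⊢
  interval_cases n
  · exact absurd hn (ne_paqb hG 2 5 5 3 (by norm_num) (by norm_num))
  · exact absurd hn (ne_ppow hG 4001 1 (by norm_num))
  · have : Fact (Nat.Prime 29) := ⟨by norm_num⟩
    exact absurd hn (ne_of_sylCheck hG 4002 29 1 138 (by norm_num) (by norm_num) (by norm_num) (by norm_num) (by decide +kernel))
  · exact absurd hn (ne_ppow hG 4003 1 (by norm_num))
  · have : Fact (Nat.Prime 11) := ⟨by norm_num⟩
    exact absurd hn (ne_of_ncfpCheck hG 4004 11 364 (by norm_num) (by norm_num) (by norm_num) (by decide +kernel))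
  · have : Fact (Nat.Prime 89) := ⟨by norm_num⟩
    exact absurd hn (ne_of_sylCheck hG 4005 89 1 45 (by norm_num) (by norm_num) (by norm_num) (by norm_num) (by decide +kernel))
  · have : Fact (Nat.Prime 2003) := ⟨by norm_num⟩
    exact absurd hn (ne_of_sylCheck hG 4006 2003 1 2 (by norm_num) (by norm_num) (by norm_num) (by norm_num) (by decide +kernel))
  · exact absurd hn (ne_ppow hG 4007 1 (by norm_num))
  · have : Fact (Nat.Prime 167) := ⟨by norm_num⟩
    exact absurd hn (ne_of_sylCheck hG 4008 167 1 24 (by norm_num) (by norm_num) (by norm_num) (by norm_num) (by decide +kernel))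
  · have : Fact (Nat.Prime 211) := ⟨by norm_num⟩
    exact absurd hn (ne_of_sylCheck hG 4009 211 1 19 (by norm_num) (by norm_num) (by norm_num) (by norm_num) (by decide +kernel))
  · have : Fact (Nat.Prime 401) := ⟨by norm_num⟩
    exact absurd hn (ne_of_sylCheck hG 4010 401 1 10 (by norm_num) (by norm_num) (by norm_num) (by norm_num) (by decide +kernel))
  · have : Fact (Nat.Prime 191) := ⟨by norm_num⟩
    exact absurd hn (ne_of_sylCheck hG 4011 191 1 21 (by norm_num) (by norm_num) (by norm_num) (by norm_num) (by decide +kernel))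
  · have : Fact (Nat.Prime 59) := ⟨by norm_num⟩
    exact absurd hn (ne_of_sylCheck hG 4012 59 1 68 (by norm_num) (by norm_num) (by norm_num) (by norm_num) (by decide +kernel))
  · exact absurd hn (ne_ppow hG 4013 1 (by norm_num))
  · have : Fact (Nat.Prime 223) := ⟨by norm_num⟩
    exact absurd hn (ne_of_sylCheck hG 4014 223 1 18 (by norm_num) (by norm_num) (by norm_num) (by norm_num) (by decide +kernel))
  · have : Fact (Nat.Prime 73) := ⟨by norm_num⟩
    exact absurd hn (ne_of_sylCheck hG 4015 73 1 55 (by norm_num) (by norm_num) (by norm_num) (by norm_num) (by decide +kernel))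
  · have : Fact (Nat.Prime 251) := ⟨by norm_num⟩
    exact absurd hn (ne_of_sylCheck hG 4016 251 1 16 (by norm_num) (by norm_num) (by norm_num) (by norm_num) (by decide +kernel))
  · have : Fact (Nat.Prime 103) := ⟨by norm_num⟩
    exact absurd hn (ne_of_sylCheck hG 4017 103 1 39 (by norm_num) (by norm_num) (by norm_num) (by norm_num) (by decide +kernel))
  · have : Fact (Nat.Prime 41) := ⟨by norm_num⟩
    exact absurd hn (ne_of_sylCheck hG 4018 41 1 98 (by norm_num) (by norm_num) (by norm_num) (by norm_num) (by decide +kernel))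
  · exact absurd hn (ne_ppow hG 4019 1 (by norm_num))
  · have : Fact (Nat.Prime 67) := ⟨by norm_num⟩
    exact absurd hn (ne_of_sylCheck hG 4020 67 1 60 (by norm_num) (by norm_num) (by norm_num) (by norm_num) (by decide +kernel))
  · exact absurd hn (ne_ppow hG 4021 1 (by norm_num))
  · have : Fact (Nat.Prime 2011) := ⟨by norm_num⟩
    exact absurd hn (ne_of_sylCheck hG 4022 2011 1 2 (by norm_num) (by norm_num) (by norm_num) (by norm_num) (by decide +kernel))
  · have : Fact (Nat.Prime 149) := ⟨by norm_num⟩
    exact absurd hn (ne_of_sylCheck hG 4023 149 1 27 (by norm_num) (by norm_num) (by norm_num) (by norm_num) (by decide +kernel))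
  · have : Fact (Nat.Prime 503) := ⟨by norm_num⟩
    exact absurd hn (ne_of_sylCheck hG 4024 503 1 8 (by norm_num) (by norm_num) (by norm_num) (by norm_num) (by decide +kernel))
  · have : Fact (Nat.Prime 23) := ⟨by norm_num⟩
    exact absurd hn (ne_of_sylCheck hG 4025 23 1 175 (by norm_num) (by norm_num) (by norm_num) (by norm_num) (by decide +kernel))
  · have : Fact (Nat.Prime 61) := ⟨by norm_num⟩
    exact absurd hn (ne_of_sylCheck hG 4026 61 1 66 (by norm_num) (by norm_num) (by norm_num) (by norm_num) (by decide +kernel))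
  · exact absurd hn (ne_ppow hG 4027 1 (by norm_num))
  · have : Fact (Nat.Prime 53) := ⟨by norm_num⟩
    exact absurd hn (ne_of_sylCheck hG 4028 53 1 76 (by norm_num) (by norm_num) (by norm_num) (by norm_num) (by decide +kernel))
  · have : Fact (Nat.Prime 79) := ⟨by norm_num⟩
    exact absurd hn (ne_of_sylCheck hG 4029 79 1 51 (by norm_num) (by norm_num) (by norm_num) (by norm_num) (by decide +kernel))
  · have : Fact (Nat.Prime 31) := ⟨by norm_num⟩
    exact absurd hn (ne_of_sylCheck hG 4030 31 1 130 (by norm_num) (by norm_num) (by norm_num) (by norm_num) (by decide +kernel))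
  · have : Fact (Nat.Prime 139) := ⟨by norm_num⟩
    exact absurd hn (ne_of_sylCheck hG 4031 139 1 29 (by norm_num) (by norm_num) (by norm_num) (by norm_num) (by decide +kernel))
  · exact absurd hn s4032
  · have : Fact (Nat.Prime 109) := ⟨by norm_num⟩
    exact absurd hn (ne_of_sylCheck hG 4033 109 1 37 (by norm_num) (by norm_num) (by norm_num) (by norm_num) (by decide +kernel))
  · have : Fact (Nat.Prime 2017) := ⟨by norm_num⟩
    exact absurd hn (ne_of_sylCheck hG 4034 2017 1 2 (by norm_num) (by norm_num) (by norm_num) (by norm_num) (by decide +kernel))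
  · have : Fact (Nat.Prime 269) := ⟨by norm_num⟩
    exact absurd hn (ne_of_sylCheck hG 4035 269 1 15 (by norm_num) (by norm_num) (by norm_num) (by norm_num) (by decide +kernel))
  · have : Fact (Nat.Prime 1009) := ⟨by norm_num⟩
    exact absurd hn (ne_of_sylCheck hG 4036 1009 1 4 (by norm_num) (by norm_num) (by norm_num) (by norm_num) (by decide +kernel))
  · have : Fact (Nat.Prime 367) := ⟨by norm_num⟩
    exact absurd hn (ne_of_sylCheck hG 4037 367 1 11 (by norm_num) (by norm_num) (by norm_num) (by norm_num) (by decide +kernel))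
  · have : Fact (Nat.Prime 673) := ⟨by norm_num⟩
    exact absurd hn (ne_of_sylCheck hG 4038 673 1 6 (by norm_num) (by norm_num) (by norm_num) (by norm_num) (by decide +kernel))
  · have : Fact (Nat.Prime 577) := ⟨by norm_num⟩
    exact absurd hn (ne_of_sylCheck hG 4039 577 1 7 (by norm_num) (by norm_num) (by norm_num) (by norm_num) (by decide +kernel))
  · have : Fact (Nat.Prime 101) := ⟨by norm_num⟩
    exact absurd hn (ne_of_sylCheck hG 4040 101 1 40 (by norm_num) (by norm_num) (by norm_num) (by norm_num) (by decide +kernel))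
  · have : Fact (Nat.Prime 449) := ⟨by norm_num⟩
    exact absurd hn (ne_of_sylCheck hG 4041 449 1 9 (by norm_num) (by norm_num) (by norm_num) (by norm_num) (by decide +kernel))
  · have : Fact (Nat.Prime 47) := ⟨by norm_num⟩
    exact absurd hn (ne_of_sylCheck hG 4042 47 1 86 (by norm_num) (by norm_num) (by norm_num) (by norm_num) (by decide +kernel))
  · have : Fact (Nat.Prime 311) := ⟨by norm_num⟩
    exact absurd hn (ne_of_sylCheck hG 4043 311 1 13 (by norm_num) (by norm_num) (by norm_num) (by norm_num) (by decide +kernel))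
  · have : Fact (Nat.Prime 337) := ⟨by norm_num⟩
    exact absurd hn (ne_of_sylCheck hG 4044 337 1 12 (by norm_num) (by norm_num) (by norm_num) (by norm_num) (by decide +kernel))
  · have : Fact (Nat.Prime 809) := ⟨by norm_num⟩
    exact absurd hn (ne_of_sylCheck hG 4045 809 1 5 (by norm_num) (by norm_num) (by norm_num) (by norm_num) (by decide +kernel))
  · have : Fact (Nat.Prime 17) := ⟨by norm_num⟩
    exact absurd hn (ne_of_sylCheck hG 4046 17 2 14 (by norm_num) (by norm_num) (by norm_num) (by norm_num) (by decide +kernel))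
  · have : Fact (Nat.Prime 71) := ⟨by norm_num⟩
    exact absurd hn (ne_of_sylCheck hG 4047 71 1 57 (by norm_num) (by norm_num) (by norm_num) (by norm_num) (by decide +kernel))
  · have : Fact (Nat.Prime 23) := ⟨by norm_num⟩
    exact absurd hn (ne_of_sylCheck hG 4048 23 1 176 (by norm_num) (by norm_num) (by norm_num) (by norm_num) (by decide +kernel))
  · exact absurd hn (ne_ppow hG 4049 1 (by norm_num))
  · exact absurd hn (Cfsg.Agent.S0493.ne_two_odd 2025 (by decide +kernel))
  · exact absurd hn (ne_ppow hG 4051 1 (by norm_num))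
  · have : Fact (Nat.Prime 1013) := ⟨by norm_num⟩
    exact absurd hn (ne_of_sylCheck hG 4052 1013 1 4 (by norm_num) (by norm_num) (by norm_num) (by norm_num) (by decide +kernel))
  · have : Fact (Nat.Prime 193) := ⟨by norm_num⟩
    exact absurd hn (ne_of_sylCheck hG 4053 193 1 21 (by norm_num) (by norm_num) (by norm_num) (by norm_num) (by decide +kernel))
  · have : Fact (Nat.Prime 2027) := ⟨by norm_num⟩
    exact absurd hn (ne_of_sylCheck hG 4054 2027 1 2 (by norm_num) (by norm_num) (by norm_num) (by norm_num) (by decide +kernel))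
  · have : Fact (Nat.Prime 811) := ⟨by norm_num⟩
    exact absurd hn (ne_of_sylCheck hG 4055 811 1 5 (by norm_num) (by norm_num) (by norm_num) (by norm_num) (by decide +kernel))
  · have : Fact (Nat.Prime 13) := ⟨by norm_num⟩
    exact absurd hn (ne_of_sylCheck hG 4056 13 2 24 (by norm_num) (by norm_num) (by norm_num) (by norm_num) (by decide +kernel))
  · exact absurd hn (ne_ppow hG 4057 1 (by norm_num))
  · have : Fact (Nat.Prime 2029) := ⟨by norm_num⟩
    exact absurd hn (ne_of_sylCheck hG 4058 2029 1 2 (by norm_num) (by norm_num) (by norm_num) (by norm_num) (by decide +kernel))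
  · have : Fact (Nat.Prime 41) := ⟨by norm_num⟩
    exact absurd hn (ne_of_sylCheck hG 4059 41 1 99 (by norm_num) (by norm_num) (by norm_num) (by norm_num) (by decide +kernel))
  · have : Fact (Nat.Prime 29) := ⟨by norm_num⟩
    exact absurd hn (ne_of_sylCheck hG 4060 29 1 140 (by norm_num) (by norm_num) (by norm_num) (by norm_num) (by decide +kernel))
  · have : Fact (Nat.Prime 131) := ⟨by norm_num⟩
    exact absurd hn (ne_of_sylCheck hG 4061 131 1 31 (by norm_num) (by norm_num) (by norm_num) (by norm_num) (by decide +kernel))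
  · have : Fact (Nat.Prime 677) := ⟨by norm_num⟩
    exact absurd hn (ne_of_sylCheck hG 4062 677 1 6 (by norm_num) (by norm_num) (by norm_num) (by norm_num) (by decide +kernel))
  · have : Fact (Nat.Prime 239) := ⟨by norm_num⟩
    exact absurd hn (ne_of_sylCheck hG 4063 239 1 17 (by norm_num) (by norm_num) (by norm_num) (by norm_num) (by decide +kernel))
  · have : Fact (Nat.Prime 127) := ⟨by norm_num⟩
    exact absurd hn (ne_of_sylCheck hG 4064 127 1 32 (by norm_num) (by norm_num) (by norm_num) (by norm_num) (by decide +kernel))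
  · have : Fact (Nat.Prime 271) := ⟨by norm_num⟩
    exact absurd hn (ne_of_sylCheck hG 4065 271 1 15 (by norm_num) (by norm_num) (by norm_num) (by norm_num) (by decide +kernel))
  · have : Fact (Nat.Prime 107) := ⟨by norm_num⟩
    exact absurd hn (ne_of_sylCheck hG 4066 107 1 38 (by norm_num) (by norm_num) (by norm_num) (by norm_num) (by decide +kernel))
  · have : Fact (Nat.Prime 83) := ⟨by norm_num⟩
    exact absurd hn (ne_of_sylCheck hG 4067 83 1 49 (by norm_num) (by norm_num) (by norm_num) (by norm_num) (by decide +kernel))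
  · have : Fact (Nat.Prime 113) := ⟨by norm_num⟩
    exact absurd hn (ne_of_sylCheck hG 4068 113 1 36 (by norm_num) (by norm_num) (by norm_num) (by norm_num) (by decide +kernel))
  · have : Fact (Nat.Prime 313) := ⟨by norm_num⟩
    exact absurd hn (ne_of_sylCheck hG 4069 313 1 13 (by norm_num) (by norm_num) (by norm_num) (by norm_num) (by decide +kernel))
  · have : Fact (Nat.Prime 37) := ⟨by norm_num⟩
    exact absurd hn (ne_of_sylCheck hG 4070 37 1 110 (by norm_num) (by norm_num) (by norm_num) (by norm_num) (by decide +kernel))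
  · have : Fact (Nat.Prime 59) := ⟨by norm_num⟩
    exact absurd hn (ne_of_sylCheck hG 4071 59 1 69 (by norm_num) (by norm_num) (by norm_num) (by norm_num) (by decide +kernel))
  · have : Fact (Nat.Prime 509) := ⟨by norm_num⟩
    exact absurd hn (ne_of_sylCheck hG 4072 509 1 8 (by norm_num) (by norm_num) (by norm_num) (by norm_num) (by decide +kernel))
  · exact absurd hn (ne_ppow hG 4073 1 (by norm_num))
  · have : Fact (Nat.Prime 97) := ⟨by norm_num⟩
    exact absurd hn (ne_of_sylCheck hG 4074 97 1 42 (by norm_num) (by norm_num) (by norm_num) (by norm_num) (by decide +kernel))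
  · have : Fact (Nat.Prime 163) := ⟨by norm_num⟩
    exact absurd hn (ne_of_sylCheck hG 4075 163 1 25 (by norm_num) (by norm_num) (by norm_num) (by norm_num) (by decide +kernel))
  · have : Fact (Nat.Prime 1019) := ⟨by norm_num⟩
    exact absurd hn (ne_of_sylCheck hG 4076 1019 1 4 (by norm_num) (by norm_num) (by norm_num) (by norm_num) (by decide +kernel))
  · have : Fact (Nat.Prime 151) := ⟨by norm_num⟩
    exact absurd hn (ne_of_sylCheck hG 4077 151 1 27 (by norm_num) (by norm_num) (by norm_num) (by norm_num) (by decide +kernel))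
  · have : Fact (Nat.Prime 2039) := ⟨by norm_num⟩
    exact absurd hn (ne_of_sylCheck hG 4078 2039 1 2 (by norm_num) (by norm_num) (by norm_num) (by norm_num) (by decide +kernel))
  · exact absurd hn (ne_ppow hG 4079 1 (by norm_num))
  · norm_num
  · have : Fact (Nat.Prime 53) := ⟨by norm_num⟩
    exact absurd hn (ne_of_sylCheck hG 4081 53 1 77 (by norm_num) (by norm_num) (by norm_num) (by norm_num) (by decide +kernel))
  · have : Fact (Nat.Prime 157) := ⟨by norm_num⟩
    exact absurd hn (ne_of_sylCheck hG 4082 157 1 26 (by norm_num) (by norm_num) (by norm_num) (by norm_num) (by decide +kernel))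
  · have : Fact (Nat.Prime 1361) := ⟨by norm_num⟩
    exact absurd hn (ne_of_sylCheck hG 4083 1361 1 3 (by norm_num) (by norm_num) (by norm_num) (by norm_num) (by decide +kernel))
  · have : Fact (Nat.Prime 1021) := ⟨by norm_num⟩
    exact absurd hn (ne_of_sylCheck hG 4084 1021 1 4 (by norm_num) (by norm_num) (by norm_num) (by norm_num) (by decide +kernel))
  · have : Fact (Nat.Prime 43) := ⟨by norm_num⟩
    exact absurd hn (ne_of_sylCheck hG 4085 43 1 95 (by norm_num) (by norm_num) (by norm_num) (by norm_num) (by decide +kernel))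
  · have : Fact (Nat.Prime 227) := ⟨by norm_num⟩
    exact absurd hn (ne_of_sylCheck hG 4086 227 1 18 (by norm_num) (by norm_num) (by norm_num) (by norm_num) (by decide +kernel))
  · have : Fact (Nat.Prime 67) := ⟨by norm_num⟩
    exact absurd hn (ne_of_sylCheck hG 4087 67 1 61 (by norm_num) (by norm_num) (by norm_num) (by norm_num) (by decide +kernel))
  · have : Fact (Nat.Prime 73) := ⟨by norm_num⟩
    exact absurd hn (ne_of_sylCheck hG 4088 73 1 56 (by norm_num) (by norm_num) (by norm_num) (by norm_num) (by decide +kernel))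
  · have : Fact (Nat.Prime 47) := ⟨by norm_num⟩
    exact absurd hn (ne_of_sylCheck hG 4089 47 1 87 (by norm_num) (by norm_num) (by norm_num) (by norm_num) (by decide +kernel))
  · have : Fact (Nat.Prime 409) := ⟨by norm_num⟩
    exact absurd hn (ne_of_sylCheck hG 4090 409 1 10 (by norm_num) (by norm_num) (by norm_num) (by norm_num) (by decide +kernel))
  · exact absurd hn (ne_ppow hG 4091 1 (by norm_num))
  · have : Fact (Nat.Prime 31) := ⟨by norm_num⟩
    exact absurd hn (ne_of_sylCheck hG 4092 31 1 132 (by norm_num) (by norm_num) (by norm_num) (by norm_num) (by decide +kernel))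
  · exact absurd hn (ne_ppow hG 4093 1 (by norm_num))
  · have : Fact (Nat.Prime 89) := ⟨by norm_num⟩
    exact absurd hn (ne_of_sylCheck hG 4094 89 1 46 (by norm_num) (by norm_num) (by norm_num) (by norm_num) (by decide +kernel))
  · have : Fact (Nat.Prime 5) := ⟨by norm_num⟩
    exact absurd hn (ne_of_ncfpCheck hG 4095 5 819 (by norm_num) (by norm_num) (by norm_num) (by decide +kernel))
  · exact absurd hn (ne_ppow hG 2 12 (by norm_num))
  · have : Fact (Nat.Prime 241) := ⟨by norm_num⟩
    exact absurd hn (ne_of_sylCheck hG 4097 241 1 17 (by norm_num) (by norm_num) (by norm_num) (by norm_num) (by decide +kernel))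
  · have : Fact (Nat.Prime 683) := ⟨by norm_num⟩
    exact absurd hn (ne_of_sylCheck hG 4098 683 1 6 (by norm_num) (by norm_num) (by norm_num) (by norm_num) (by decide +kernel))
  · exact absurd hn (ne_ppow hG 4099 1 (by norm_num))

end Cfsg.Agent.Lib.H5.Sieve983
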